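/-
Abelian groups of automorphisms that are transitive on the nonidentity elements: the normalizer
acts semilinearly.  Identification of one-dimensional affine and semi-affine groups.
-/
import Cfsg.Agent.P6.GL1
import Cfsg.Agent.L.BSW2
import Cfsg.Prelude.Def_Perm

set_option autoImplicit false
set_option linter.unusedSectionVars false
set_option linter.style.haveILetI false

namespace Cfsg.Agent.Cj

open Subgroup Cfsg Cfsg.Agent Cfsg.Agent.FT
open scoped IsMulCommutative commutatorElement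

universe u

instance fact2 : Fact (Nat.Prime 2) := Nat.fact_prime_two

theorem exists_semi {M : Type u} [CommGroup M] [Finite M] {n : ℕ} (hn : n ≠ 0)
    (hM : Nat.card M = 2 ^ n) (F : Subgroup (MulAut M)) (hF : IsMulCommutative F) {e : M}
    (he : e ≠ 1) (ht : ∀ v, v ≠ 1 → ∃ f ∈ F, f e = v) :
    ∃ ψ : M ≃ GaloisField 2 n, (∀ v w, ψ (v * w) = ψ v + ψ w) ∧ ψ e = 1 ∧
      (∀ f ∈ F, ∀ v, ψ (f v) = ψ (f e) * ψ v) ∧
      ∀ d ∈ 𝐍(F), ∃ σ : GaloisField 2 n ≃+* GaloisField 2 n, ∀ v, ψ (d v) = ψ (d e) * σ (ψ v) := by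
  classical
  obtain ⟨K, _, φ, h1, h2⟩ := L.exists_field_of_transitive (V := Additive M) (H := F)
    (fun h => MulEquiv.toAdditive (h : MulAut M)) (fun v => rfl) (fun a b v => rfl)
    (fun a b => mul_comm a b) (Additive.ofMul e) he (fun v hv => by
      obtain ⟨f, hf, h⟩ := ht (Additive.toMul v) hv
      exact ⟨⟨f, hf⟩, h⟩)
  haveI : Finite K := Finite.of_equiv _ φ.toEquiv
  letI := Fintype.ofFinite K
  letI := Fintype.ofFinite (GaloisField 2 n)
  have hc : Fintype.card K = Fintype.card (GaloisField 2 n) := by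
    rw [← Nat.card_eq_fintype_card, ← Nat.card_eq_fintype_card, GaloisField.card 2 n hn, ← hM]
    exact (Nat.card_congr φ.toEquiv).symm
  let ε := FiniteField.ringEquivOfCardEq hc
  let ψ : M ≃ GaloisField 2 n := (Additive.ofMul.trans φ.toEquiv).trans ε.toEquiv
  have hψ : ∀ v, ψ v = ε (φ (Additive.ofMul v)) := fun v => rfl
  have hadd : ∀ v w, ψ (v * w) = ψ v + ψ w := fun v w => by
    rw [hψ, hψ, hψ, ofMul_mul, map_add, map_add]
  have hone : ψ 1 = 0 := by rw [hψ, ofMul_one, map_zero, map_zero]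
  have he1 : ψ e = 1 := by rw [hψ, h1, map_one]
  have hmul : ∀ f ∈ F, ∀ v, ψ (f v) = ψ (f e) * ψ v := fun f hf v => by
    rw [hψ, hψ, hψ, ← map_mul]
    exact congrArg ε (h2 ⟨f, hf⟩ (Additive.ofMul v))
  refine ⟨ψ, hadd, he1, hmul, fun d hd => ?_⟩
  have hde : ψ (d e) ≠ 0 := by
    rw [← hone, Ne, ψ.injective.eq_iff, map_eq_one_iff _ d.injective]
    exact he
  let τ : GaloisField 2 n →+* GaloisField 2 n :=
    { toFun := fun y => (ψ (d e))⁻¹ * ψ (d (ψ.symm y))
      map_one' := by rw [← he1, ψ.symm_apply_apply, inv_mul_cancel₀ hde, he1]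
      map_zero' := by rw [← hone, ψ.symm_apply_apply, map_one, hone, mul_zero]
      map_add' := fun y z => by
        obtain ⟨y, rfl⟩ := ψ.surjective y
        obtain ⟨z, rfl⟩ := ψ.surjective z
        rw [← hadd, ψ.symm_apply_apply, ψ.symm_apply_apply, ψ.symm_apply_apply, map_mul, hadd,
          mul_add]
      map_mul' := fun y z => by
        obtain ⟨y, rfl⟩ := ψ.surjective y
        obtain ⟨z, rfl⟩ := ψ.surjective z
        by_cases hy : y = 1
        · rw [hy, hone, zero_mul, ← hone, ψ.symm_apply_apply, map_one, hone, mul_zero, zero_mul]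
        obtain ⟨f, hf, rfl⟩ := ht y hy
        have hf' : d * f * d⁻¹ ∈ F := (mem_normalizer_iff.1 hd f).1 hf
        have e1 : ∀ v, d (f v) = (d * f * d⁻¹) (d v) := fun v => by
          simp only [MulAut.mul_apply, MulAut.inv_apply_self]
        rw [← hmul f hf, ψ.symm_apply_apply, ψ.symm_apply_apply, ψ.symm_apply_apply, e1, e1,
          hmul _ hf' (d z), hmul _ hf' (d e)]
        field_simp }
  have hτ : Function.Bijective τ := Finite.injective_iff_bijective.1 τ.injective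
  refine ⟨RingEquiv.ofBijective τ hτ, fun v => ?_⟩
  change _ = _ * ((ψ (d e))⁻¹ * ψ (d (ψ.symm (ψ v))))
  rw [ψ.symm_apply_apply, mul_inv_cancel_left₀ hde]

theorem card_ringAut_le {n : ℕ} (hn : n ≠ 0) :
    Nat.card (GaloisField 2 n ≃+* GaloisField 2 n) ≤ n := by
  haveI : Finite (RingAut (GaloisField 2 n)) := Finite.of_injective _ DFunLike.coe_injective
  have h := P6.card_eq_pow_fixed (MonoidHom.id (RingAut (GaloisField 2 n))) Function.injective_id
  rw [GaloisField.card 2 n hn] at h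
  have h2 : 2 ≤ Nat.card {c : GaloisField 2 n //
      ∀ r, MonoidHom.id (RingAut (GaloisField 2 n)) r c = c} := by
    haveI : Nontrivial {c : GaloisField 2 n //
      ∀ r, MonoidHom.id (RingAut (GaloisField 2 n)) r c = c} :=
      ⟨⟨⟨0, fun r => map_zero _⟩, ⟨1, fun r => map_one _⟩, fun e =>
        zero_ne_one (congrArg Subtype.val e)⟩⟩
    exact Finite.one_lt_card
  have h3 := (Nat.pow_le_pow_left h2 (Nat.card (RingAut (GaloisField 2 n)))).trans h.ge
  exact (Nat.pow_le_pow_iff_right (by norm_num)).1 h3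

theorem card_affine_le (K : Type) [Field K] [Finite K] :
    Nat.card (affineGroup K) ≤ (Nat.card K - 1) * Nat.card K := by
  rw [← Nat.card_units, ← Nat.card_prod]
  choose a b h using fun σ : affineGroup K => σ.2
  refine Nat.card_le_card_of_injective (fun σ => (a σ, b σ)) fun σ τ e => ?_
  refine Subtype.ext (Equiv.ext fun x => ?_)
  simp only [Prod.mk.injEq] at e
  rw [h, h, e.1, e.2]

theorem card_semiaffine_le (K : Type) [Field K] [Finite K] :
    Nat.card (semiaffineGroup K) ≤ (Nat.card K - 1) * (Nat.card K * Nat.card (K ≃+* K)) := by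
  haveI : Finite (K ≃+* K) := Finite.of_injective _ DFunLike.coe_injective
  rw [← Nat.card_units, ← Nat.card_prod, ← Nat.card_prod]
  choose a b φ h using fun σ : semiaffineGroup K => σ.2
  refine Nat.card_le_card_of_injective (fun σ => (a σ, b σ, φ σ)) fun σ τ e => ?_
  refine Subtype.ext (Equiv.ext fun x => ?_)
  simp only [Prod.mk.injEq] at e
  rw [h, h, e.1, e.2.1, e.2.2]

theorem nonempty_equiv_of_le {G P : Type*} [Group G] [Finite G] [Group P] [Finite P]
    (Ψ : G →* P) (hi : Function.Injective Ψ) {A : Subgroup P} (hle : ∀ g, Ψ g ∈ A)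
    (hc : Nat.card A ≤ Nat.card G) : Nonempty (G ≃* A) := by
  have h : Ψ.range = A := H1.eq_of_le_of_card_le (by rintro _ ⟨g, rfl⟩; exact hle g)
    (by rwa [← Nat.card_congr (MonoidHom.ofInjective hi).toEquiv])
  exact ⟨(MonoidHom.ofInjective hi).trans (MulEquiv.subgroupCongr h)⟩

variable {G : Type u} [Group G] [Finite G]

/-- A split extension of an abelian group `S` by a faithfully acting group `D` with a normal
abelian subgroup transitive on the nonidentity elements is semi-affine. -/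
theorem exists_perm {S D F : Subgroup G} [S.Normal] (hS : IsMulCommutative S) {n : ℕ} (hn : n ≠ 0)
    (hc : 𝐨(S) = 2 ^ n) (hsup : D ⊔ S = ⊤) (hinf : D ⊓ S = ⊥) (hD : D ⊓ 𝐂(S) = ⊥) (hF : F ⊲ D)
    (hFc : IsMulCommutative F) {e : G} (he : e ∈ S) (he1 : e ≠ 1)
    (ht : ∀ v ∈ S, v ≠ 1 → ∃ f ∈ F, f * e * f⁻¹ = v) :
    ∃ Ψ : G →* Equiv.Perm (GaloisField 2 n), Function.Injective Ψ ∧
      (∀ g, Ψ g ∈ semiaffineGroup (GaloisField 2 n)) ∧
      (D ≤ F → ∀ g, Ψ g ∈ affineGroup (GaloisField 2 n)) := by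
  have hN : (⊤ : Subgroup G) ≤ 𝐍(S) := le_normalizer_of_normal
  let c : G →* MulAut S := MulAut.conjNormal
  have hc' : ∀ (g : G) (v : S), (c g v : G) = g * v * g⁻¹ := fun g v => rfl
  obtain ⟨ψ, hadd, hψe, hmul, hsemi⟩ := exists_semi (M := S) hn hc (F.map c) inferInstance
    (e := ⟨e, he⟩) (fun h => he1 (congrArg Subtype.val h)) (fun v hv => by
      obtain ⟨f, hf, h⟩ := ht v v.2 (fun h => hv (Subtype.ext h))
      exact ⟨c f, mem_map_of_mem _ hf, Subtype.ext h⟩)
  have hone : ψ 1 = 0 := by simpa using hadd 1 1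
  have hdec : ∀ g : G, ∃ s ∈ S, ∃ d ∈ D, s * d = g := fun g =>
    (H1.mem_sup_iff_of_le_normalizer' (le_top.trans hN)).1 (hsup ▸ mem_top g)
  have hbij : Function.Bijective (fun v : S => ((v : G) : G ⧸ D)) := by
    refine ⟨fun v w h => ?_, fun x => ?_⟩
    · have h1 : (v : G)⁻¹ * w ∈ D ⊓ S := ⟨QuotientGroup.eq.1 h, S.mul_mem (S.inv_mem v.2) w.2⟩
      rw [hinf, mem_bot, inv_mul_eq_one] at h1
      exact Subtype.ext h1
    · obtain ⟨g, rfl⟩ := QuotientGroup.mk_surjective x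
      obtain ⟨s, hs, d, hd, rfl⟩ := hdec g
      exact ⟨⟨s, hs⟩, QuotientGroup.eq.2 (by simpa using hd)⟩
  let ε : G ⧸ D ≃ GaloisField 2 n := (Equiv.ofBijective _ hbij).symm.trans ψ
  have hε : ∀ v : S, ε ((v : G) : G ⧸ D) = ψ v := fun v =>
    congrArg ψ ((Equiv.ofBijective _ hbij).symm_apply_apply v)
  let Ψ : G →* Equiv.Perm (GaloisField 2 n) :=
    (ε.permCongrHom : _ →* _).comp (MulAction.toPermHom G (G ⧸ D))
  have hΨ : ∀ (s : S) (d : G), d ∈ D → ∀ v : S, Ψ (s * d) (ψ v) = ψ (c d v) + ψ s := by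
    intro s d hd v
    change ε (((s : G) * d) • ε.symm (ψ v)) = _
    rw [← hε v, ε.symm_apply_apply, add_comm, ← hadd, ← hε]
    refine congrArg ε (QuotientGroup.eq.2 ?_)
    simp only [smul_eq_mul, coe_mul, hc']
    rw [show ((s : G) * d * v)⁻¹ * (s * (d * v * d⁻¹)) = d⁻¹ by group]
    exact inv_mem hd
  have hne : ∀ d : G, ψ (c d ⟨e, he⟩) ≠ 0 := fun d => by
    rw [← hone, Ne, ψ.injective.eq_iff, map_eq_one_iff _ (c d).injective]
    exact fun h => he1 (congrArg Subtype.val h)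
  refine ⟨Ψ, (injective_iff_map_eq_one Ψ).2 fun g hg => ?_, fun g => ?_, fun hDF g => ?_⟩
  · obtain ⟨s, hs, d, hd, rfl⟩ := hdec g
    have h1 := hΨ ⟨s, hs⟩ d hd 1
    rw [hg, map_one (c d), hone, zero_add, Equiv.Perm.one_apply, ← hone, ψ.injective.eq_iff] at h1
    have hs1 : s = 1 := (congrArg Subtype.val h1).symm
    have h2 : d ∈ D ⊓ 𝐂(S) := ⟨hd, fun v hv => by
      have h3 := hΨ ⟨s, hs⟩ d hd ⟨v, hv⟩
      rw [hg, ← h1, hone, add_zero, Equiv.Perm.one_apply, ψ.injective.eq_iff] at h3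
      have h4 : v = d * v * d⁻¹ := congrArg Subtype.val h3
      exact eq_mul_inv_iff_mul_eq.1 h4⟩
    rw [hD, mem_bot] at h2
    rw [hs1, h2, one_mul]
  · obtain ⟨s, hs, d, hd, rfl⟩ := hdec g
    obtain ⟨σ, hσ⟩ := hsemi (c d) (le_normalizer_map c (mem_map_of_mem c (hF.2 hd)))
    refine ⟨Units.mk0 _ (hne d), ψ ⟨s, hs⟩, σ, fun x => ?_⟩
    obtain ⟨v, rfl⟩ := ψ.surjective x
    rw [hΨ ⟨s, hs⟩ d hd, hσ, Units.val_mk0]
  · obtain ⟨s, hs, d, hd, rfl⟩ := hdec g
    refine ⟨Units.mk0 _ (hne d), ψ ⟨s, hs⟩, fun x => ?_⟩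
    obtain ⟨v, rfl⟩ := ψ.surjective x
    rw [hΨ ⟨s, hs⟩ d hd, hmul _ (mem_map_of_mem c (hDF hd)), Units.val_mk0]

end Cfsg.Agent.Cj
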