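/-
Uniqueness of double covers with a unique involution; `SL₂(3)` and `SL₂(5)`.
-/
import Cfsg.Agent.Cj.Semi
import Cfsg.Agent.H8.ThompsonTransfer
import Cfsg.Agent.H8.SL25Aut
import Cfsg.Agent.H5.PByCyclic
import Cfsg.Agent.H2.SL23

set_option autoImplicit false
set_option linter.unusedSectionVars false
set_option linter.style.haveILetI false

namespace Cfsg.Agent.Cj

open Subgroup Cfsg Cfsg.Agent Cfsg.Agent.FT
open scoped IsMulCommutative commutatorElement

theorem nonempty_equiv_of_graph {G H : Type*} [Group G] [Group H] (Γ : Subgroup (G × H))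
    (h1 : ∀ b, (1, b) ∈ Γ → b = 1) (h2 : ∀ a, (a, 1) ∈ Γ → a = 1) (h3 : ∀ a, ∃ b, (a, b) ∈ Γ)
    (h4 : ∀ b, ∃ a, (a, b) ∈ Γ) : Nonempty (G ≃* H) := by
  refine ⟨(MulEquiv.ofBijective ((MonoidHom.fst G H).comp Γ.subtype) ⟨?_, ?_⟩).symm.trans
    (MulEquiv.ofBijective ((MonoidHom.snd G H).comp Γ.subtype) ⟨?_, ?_⟩)⟩
  · rw [injective_iff_map_eq_one]
    rintro ⟨⟨a, b⟩, h⟩ (rfl : a = 1)
    exact Subtype.ext (Prod.ext rfl (h1 b h))
  · intro a
    obtain ⟨b, h⟩ := h3 a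
    exact ⟨⟨_, h⟩, rfl⟩
  · rw [injective_iff_map_eq_one]
    rintro ⟨⟨a, b⟩, h⟩ (rfl : b = 1)
    exact Subtype.ext (Prod.ext (h2 a h) rfl)
  · intro b
    obtain ⟨a, h⟩ := h4 b
    exact ⟨⟨_, h⟩, rfl⟩

theorem eq_or_of_mem_zpowers {G : Type*} [Group G] {d x : G} (hd : d * d = 1)
    (hx : x ∈ zpowers d) : x = 1 ∨ x = d := by
  obtain ⟨k, rfl⟩ := mem_zpowers_iff.1 hx
  have h2 : d ^ (2 : ℤ) = 1 := by rw [zpow_two, hd]
  rw [← Int.mul_ediv_add_emod k 2, zpow_add, zpow_mul, h2, one_zpow, one_mul]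
  rcases Int.emod_two_eq_zero_or_one k with h | h <;> simp [h]

/-- A double cover with a unique involution. -/
structure DC {G X : Type*} [Group G] [Group X] (π : G →* X) (z : G) : Prop where
  surj : Function.Surjective π
  ne : z ≠ 1
  sq : z * z = 1
  map : π z = 1
  ker : ∀ g, π g = 1 → g = 1 ∨ g = z
  uniq : ∀ g, g * g = 1 → g = 1 ∨ g = z

theorem DC.comm {G X : Type*} [Group G] [Group X] {π : G →* X} {z : G} (h : DC π z) (g : G) :
    g * z * g⁻¹ = z := by
  refine (h.uniq _ (by rw [show g * z * g⁻¹ * (g * z * g⁻¹) = g * (z * z) * g⁻¹ by group, h.sq]; group)).resolve_left fun e => h.ne ?_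
  rw [show z = g⁻¹ * (g * z * g⁻¹) * g by group, e]; group

theorem DC.sq_eq {G X : Type*} [Group G] [Group X] {π : G →* X} {z : G} (h : DC π z) {g : G}
    (h1 : π g ≠ 1) (h2 : π g * π g = 1) : g * g = z := by
  refine (h.ker _ (by rw [map_mul, h2])).resolve_left fun e => h1 ?_
  rcases h.uniq g e with rfl | rfl
  · exact map_one π
  · exact h.map

theorem DC.sq_eq_one {G X : Type*} [Group G] [Group X] {π : G →* X} {z : G} (h : DC π z) {g : G}
    (h1 : π g = 1) : g * g = 1 := by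
  rcases h.ker g h1 with rfl | rfl
  · exact one_mul 1
  · exact h.sq

theorem DC.nonempty_equiv {G H X : Type*} [Group G] [Group H] [Group X] [Finite G] [Finite H]
    {π : G →* X} {ρ : H →* X} {z : G} {w : H} (h : DC π z) (h' : DC ρ w)
    (hX : ∀ (x : X) (k : ℕ), x ^ 2 ^ k = 1 → x * x = 1) : Nonempty (G ≃* H) := by
  let P : Subgroup (G × H) := (π.comp (MonoidHom.fst G H)).eqLocus (ρ.comp (MonoidHom.snd G H))
  have hP : ∀ {a b}, (a, b) ∈ P ↔ π a = ρ b := Iff.rfl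
  let d : P := ⟨(z, w), hP.2 (h.map.trans h'.map.symm)⟩
  let e : P := ⟨(z, 1), hP.2 (h.map.trans (map_one ρ).symm)⟩
  let e' : P := ⟨(1, w), hP.2 ((map_one π).trans h'.map.symm)⟩
  have hd : ∀ g : P, g * d * g⁻¹ = d := fun g => Subtype.ext (Prod.ext (h.comm _) (h'.comm _))
  have he : ∀ g : P, g * e * g⁻¹ = e := fun g =>
    Subtype.ext (Prod.ext (h.comm _) (by simp [e]))
  have hdd : d * d = 1 := Subtype.ext (Prod.ext h.sq h'.sq)
  have hee : e * e = 1 := Subtype.ext (Prod.ext h.sq (one_mul 1))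
  have hde : e' = e * d := Subtype.ext (Prod.ext h.sq.symm (one_mul w).symm)
  have hD : ∀ x ∈ zpowers d, x = 1 ∨ x = d := fun x hx => by
    exact eq_or_of_mem_zpowers hdd hx
  haveI : (zpowers d).Normal := ⟨fun x hx g => by
    rcases hD x hx with rfl | rfl
    · simp
    · rw [hd]; exact hx⟩
  let q := QuotientGroup.mk' (zpowers d)
  obtain ⟨T⟩ : Nonempty (Sylow 2 (P ⧸ zpowers d)) := inferInstance
  have hT : ∀ y ∈ (T : Subgroup (P ⧸ zpowers d)), y * y = 1 := fun y hy => by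
    obtain ⟨k, hk⟩ := T.isPGroup' ⟨y, hy⟩
    have hk' : y ^ 2 ^ k = 1 := congrArg Subtype.val hk
    obtain ⟨⟨⟨a, b⟩, hab⟩, rfl⟩ := QuotientGroup.mk'_surjective _ y
    rw [← map_pow, QuotientGroup.mk'_apply, QuotientGroup.eq_one_iff] at hk'
    rw [← map_mul, QuotientGroup.mk'_apply, QuotientGroup.eq_one_iff]
    have h1 : π a * π a = 1 := hX _ k (by
      rw [← map_pow]
      rcases hD _ hk' with h2 | h2
      · rw [show a ^ 2 ^ k = 1 from congrArg (fun x : P => x.1.1) h2, map_one]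
      · rw [show a ^ 2 ^ k = z from congrArg (fun x : P => x.1.1) h2, h.map])
    by_cases h2 : π a = 1
    · rw [show (⟨(a, b), hab⟩ : P) * ⟨(a, b), hab⟩ = 1 from Subtype.ext
        (Prod.ext (h.sq_eq_one h2) (h'.sq_eq_one (hP.1 hab ▸ h2)))]
      exact one_mem _
    · rw [show (⟨(a, b), hab⟩ : P) * ⟨(a, b), hab⟩ = d from Subtype.ext
        (Prod.ext (h.sq_eq h2 h1) (h'.sq_eq (hP.1 hab ▸ h2) (hP.1 hab ▸ h1)))]
      exact mem_zpowers d
  have hq : ∀ g, g * q e * g⁻¹ = q e := fun g => by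
    obtain ⟨g, rfl⟩ := QuotientGroup.mk'_surjective _ g
    rw [← map_inv, ← map_mul, ← map_mul, he]
  have hq1 : P6.Inv (q e) := ⟨fun h1 => by
    rcases hD e ((QuotientGroup.eq_one_iff _).1 h1) with h2 | h2
    · exact h.ne (congrArg (fun x : P => x.1.1) h2)
    · exact h'.ne (congrArg (fun x : P => x.1.2) h2).symm, by rw [← map_mul, hee, map_one]⟩
  have hqn : (zpowers (q e)).Normal := ⟨fun x hx g => by
    obtain ⟨k, rfl⟩ := mem_zpowers_iff.1 hx
    rw [← conj_zpow, hq]; exact hx⟩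
  have hqT : zpowers (q e) ≤ T := (L.le_pCore hqn hq1.isPGroup).trans (L.pCore_le_sylow T)
  obtain ⟨W, hW, hi, hs⟩ := H1.exists_complement_of_isElementaryAbelian Nat.prime_two
    (V := T) ⟨⟨⟨fun a b => Subtype.ext (L.commute_of_sq_eq_one hT a.2 b.2)⟩⟩,
      fun a ha => by rw [pow_two, hT a ha]⟩ hqT
  have hWi : W.index = 2 * (T : Subgroup (P ⧸ zpowers d)).index := by
    have h1 := H1.card_sup_of_inf_eq_bot (A := W) (N := zpowers (q e)) le_normalizer_of_normal
      (by rw [inf_comm, hi])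
    rw [sup_comm, hs, hq1.card_zpowers, ← H1.card_mul_relIndex hW] at h1
    rw [← relIndex_mul_index hW, Nat.eq_of_mul_eq_mul_left Nat.card_pos h1]
  obtain ⟨N, -, hN, heN⟩ := H8.exists_normal_index_two_of_not_conj W
    (Nat.odd_iff.2 (Nat.two_dvd_ne_zero.1 T.not_dvd_index)) hWi (t := q e) (by rw [pow_two, hq1.sq])
    (fun g hg => hq1.ne (by
      rw [hq] at hg
      exact mem_bot.1 (hi ▸ mem_inf.2 ⟨mem_zpowers _, hg⟩)))
  have hqd : q d = 1 := (QuotientGroup.eq_one_iff _).2 (mem_zpowers d)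
  have heN' : q e' ∉ N := by rwa [hde, map_mul, hqd, mul_one]
  have hm : ∀ x : P, q x ∈ N → x.1 ∈ (N.comap q).map P.subtype := fun x hx => ⟨x, hx, rfl⟩
  refine nonempty_equiv_of_graph ((N.comap q).map P.subtype) ?_ ?_ (fun a => ?_) (fun b => ?_)
  · rintro b ⟨⟨_, hb⟩, hx, rfl⟩
    refine (h'.ker b ((hP.1 hb).symm.trans (map_one π))).resolve_right ?_
    rintro rfl
    exact heN' hx
  · rintro a ⟨⟨_, ha⟩, hx, rfl⟩
    refine (h.ker a ((hP.1 ha).trans (map_one ρ))).resolve_right ?_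
    rintro rfl
    exact heN hx
  · obtain ⟨b, hb⟩ := h'.surj (π a)
    by_cases h1 : q ⟨(a, b), hP.2 hb.symm⟩ ∈ N
    · exact ⟨b, hm _ h1⟩
    · refine ⟨b * w, ?_⟩
      have := hm (⟨(a, b), hP.2 hb.symm⟩ * e') (by
        rw [map_mul, mul_mem_iff_of_index_two hN]; exact iff_of_false h1 heN')
      simpa [e'] using this
  · obtain ⟨a, ha⟩ := h.surj (ρ b)
    by_cases h1 : q ⟨(a, b), hP.2 ha⟩ ∈ N
    · exact ⟨a, hm _ h1⟩
    · refine ⟨a * z, ?_⟩
      have := hm (⟨(a, b), hP.2 ha⟩ * e) (by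
        rw [map_mul, mul_mem_iff_of_index_two hN]; exact iff_of_false h1 heN)
      simpa [e] using this

theorem DC.comp {G X Y : Type*} [Group G] [Group X] [Group Y] {π : G →* X} {z : G} (h : DC π z)
    (e : X ≃* Y) : DC (e.toMonoidHom.comp π) z :=
  ⟨e.surjective.comp h.surj, h.ne, h.sq, by simp [h.map],
    fun g hg => h.ker g ((map_eq_one_iff _ e.injective).1 hg), h.uniq⟩

theorem DC.mk' {G : Type*} [Group G] {z : G} (h1 : z ≠ 1) (h2 : z * z = 1)
    (h3 : ∀ g : G, g * g = 1 → g = 1 ∨ g = z) [(zpowers z).Normal] :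
    DC (QuotientGroup.mk' (zpowers z)) z :=
  ⟨QuotientGroup.mk'_surjective _, h1, h2, (QuotientGroup.eq_one_iff _).2 (mem_zpowers z),
    fun _ hg => eq_or_of_mem_zpowers h2 ((QuotientGroup.eq_one_iff _).1 hg), h3⟩

theorem normal_zpowers_of_uniq {G : Type*} [Group G] {z : G} (h2 : z * z = 1)
    (h3 : ∀ g : G, g * g = 1 → g = 1 ∨ g = z) : (zpowers z).Normal := ⟨fun x hx g => by
  have : g * x * g⁻¹ * (g * x * g⁻¹) = 1 := by
    rw [show g * x * g⁻¹ * (g * x * g⁻¹) = g * (x * x) * g⁻¹ by group]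
    rcases eq_or_of_mem_zpowers h2 hx with rfl | rfl
    · group
    · rw [h2]; group
  rcases h3 _ this with e | e <;> rw [e]
  exacts [one_mem _, mem_zpowers z]⟩

theorem exists_DC_SL25 : ∃ (ρ : H8.SL25 →* alternatingGroup (Fin 5)) (w : H8.SL25), DC ρ w := by
  let f := H8.qact.comp (MulAut.conj (G := H8.SL25))
  have hz : f H8.zz5 = 1 := by
    have : MulAut.conj H8.zz5 = 1 := MulEquiv.ext fun x => by
      rw [MulAut.conj_apply, H8.zz5_comm, mul_inv_cancel_right]; rfl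
    rw [MonoidHom.comp_apply, this, map_one]
  have h1 : f.range = alternatingGroup (Fin 5) := by
    apply Equiv.Perm.eq_alternatingGroup_of_index_eq_two
    have h2 := f.range.card_mul_index
    have h3 := f.ker.card_mul_index
    have h4 : 60 ≤ 𝐨(f.range) := H8.card_range_qact_conj
    haveI : Nontrivial f.ker := ⟨⟨⟨_, hz⟩, 1, fun e => H8.zz5_ne_one (congrArg Subtype.val e)⟩⟩
    have h5 : 1 < 𝐨(f.ker) := Finite.one_lt_card
    rw [index_ker, H8.card_SL25] at h3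
    have h6 : 𝐨(f.range) = 60 := by nlinarith
    rw [h6, Nat.card_perm, Nat.card_fin] at h2
    simp only [Nat.factorial] at h2
    omega
  refine ⟨_, H8.zz5, DC.comp (π := f.rangeRestrict) ⟨f.rangeRestrict_surjective, H8.zz5_ne_one,
    H8.zz5_sq, Subtype.ext hz, fun g hg => H8.qact_conj_eq_one (congrArg Subtype.val hg),
    fun g => H8.eq_zz5⟩ (MulEquiv.subgroupCongr h1)⟩

theorem exists_DC_SL23 : ∃ (ρ : Matrix.SpecialLinearGroup (Fin 2) (ZMod 3) →*
    alternatingGroup (Fin 4)) (w : Matrix.SpecialLinearGroup (Fin 2) (ZMod 3)), DC ρ w := by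
  have h1 : H2.sl23I * H2.sl23I ≠ 1 := by decide
  have h2 : H2.sl23I * H2.sl23I * (H2.sl23I * H2.sl23I) = 1 := by decide
  have h3 : ∀ g : Matrix.SpecialLinearGroup (Fin 2) (ZMod 3), g * g = 1 →
      g = 1 ∨ g = H2.sl23I * H2.sl23I := by decide +kernel
  haveI := normal_zpowers_of_uniq h2 h3
  have hD := DC.mk' h1 h2 h3
  haveI : Fact (Nat.Prime 3) := ⟨Nat.prime_three⟩
  have hc : Nat.card (Matrix.SpecialLinearGroup (Fin 2) (ZMod 3) ⧸
      zpowers (H2.sl23I * H2.sl23I)) = 12 := by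
    have := (zpowers (H2.sl23I * H2.sl23I)).card_mul_index
    rw [L.card_SL2, Nat.card_zmod, (P6.Inv.mk h1 h2).card_zpowers] at this
    change (zpowers (H2.sl23I * H2.sl23I)).index = 12
    omega
  have hq : ∀ x y, QuotientGroup.mk' (zpowers (H2.sl23I * H2.sl23I)) x =
      QuotientGroup.mk' (zpowers (H2.sl23I * H2.sl23I)) y →
      x = y ∨ x = y * (H2.sl23I * H2.sl23I) := fun x y e => by
    rcases hD.ker (y⁻¹ * x) (by rw [map_mul, map_inv, e, inv_mul_cancel]) with h | h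
    · exact Or.inl (inv_mul_eq_one.1 h).symm
    · exact Or.inr (inv_mul_eq_iff_eq_mul.1 h)
  have ho : orderOf (QuotientGroup.mk' (zpowers (H2.sl23I * H2.sl23I)) H2.sl23C) = 3 :=
    orderOf_eq_prime (by rw [← map_pow, H2.sl23_rel.2.2.2.2.1, map_one])
      (fun e => absurd (hD.ker _ e) (by decide))
  obtain ⟨e⟩ := H5.nonempty_mulEquiv_alternating_four hc
    (T := zpowers (QuotientGroup.mk' _ H2.sl23C)) (by rw [Nat.card_zpowers, ho]) (fun hn => by
      have h4 := hn.conj_mem _ (mem_zpowers _) (QuotientGroup.mk' _ H2.sl23J⁻¹)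
      rw [mem_zpowers_iff_mem_range_orderOf, ho, Finset.mem_image] at h4
      obtain ⟨k, hk, h5⟩ := h4
      rw [map_inv, inv_inv, mul_assoc, eq_inv_mul_iff_mul_eq, ← map_pow, ← map_mul,
        ← map_mul] at h5
      have h6 := hq _ _ h5
      clear h5
      revert h6 k
      decide)
  exact ⟨_, _, hD.comp e⟩

end Cfsg.Agent.Cj
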