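/-
Automorphisms of groups in which the centralizers of involutions are elementary abelian.
-/
import Cfsg.Agent.Cj.Semi

set_option autoImplicit false
set_option linter.unusedSectionVars false
set_option linter.style.haveILetI false

namespace Cfsg.Agent.Cj

open Subgroup Cfsg Cfsg.Agent Cfsg.Agent.FT
open scoped IsMulCommutative commutatorElement

universe u

variable {X : Type u} [Group X] [Finite X]

/-- The standing data: two noncommuting involutions in an `EAC` group. -/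
structure EA2 (t u : X) (n : ℕ) : Prop where
  eac : L.EAC X
  t1 : t ≠ 1
  tt : t * t = 1
  uu : u * u = 1
  nc : ¬ Commute t u
  two : 2 ≤ n
  card : 𝐨(𝐂[t]) = 2 ^ n
  cardX : Nat.card X = 2 ^ n * (2 ^ n - 1) * (2 ^ n + 1)

namespace EA2

variable {t u : X} {n : ℕ} (h : EA2 t u n)
include h

theorem u1 : u ≠ 1 := fun e => h.nc (e ▸ Commute.one_right t)

theorem eq_one {x : X} (h1 : x ∈ 𝐂[t]) (h2 : x ∈ 𝐂[u]) : x = 1 := by
  by_contra hx
  refine h.nc (L.mem_cent_iff.1 ?_)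
  rw [← h.eac.cent_eq h.t1 h.tt h1 hx, h.eac.cent_eq h.u1 h.uu h2 hx]
  exact L.mem_cent_iff.2 (Commute.refl u)

theorem isConj {s : X} (s1 : s ≠ 1) (ss : s * s = 1) : IsConj t s :=
  h.eac.isConj_of_invol h.t1 h.tt h.uu h.nc s1 ss

theorem ncard_class : {x | IsConj t x}.ncard = (2 ^ n - 1) * (2 ^ n + 1) := by
  have h1 := L.ncard_isConj_mul_card_centralizer t
  rw [h.card, h.cardX, mul_assoc, mul_comm] at h1
  exact Nat.eq_of_mul_eq_mul_left (by positivity) h1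

theorem bruhat {y : X} (y1 : y ≠ 1) (yy : y * y = 1) (hy : y ∉ 𝐂[t]) :
    ∃ s ∈ 𝐂[t], ∃ w ∈ 𝐂[u], w ≠ 1 ∧ s * w * s⁻¹ = y := by
  let A : Set X := (𝐂[t] : Subgroup X) \ {1}
  let U : Set X := (𝐂[u] : Subgroup X) \ {1}
  let f : X × X → X := fun p => p.1 * p.2 * p.1⁻¹
  let B : Set X := f '' (((𝐂[t] : Subgroup X) : Set X) ×ˢ U)
  have hcu : 𝐨(𝐂[u]) = 2 ^ n := by
    rw [L.card_centralizer_of_isConj (h.isConj h.u1 h.uu), h.card]
  have hA : A.ncard = 2 ^ n - 1 := by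
    rw [Set.ncard_sdiff_singleton_of_mem (one_mem _), ← h.card]; rfl
  have hU : U.ncard = 2 ^ n - 1 := by
    rw [Set.ncard_sdiff_singleton_of_mem (one_mem _), ← hcu]; rfl
  have hB : B.ncard = 2 ^ n * (2 ^ n - 1) := by
    rw [Set.InjOn.ncard_image, Set.ncard_prod, hU, ← h.card]; · rfl
    rintro ⟨s, w⟩ ⟨hs, hw, w1⟩ ⟨r, v⟩ ⟨hr, hv, -⟩ e
    have ww := h.eac.sq_of_mem h.u1 h.uu w hw
    have e1 : (r⁻¹ * s) * w * (r⁻¹ * s)⁻¹ = v := by
      have e' : s * w * s⁻¹ = r * v * r⁻¹ := e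
      rw [show (r⁻¹ * s) * w * (r⁻¹ * s)⁻¹ = r⁻¹ * (s * w * s⁻¹) * r by group, e']; group
    have hrs : r⁻¹ * s ∈ 𝐂[t] := mul_mem (inv_mem hr) hs
    have e2 : r⁻¹ * s ∈ 𝐂[w] := h.eac.mem_of_mem_normalizer w1 ww
      (h.eac.sq_of_mem h.t1 h.tt _ hrs) (h.eac.mem_normalizer_of_conj w1 ww (by
        rw [e1, h.eac.cent_eq h.u1 h.uu hw w1]; exact hv))
    rw [h.eac.cent_eq h.u1 h.uu hw w1] at e2
    have e3 := h.eq_one hrs e2
    rw [e3, one_mul, inv_one, mul_one] at e1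
    exact Prod.ext (inv_mul_eq_one.1 e3).symm e1
  have hd : Disjoint A B := by
    rw [Set.disjoint_left]
    rintro _ ⟨ha, -⟩ ⟨⟨s, w⟩, ⟨hs, hw, w1⟩, rfl⟩
    refine w1 (h.eq_one ?_ hw)
    have := mul_mem (mul_mem (inv_mem hs) ha) hs
    rwa [show s⁻¹ * f (s, w) * s = w by simp only [f]; group] at this
  have hsub : A ∪ B ⊆ {x | IsConj t x} := by
    rintro x (⟨ha, x1⟩ | ⟨⟨s, w⟩, ⟨-, hw, w1⟩, rfl⟩)
    · exact h.isConj x1 (h.eac.sq_of_mem h.t1 h.tt x ha)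
    · exact (h.isConj w1 (h.eac.sq_of_mem h.u1 h.uu w hw)).trans (isConj_iff.2 ⟨s, rfl⟩)
  have heq := Set.eq_of_subset_of_ncard_le hsub (by
    rw [Set.ncard_union_eq hd, hA, hB, h.ncard_class]
    exact le_of_eq (by ring))
  have hy' : y ∈ A ∪ B := heq ▸ h.isConj y1 yy
  rcases hy' with ⟨ha, -⟩ | ⟨⟨s, w⟩, ⟨hs, hw, w1⟩, e⟩
  · exact absurd ha hy
  · exact ⟨s, hs, w, hw, w1, e⟩

theorem eq_one_of_forall {c : X} (hc : ∀ y, y ≠ 1 → y * y = 1 → Commute y (c * y * c⁻¹)) :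
    c = 1 := by
  have hN : ∀ g, (∀ y, y ≠ 1 → y * y = 1 → Commute y (g * y * g⁻¹)) → g ∈ 𝐍(𝐂[u]) :=
    fun g hg => h.eac.mem_normalizer_of_conj h.u1 h.uu (L.mem_cent_iff.2 (hg u h.u1 h.uu))
  have h1 : t * c⁻¹ * t⁻¹ ∈ 𝐍(𝐂[u]) := hN _ fun y y1 yy => by
    have e := (hc (c⁻¹ * (t⁻¹ * y * t) * c) (fun e => y1 (by
        have : y = t * c * (c⁻¹ * (t⁻¹ * y * t) * c) * (t * c)⁻¹ := by group
        rw [this, e]; group))
      (by rw [show c⁻¹ * (t⁻¹ * y * t) * c * (c⁻¹ * (t⁻¹ * y * t) * c) =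
        c⁻¹ * (t⁻¹ * (y * y) * t) * c by group, yy]; group)).map (MulAut.conj t)
    simp only [MulAut.conj_apply] at e
    convert e.symm using 1 <;> group
  have h2 : c * (t * c⁻¹ * t⁻¹) ∈ 𝐂[t] := by
    rw [show c * (t * c⁻¹ * t⁻¹) = (c * t * c⁻¹) * t⁻¹ by group]
    exact mul_mem (L.mem_cent_iff.2 (hc t h.t1 h.tt)) (inv_mem (L.mem_cent_iff.2 (Commute.refl t)))
  have h3 := h.eq_one h2 (h.eac.mem_of_mem_normalizer h.u1 h.uu (h.eac.sq_of_mem h.t1 h.tt _ h2)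
    (mul_mem (hN c hc) h1))
  have h4 : c ∈ 𝐂[t] := L.mem_cent_iff.2 (by
    have : t * c = c * (t * c⁻¹ * t⁻¹) * (t * c) := by rw [h3, one_mul]
    rw [Commute, SemiconjBy, this]; group)
  exact h.eq_one h4 (h.eac.mem_of_mem_normalizer h.u1 h.uu (h.eac.sq_of_mem h.t1 h.tt _ h4)
    (hN c hc))

/-- An automorphism centralizing `C(t)` is induced by an element of `C(t)`. -/
theorem exists_conj {σ : MulAut X} (hσ : ∀ x ∈ 𝐂[t], σ x = x) :
    ∃ s ∈ 𝐂[t], σ = MulAut.conj s := by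
  obtain ⟨s, hs, w, hw, w1, e⟩ := h.bruhat (y := σ u) ((map_eq_one_iff _ σ.injective).not.2 h.u1)
    (by rw [← map_mul, h.uu, map_one]) (fun hu => h.nc (L.mem_cent_iff.1 (by
      rwa [σ.injective (hσ _ hu)] at hu)))
  refine ⟨s, hs, ?_⟩
  let τ : MulAut X := (MulAut.conj s)⁻¹ * σ
  have hτ : ∀ x, τ x = s⁻¹ * σ x * s := fun x => by simp [τ]
  have hτt : ∀ x ∈ 𝐂[t], τ x = x := fun x hx => by
    rw [hτ, hσ x hx, mul_assoc, L.commute_of_sq_eq_one (h.eac.sq_of_mem h.t1 h.tt) hx hs,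
      inv_mul_cancel_left]
  have hτu : τ u = w := by rw [hτ, ← e]; group
  have h1 : ∀ y, y ≠ 1 → y * y = 1 → Commute y (τ y) := fun y y1 yy => by
    by_cases hy : y ∈ 𝐂[t]
    · rw [hτt y hy]
    obtain ⟨r, hr, v, hv, v1, rfl⟩ := h.bruhat y1 yy hy
    have h2 : τ v ∈ 𝐂[v] := by
      rw [h.eac.cent_eq h.u1 h.uu hv v1, ← h.eac.cent_eq h.u1 h.uu hw w1, ← hτu]
      exact L.mem_cent_iff.2 ((L.mem_cent_iff.1 hv).map τ)
    rw [map_mul, map_mul, map_inv, hτt r hr]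
    exact (L.mem_cent_iff.1 h2).map (MulAut.conj r)
  have h2 : τ = 1 := by
    refine MulEquiv.ext fun m => ?_
    refine (inv_mul_eq_one.1 (h.eq_one_of_forall (c := m⁻¹ * τ m) fun y y1 yy => ?_)).symm
    obtain ⟨y, rfl⟩ := τ.surjective y
    have y1' : y ≠ 1 := fun e => y1 (by rw [e, map_one])
    have yy' : y * y = 1 := τ.injective (by rw [map_mul, yy, map_one])
    have e1 := (h1 (m * y * m⁻¹) (fun e => y1' (by
      rw [show y = m⁻¹ * (m * y * m⁻¹) * m by group, e]; group))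
      (by rw [show m * y * m⁻¹ * (m * y * m⁻¹) = m * (y * y) * m⁻¹ by group, yy']; group)).map
      (MulAut.conj m⁻¹)
    rw [MulAut.conj_apply, MulAut.conj_apply, map_mul, map_mul, map_inv] at e1
    refine L.mem_cent_iff.1 ?_
    rw [h.eac.cent_eq y1' yy' (L.mem_cent_iff.2 (h1 y y1' yy')) y1]
    refine L.mem_cent_iff.2 ?_
    convert e1 using 1 <;> group
  rw [← mul_inv_cancel_left (MulAut.conj s) σ]
  change MulAut.conj s * τ = _
  rw [h2, mul_one]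

end EA2

/-- Restriction of automorphisms to an invariant subgroup. -/
def resAut (T : Subgroup X) (E : Subgroup (MulAut X)) (h : ∀ σ ∈ E, ∀ x ∈ T, σ x ∈ T) :
    E →* MulAut T where
  toFun σ :=
    { toFun := fun x => ⟨σ.1 x, h σ.1 σ.2 x x.2⟩
      invFun := fun x => ⟨σ.1⁻¹ x, h _ (inv_mem σ.2) x x.2⟩
      left_inv := fun x => Subtype.ext (MulAut.inv_apply_self X σ.1 x)
      right_inv := fun x => Subtype.ext (MulAut.apply_inv_self X σ.1 x)
      map_mul' := fun x y => Subtype.ext (map_mul σ.1 x.1 y.1) }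
  map_one' := rfl
  map_mul' _ _ := rfl

theorem EA2.card_aut_le {t u : X} {n : ℕ} (h : EA2 t u n) :
    Nat.card (MulAut X) ≤ Nat.card X * n := by
  haveI : Finite (MulAut X) := Finite.of_injective _ DFunLike.coe_injective
  have hn : n ≠ 0 := by have := h.two; omega
  let E := MulAction.stabilizer (MulAut X) t
  have hE : ∀ σ ∈ E, σ t = t := fun σ hσ => hσ
  have hinv : ∀ σ ∈ E, ∀ x ∈ 𝐂[t], σ x ∈ 𝐂[t] := fun σ hσ x hx => by
    have := (L.mem_cent_iff.1 hx).map σ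
    rw [hE σ hσ] at this
    exact L.mem_cent_iff.2 this
  let ρ := resAut 𝐂[t] E hinv
  have hρ : ∀ (σ : E) (x : 𝐂[t]), (ρ σ x : X) = σ.1 x := fun _ _ => rfl
  have h1 : E.index ≤ (2 ^ n - 1) * (2 ^ n + 1) := by
    rw [MulAction.index_stabilizer, ← h.ncard_class]
    refine Set.ncard_le_ncard ?_
    rintro _ ⟨σ, rfl⟩
    exact h.isConj ((map_eq_one_iff _ σ.injective).not.2 h.t1)
      (by change σ t * σ t = 1; rw [← map_mul, h.tt, map_one])
  have h2 : 𝐨(ρ.ker) ≤ 2 ^ n := by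
    have : ∀ σ : ρ.ker, ∃ s : 𝐂[t], (σ.1.1 : MulAut X) = MulAut.conj s.1 := fun σ => by
      obtain ⟨s, hs, e⟩ := h.exists_conj (σ := σ.1.1) fun x hx => by
        rw [← hρ σ.1 ⟨x, hx⟩, MonoidHom.mem_ker.1 σ.2]; rfl
      exact ⟨⟨s, hs⟩, e⟩
    choose f hf using this
    rw [← h.card]
    exact Nat.card_le_card_of_injective f fun a b e =>
      Subtype.ext (Subtype.ext (by rw [hf, hf, e]))
  have h3 : 𝐨(ρ.range) ≤ n := by
    have hsq := h.eac.sq_of_mem h.t1 h.tt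
    haveI : IsMulCommutative 𝐂[t] :=
      ⟨⟨fun a b => Subtype.ext (L.commute_of_sq_eq_one hsq a.2 b.2)⟩⟩
    obtain ⟨v, -, vv, -, H, hH, hvH, -, htr, -⟩ := h.eac.exists_torus h.t1 h.tt h.uu h.nc
    have ht : t ∈ 𝐂[t] := L.mem_cent_iff.2 (Commute.refl t)
    let c := H1.conjAut (le_refl 𝐍(𝐂[t]))
    have hc : ∀ g : 𝐍(𝐂[t]), ∃ k, ∃ hk : k ∈ H, c g = c ⟨k, hH hk⟩ := fun g => by
      obtain ⟨k, hk, e⟩ := htr _ (H1.conj_mem_of_le_normalizer le_rfl g.2 ht) (fun e => h.t1 (by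
        rw [show t = (g : X)⁻¹ * (g * t * (g : X)⁻¹) * g by group, e]; group))
      refine ⟨k, hk, ?_⟩
      have e1 : (⟨k, hH hk⟩ : 𝐍(𝐂[t]))⁻¹ * g ∈ c.ker := by
        refine (H1.mem_ker_conjAut _).2 fun x hx => L.commute_of_sq_eq_one hsq hx ?_
        refine L.mem_cent_iff.2 ?_
        change t * (k⁻¹ * g) = k⁻¹ * g * t
        rw [show t * (k⁻¹ * g) = k⁻¹ * (k * t * k⁻¹) * g by group, e]; group
      rw [MonoidHom.mem_ker, map_mul, map_inv, inv_mul_eq_one] at e1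
      exact e1.symm
    obtain ⟨ψ, -, hψe, -, hsemi⟩ := exists_semi (M := 𝐂[t]) hn h.card c.range ⟨⟨by
        rintro ⟨_, a, rfl⟩ ⟨_, b, rfl⟩
        obtain ⟨k, hk, e⟩ := hc a
        obtain ⟨l, hl, e'⟩ := hc b
        refine Subtype.ext ?_
        change c a * c b = c b * c a
        rw [e, e', ← map_mul, ← map_mul]
        exact congrArg c (Subtype.ext (L.commute_of_inverts vv hvH hk hl))⟩⟩
      (e := ⟨t, ht⟩) (fun e => h.t1 (congrArg Subtype.val e)) (fun s s1 => by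
        obtain ⟨k, hk, e⟩ := htr s s.2 (fun e => s1 (Subtype.ext e))
        exact ⟨_, ⟨⟨k, hH hk⟩, rfl⟩, Subtype.ext e⟩)
    have hN : ∀ σ : E, ∀ g ∈ 𝐍(𝐂[t]), σ.1 g ∈ 𝐍(𝐂[t]) := fun σ g hg =>
      h.eac.mem_normalizer_of_conj h.t1 h.tt (by
        have := hinv σ.1 σ.2 _ (H1.conj_mem_of_le_normalizer le_rfl hg ht)
        rwa [map_mul, map_mul, map_inv, hE σ.1 σ.2] at this)
    have : ∀ d : ρ.range, ∃ σ : GaloisField 2 n ≃+* GaloisField 2 n,
        ∀ v, ψ (d.1 v) = σ (ψ v) := by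
      rintro ⟨_, σ, rfl⟩
      obtain ⟨τ, hτ⟩ := hsemi (ρ σ) (mem_normalizer_fintype (by
        rintro _ ⟨g, rfl⟩
        refine ⟨⟨σ.1 g, hN σ g g.2⟩, MulEquiv.ext fun x => Subtype.ext ?_⟩
        obtain ⟨x, rfl⟩ := (ρ σ).surjective x
        simp only [MulAut.mul_apply, MulAut.inv_apply_self, c, H1.coe_conjAut, hρ, map_mul,
          map_inv]))
      refine ⟨τ, fun v => ?_⟩
      rw [hτ, show ρ σ ⟨t, ht⟩ = ⟨t, ht⟩ from Subtype.ext (hE σ.1 σ.2), hψe, one_mul]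
    choose f hf using this
    haveI : Finite (GaloisField 2 n ≃+* GaloisField 2 n) :=
      Finite.of_injective _ DFunLike.coe_injective
    exact (Nat.card_le_card_of_injective f fun a b e => Subtype.ext (MulEquiv.ext fun v =>
      ψ.injective (by rw [hf, hf, e]))).trans (card_ringAut_le hn)
  rw [← E.card_mul_index, ← ρ.ker.card_mul_index, index_ker, h.cardX]
  calc _ ≤ 2 ^ n * n * ((2 ^ n - 1) * (2 ^ n + 1)) := by gcongr
    _ = _ := by ring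

end Cfsg.Agent.Cj
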