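/-
Groups with elementary abelian TI Sylow 2-subgroups; groups in which subgroups of equal order are
conjugate (first reductions).
-/
import Cfsg.Agent.Cj.Aut
import Cfsg.Agent.L.SimpleRed

set_option autoImplicit false
set_option linter.unusedSectionVars false
set_option linter.style.haveILetI false

namespace Cfsg.Agent.Cj

open Subgroup Cfsg Cfsg.Agent Cfsg.Agent.FT Cfsg.Agent.P6
open scoped IsMulCommutative commutatorElement

universe u

variable {G : Type u} [Group G] [Finite G]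

/-- The four-group generated by two commuting involutions. -/
def kl (a b : G) : Subgroup G := zpowers a ⊔ zpowers b

theorem mem_zp {d x : G} (hd : Inv d) : x ∈ zpowers d ↔ x = 1 ∨ x = d := by
  refine ⟨fun hx => ?_, by rintro (rfl | rfl); exacts [one_mem _, mem_zpowers _]⟩
  obtain ⟨k, rfl⟩ := mem_zpowers_iff.1 hx
  have h2 : d ^ (2 : ℤ) = 1 := by rw [zpow_two, hd.sq]
  rw [← Int.mul_ediv_add_emod k 2, zpow_add, zpow_mul, h2, one_zpow, one_mul]
  rcases Int.emod_two_eq_zero_or_one k with h | h <;> simp [h]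

theorem zp_le_cent {a b : G} (hc : Commute a b) : zpowers a ≤ 𝐂(zpowers b) := by
  rw [zpowers_le]
  rintro _ ⟨k, rfl⟩
  exact (hc.symm.zpow_left k).eq

theorem mem_kl {a b x : G} (ha : Inv a) (hb : Inv b) (hc : Commute a b) :
    x ∈ kl a b ↔ x = 1 ∨ x = a ∨ x = b ∨ x = a * b := by
  rw [kl, H1.mem_sup_iff_of_le_normalizer (H1.le_normalizer_of_le_centralizer (zp_le_cent hc))]
  simp only [mem_zp ha, mem_zp hb, exists_eq_or_imp, exists_eq_left, one_mul, mul_one]
  tauto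

theorem card_kl {a b : G} (ha : Inv a) (hb : Inv b) (hc : Commute a b) (hne : a ≠ b) :
    𝐨(kl a b) = 4 := by
  rw [kl, H1.card_sup_of_inf_eq_bot (H1.le_normalizer_of_le_centralizer (zp_le_cent hc)),
    ha.card_zpowers, hb.card_zpowers]
  rw [eq_bot_iff]
  rintro x ⟨h1, h2⟩
  rcases (mem_zp ha).1 h1 with rfl | rfl
  · exact one_mem _
  · exact absurd (((mem_zp hb).1 h2).resolve_left ha.ne) hne

theorem kl_le {a b : G} {P : Subgroup G} (ha : a ∈ P) (hb : b ∈ P) : kl a b ≤ P :=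
  sup_le (zpowers_le.2 ha) (zpowers_le.2 hb)

theorem conj_ne_one {g x : G} (h : x ≠ 1) : g * x * g⁻¹ ≠ 1 := fun e => h (by
  rw [show x = g⁻¹ * (g * x * g⁻¹) * g by group, e]; group)

theorem conj_sq {g x : G} (h : x * x = 1) : g * x * g⁻¹ * (g * x * g⁻¹) = 1 := by
  rw [show g * x * g⁻¹ * (g * x * g⁻¹) = g * (x * x) * g⁻¹ by group, h]; group

/-- Elementary abelian TI Sylow `2`-subgroups. -/
structure TI2 (G : Type u) [Group G] : Prop where
  sq : ∀ (x : G) (k : ℕ), x ^ 2 ^ k = 1 → x * x = 1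
  comm : ∀ {t a b : G}, Inv t → Inv a → Inv b → Commute t a → Commute t b → Commute a b

namespace TI2

variable (h : TI2 G)
include h

theorem sq_of_mem {P : Subgroup G} (hP : IsPGroup 2 P) {x : G} (hx : x ∈ P) : x * x = 1 := by
  obtain ⟨k, hk⟩ := hP ⟨x, hx⟩
  exact h.sq x k (congrArg Subtype.val hk)

theorem ab {P : Subgroup G} (hP : IsPGroup 2 P) : IsMulCommutative P :=
  ⟨⟨fun a b => Subtype.ext (L.commute_of_sq_eq_one (fun _ => h.sq_of_mem hP) a.2 b.2)⟩⟩

theorem elem {P : Subgroup G} (hP : IsPGroup 2 P) : IsElementaryAbelian 2 P :=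
  ⟨h.ab hP, fun _ ha => by rw [pow_two, h.sq_of_mem hP ha]⟩

theorem commute {P : Subgroup G} (hP : IsPGroup 2 P) {a b : G} (ha : a ∈ P) (hb : b ∈ P) :
    Commute a b := L.commute_of_sq_eq_one (fun _ => h.sq_of_mem hP) ha hb

theorem inv (P : Sylow 2 G) {a : G} (ha : a ∈ (P : Subgroup G)) (a1 : a ≠ 1) : Inv a :=
  ⟨a1, h.sq_of_mem P.isPGroup' ha⟩

omit h in
theorem mem_of_norm (P : Sylow 2 G) {b : G} (hb : Inv b) (hn : b ∈ 𝐍((P : Subgroup G))) :
    b ∈ (P : Subgroup G) :=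
  ((hb.isPGroup.inf_normalizer_sylow P).le (mem_inf.2 ⟨mem_zpowers b, hn⟩)).2

theorem mem (P : Sylow 2 G) {a b : G} (ha : a ∈ (P : Subgroup G)) (a1 : a ≠ 1) (hb : b * b = 1)
    (hc : Commute a b) : b ∈ (P : Subgroup G) := by
  by_cases b1 : b = 1
  · rw [b1]; exact one_mem _
  refine mem_of_norm P ⟨b1, hb⟩ (centralizer_le_normalizer _ fun s hs => ?_)
  by_cases s1 : s = 1
  · rw [s1, one_mul, mul_one]
  exact h.comm (h.inv P ha a1) (h.inv P hs s1) ⟨b1, hb⟩ (h.commute P.isPGroup' ha hs) hc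

theorem mem_norm (P : Sylow 2 G) {a g : G} (ha : a ∈ (P : Subgroup G)) (a1 : a ≠ 1)
    (hg : g * a * g⁻¹ ∈ (P : Subgroup G)) : g ∈ 𝐍((P : Subgroup G)) :=
  mem_normalizer_fintype fun _ hs => h.mem P hg (conj_ne_one a1)
    (conj_sq (h.sq_of_mem P.isPGroup' hs)) ((h.commute P.isPGroup' ha hs).map (MulAut.conj g))

theorem se : SE G (Sylow 2 G) := by
  refine ⟨fun {a} ha {α β} h1 h2 => ?_, fun {a} ha => ?_⟩
  · have h3 := mem_of_norm α ha (Sylow.smul_eq_iff_mem_normalizer.1 h1)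
    have h4 := mem_of_norm β ha (Sylow.smul_eq_iff_mem_normalizer.1 h2)
    exact Sylow.ext (α.is_maximal' β.isPGroup' fun s hs => h.mem β h4 ha.ne
      (h.sq_of_mem α.isPGroup' hs) (h.commute α.isPGroup' h3 hs)).symm
  · obtain ⟨P, hP⟩ := ha.isPGroup.exists_le_sylow
    exact ⟨P, Sylow.smul_eq_iff_mem_normalizer.2 (le_normalizer (hP (mem_zpowers a)))⟩

omit h in
theorem exists_compl (P : Sylow 2 G) : ∃ D : Subgroup G, D ≤ 𝐍((P : Subgroup G)) ∧
    D ⊔ P = 𝐍((P : Subgroup G)) ∧ D ⊓ P = ⊥ ∧ Odd 𝐨(D) := by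
  have h1 : ¬ 2 ∣ (P : Subgroup G).relIndex 𝐍((P : Subgroup G)) := fun h =>
    P.not_dvd_index (h.trans (relIndex_dvd_index_of_le le_normalizer))
  obtain ⟨k, hk⟩ := P.isPGroup'.exists_card_eq
  obtain ⟨D, h2, h3, h4, h5⟩ := H1.exists_complement_of_coprime (N := (P : Subgroup G))
    le_normalizer le_rfl (by
      rw [hk]; exact ((Nat.Prime.coprime_iff_not_dvd Nat.prime_two).2 h1).pow_left k)
  exact ⟨D, h2, h3, h4, h5 ▸ Nat.odd_iff.2 (Nat.two_dvd_ne_zero.1 h1)⟩

omit h in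
theorem isSolvable_norm (P : Sylow 2 G) : Group.IsSolvable 𝐍((P : Subgroup G)) := by
  haveI := H1.normal_subgroupOf_of_le (le_refl 𝐍((P : Subgroup G)))
  refine L.isSolvable_of_normal_of_quotient ((P : Subgroup G).subgroupOf _)
    (H1.isSolvable_of_isPGroup (P.isPGroup'.comap_subtype)) (feit_thompson _ ?_)
  exact Nat.odd_iff.2 (Nat.two_dvd_ne_zero.1 fun h =>
    P.not_dvd_index (Dvd.dvd.trans h (relIndex_dvd_index_of_le le_normalizer)))

theorem hyp (M : Subgroup G) : Hyp M (Sylow 2 G) := by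
  refine ⟨h.se.subgroup M, fun Q hQ => ⟨⟨fun a b => Subtype.ext (Subtype.ext ?_)⟩⟩, fun α => ?_⟩
  · exact h.commute (hQ.map M.subtype) (mem_map_of_mem _ a.2) (mem_map_of_mem _ b.2)
  · haveI := isSolvable_norm α
    exact Group.isSolvable_of_isSolvable_injective
      (f := (M.subtype.comp (MulAction.stabilizer M α).subtype).codRestrict 𝐍((α : Subgroup G))
        fun x => Sylow.smul_eq_iff_mem_normalizer.1 x.2)
      fun a b e => Subtype.ext (Subtype.ext (congrArg (fun x : 𝐍((α : Subgroup G)) => x.1) e))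

end TI2

/-- Subgroups of the same order are conjugate. -/
def CS (G : Type u) [Group G] : Prop :=
  ∀ H K : Subgroup G, 𝐨(H) = 𝐨(K) → ∃ g : G, K = H ^ᵍ g

namespace CS

variable (h : CS G)
include h

theorem quot (N : Subgroup G) [N.Normal] : CS (G ⧸ N) := fun H K e => by
  obtain ⟨g, hg⟩ := h (H.comap (QuotientGroup.mk' N)) (K.comap (QuotientGroup.mk' N))
    (by rw [L.card_comap_mk', L.card_comap_mk', e])
  refine ⟨QuotientGroup.mk' N g, Subgroup.ext fun x => ?_⟩
  obtain ⟨x, rfl⟩ := QuotientGroup.mk'_surjective N x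
  rw [H1.mem_map_conj, ← map_inv, ← map_mul, ← map_mul, ← mem_comap, ← mem_comap, hg,
    H1.mem_map_conj]

theorem isConj {a b : G} (ha : Inv a) (hb : Inv b) : ∃ g, g * a * g⁻¹ = b := by
  obtain ⟨g, hg⟩ := h (zpowers a) (zpowers b) (ha.card_zpowers.trans hb.card_zpowers.symm)
  refine ⟨g, ((mem_zp hb).1 ?_).resolve_left (conj_ne_one ha.ne)⟩
  rw [hg]
  exact mem_map_of_mem _ (mem_zpowers a)

theorem le_of_normal {N H K : Subgroup G} [N.Normal] (hH : H ≤ N) (e : 𝐨(H) = 𝐨(K)) : K ≤ N := by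
  obtain ⟨g, rfl⟩ := h H K e
  exact H1.map_conj_le_of_mem_normalizer hH (le_normalizer_of_normal (mem_top g))

theorem ti2 (h2 : Rk2 (⊤ : Subgroup G)) : TI2 G := by
  obtain ⟨a, -, b, -, ha, hb, hne, hc⟩ := h2
  have hsq : ∀ (k : ℕ) (x : G), x ^ 2 ^ k = 1 → x * x = 1 := by
    intro k
    induction k with
    | zero => intro x hx; rw [pow_zero, pow_one] at hx; rw [hx, one_mul]
    | succ k ih =>
      intro x hx
      by_contra hx2
      have h4 := ih (x ^ 2) (by rw [← pow_mul, ← pow_succ', hx])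
      have ho : orderOf x = 2 ^ (1 + 1) := orderOf_eq_prime_pow (by rwa [pow_one, pow_two])
        (by rw [← pow_add] at h4; exact h4)
      obtain ⟨g, hg⟩ := h (kl a b) (zpowers x) (by rw [card_kl ha hb hc hne, Nat.card_zpowers, ho]; rfl)
      obtain ⟨y, hy, rfl⟩ := hg.le (mem_zpowers x)
      refine hx2 (conj_sq ?_)
      rcases (mem_kl ha hb hc).1 hy with rfl | rfl | rfl | rfl
      exacts [one_mul 1, ha.sq, hb.sq, (ha.mul hb hne hc).sq]
  refine ⟨fun x k => hsq k x, fun {t c d} ht hc hd h1 h2 => ?_⟩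
  by_cases hp : ∀ r, r.Prime → r ∣ orderOf (c * d) → r = 2
  · have h3 := hsq _ (c * d) (by
      rw [← Nat.eq_prime_pow_of_unique_prime_dvd (orderOf_pos _).ne' (hp _), pow_orderOf_eq_one])
    rw [Commute, SemiconjBy, eq_inv_of_mul_eq_one_left h3, mul_inv_rev, hc.inv_eq, hd.inv_eq]
  exfalso
  push Not at hp
  obtain ⟨r, hr, hd', r2⟩ := hp
  let y := (c * d) ^ (orderOf (c * d) / r)
  have hy : orderOf y = r := orderOf_pow_orderOf_div (orderOf_pos _).ne' hd'
  have ho : Odd (orderOf y) := hy ▸ hr.odd_of_ne_two r2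
  have hi : c * y * c = y⁻¹ := L.invol_conj_pow hc.sq hd.sq _
  have hty : Commute t y := (h1.mul_right h2).pow_right _
  have hcop : ∀ s : G, Inv s → (𝐨(zpowers s)).Coprime 𝐨(zpowers y) := fun s hs =>
    hs.coprime (by rwa [Nat.card_zpowers])
  have hn : zpowers c ≤ 𝐍(zpowers y) := zpowers_le.2 (mem_normalizer_fintype fun x hx => by
    rw [hc.inv_eq, inverts_of_mem_zpowers hc.sq hi hx]; exact inv_mem hx)
  obtain ⟨g, hg⟩ := h (zpowers t ⊔ zpowers y) (zpowers c ⊔ zpowers y) (by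
    rw [H1.card_sup_of_coprime hn (hcop c hc), H1.card_sup_of_coprime
      (H1.le_normalizer_of_le_centralizer (zp_le_cent hty)) (hcop t ht), hc.card_zpowers,
      ht.card_zpowers])
  have hcm : zpowers t ⊔ zpowers y ≤ 𝐂((zpowers t ⊔ zpowers y : Subgroup G)) := by
    refine sup_le ?_ ?_ <;> rw [le_centralizer_iff] <;>
      exact sup_le (zp_le_cent (by first | exact hty | exact hty.symm | exact Commute.refl _))
        (zp_le_cent (by first | exact hty | exact hty.symm | exact Commute.refl _))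
  obtain ⟨c', hc', e1⟩ := hg.le (mem_sup_left (mem_zpowers c))
  obtain ⟨y', hy', e2⟩ := hg.le (mem_sup_right (mem_zpowers y))
  have h5 : c * y = y * c := by
    rw [← e1, ← e2, ← map_mul, ← map_mul, hcm hy' c' hc']
  rw [h5, hc.mul_cancel_right] at hi
  exact hr.ne_one (by rw [← hy, eq_one_of_eq_inv ho hi, orderOf_one])

end CS

end Cfsg.Agent.Cj
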