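/-
Groups in which subgroups of equal order are conjugate: the action of `N(S)` on `S`.
-/
import Cfsg.Agent.Cj.TI

set_option autoImplicit false
set_option linter.unusedSectionVars false
set_option linter.style.haveILetI false

namespace Cfsg.Agent.Cj

open Subgroup Cfsg Cfsg.Agent Cfsg.Agent.FT Cfsg.Agent.P6
open scoped IsMulCommutative commutatorElement

universe u

variable {G : Type u} [Group G] [Finite G]

theorem arith {n f c : ℕ} (hn : 2 < 2 ^ n) (hc : 2 ≤ c) (h1 : 2 ^ n = c ^ f) (ho : Odd f)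
    (h2 : 2 ^ n - 2 ≤ 6 * f) :
    (n = 2 ∧ f = 1) ∨ (n = 3 ∧ f = 1) ∨ (n = 3 ∧ f = 3) ∨ (n = 5 ∧ f = 5) := by
  have hf : f ≠ 0 := by rintro rfl; simp at ho
  obtain ⟨m, -, rfl⟩ := (Nat.dvd_prime_pow Nat.prime_two).1 (h1 ▸ dvd_pow_self c hf)
  rw [← pow_mul] at h1
  have h3 : n = m * f := Nat.pow_right_injective le_rfl h1
  have hm : m ≠ 0 := by rintro rfl; simp at hc
  have h4 : f ≤ n := h3 ▸ Nat.le_mul_of_pos_left f (Nat.pos_of_ne_zero hm)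
  have h5 : ∀ k, 6 * (k + 6) + 2 < 2 ^ (k + 6) := fun k => by
    induction k with
    | zero => norm_num
    | succ k ih => rw [show k + 1 + 6 = (k + 6) + 1 by ring, pow_succ]; omega
  have h6 : n < 6 := by
    by_contra h
    obtain ⟨k, rfl⟩ := Nat.exists_eq_add_of_le' (not_lt.1 h)
    have := h5 k
    omega
  have h7 : f ∣ n := h3 ▸ dvd_mul_left f m
  obtain ⟨j, rfl⟩ := ho
  clear h1 h3 h5
  have : j < 3 := by omega
  interval_cases n <;> interval_cases j <;> simp_all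

/-- The normalizer of an elementary abelian Sylow `2`-subgroup. -/
structure St (P : Sylow 2 G) (D : Subgroup G) (a : G) (n f : ℕ) : Prop where
  le : D ≤ 𝐍((P : Subgroup G))
  sup : D ⊔ P = 𝐍((P : Subgroup G))
  inf : D ⊓ P = ⊥
  odd : Odd 𝐨(D)
  mem : a ∈ (P : Subgroup G)
  ne : a ≠ 1
  card : 𝐨((P : Subgroup G)) = 2 ^ n
  ncard : {c | ∃ d ∈ D, d * a * d⁻¹ = c} = ((P : Subgroup G) : Set G) \ {1}
  cardD : 𝐨(D) = 𝐨((𝐂[a] ⊓ D : Subgroup G)) * (2 ^ n - 1)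
  cardR : 𝐨((𝐂[a] ⊓ D : Subgroup G)) = 𝐨((D ⊓ 𝐂((P : Subgroup G)) : Subgroup G)) * f
  cases : (n = 2 ∧ f = 1) ∨ (n = 3 ∧ f = 1) ∨ (n = 3 ∧ f = 3) ∨ (n = 5 ∧ f = 5)

theorem CS.exists_st (h : CS G) (h2 : Rk2 (⊤ : Subgroup G)) (P : Sylow 2 G) :
    ∃ D a n f, St P D a n f := by
  classical
  have hT := h.ti2 h2
  obtain ⟨D, hD, hsup, hinf, ho⟩ := TI2.exists_compl P
  obtain ⟨a, b, ha, hb, hne, aP, bP⟩ : ∃ a b, Inv a ∧ Inv b ∧ a ≠ b ∧ a ∈ (P : Subgroup G) ∧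
      b ∈ (P : Subgroup G) := by
    obtain ⟨a, -, b, -, ha, hb, hne, hc⟩ := h2
    obtain ⟨Q, hQ⟩ := ha.isPGroup.exists_le_sylow
    obtain ⟨g, rfl⟩ := MulAction.exists_smul_eq G Q P
    have h1 := hQ (mem_zpowers a)
    exact ⟨_, _, ha.conj g, hb.conj g, fun e => hne (mul_left_cancel (mul_right_cancel e)),
      ⟨a, h1, rfl⟩, ⟨b, hT.mem Q h1 ha.ne hb.sq hc, rfl⟩⟩
  have hc : ∀ {x y}, x ∈ (P : Subgroup G) → y ∈ (P : Subgroup G) → Commute x y :=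
    hT.commute P.isPGroup'
  have hred : ∀ g ∈ 𝐍((P : Subgroup G)), ∃ d ∈ D, ∀ x ∈ (P : Subgroup G),
      d * x * d⁻¹ = g * x * g⁻¹ := fun g hg => by
    obtain ⟨d, hd, s, hs, rfl⟩ := (H1.mem_sup_iff_of_le_normalizer hD).1 (hsup ▸ hg)
    refine ⟨d, hd, fun x hx => ?_⟩
    rw [show d * s * x * (d * s)⁻¹ = d * (s * x * s⁻¹) * d⁻¹ by group, hc hs hx,
      mul_inv_cancel_right]
  have htr : ∀ x ∈ (P : Subgroup G), x ≠ 1 → ∀ y ∈ (P : Subgroup G), y ≠ 1 →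
      ∃ d ∈ D, d * x * d⁻¹ = y := fun x hx x1 y hy y1 => by
    obtain ⟨g, rfl⟩ := h.isConj (hT.inv P hx x1) (hT.inv P hy y1)
    obtain ⟨d, hd, e⟩ := hred g (hT.mem_norm P hx x1 hy)
    exact ⟨d, hd, e x hx⟩
  have hG : GL1 (P : Subgroup G) D := ⟨hT.elem P.isPGroup', fun e => ha.ne (mem_bot.1 (e ▸ aP)),
    hD, ho, htr⟩
  obtain ⟨n, hn⟩ := P.isPGroup'.exists_card_eq
  have hcl : {c | ∃ d ∈ D, d * a * d⁻¹ = c} = ((P : Subgroup G) : Set G) \ {1} := by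
    ext c
    refine ⟨?_, fun ⟨h1, h2⟩ => htr a aP ha.ne c h1 h2⟩
    rintro ⟨d, hd, rfl⟩
    exact ⟨H1.conj_mem_of_le_normalizer hD hd aP, conj_ne_one ha.ne⟩
  have hP1 : (((P : Subgroup G) : Set G) \ {1}).ncard = 2 ^ n - 1 := by
    rw [Set.ncard_sdiff_singleton_of_mem (one_mem _), ← hn]; rfl
  have hCa : 𝐂((P : Subgroup G)) ≤ 𝐂[a] := centralizer_le (Set.singleton_subset_iff.2 aP)
  let R : Subgroup G := 𝐂[a] ⊓ D
  let f := 𝐂((P : Subgroup G)).relIndex R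
  have hR : 𝐨(R) = 𝐨((D ⊓ 𝐂((P : Subgroup G)) : Subgroup G)) * f := by
    rw [← H1.card_inf_mul_relIndex 𝐂((P : Subgroup G)) R, ← inf_assoc, inf_eq_left.2 hCa,
      inf_comm]
  refine ⟨D, a, n, f, hD, hsup, hinf, ho, aP, ha.ne, hn, hcl, ?_, hR, ?_⟩
  · rw [← hP1, ← hcl, ncard_class, H1.card_inf_mul_relIndex]
  have h4 : 4 ≤ 2 ^ n := by
    rw [← hn, ← card_kl ha hb (hc aP bP) hne]
    exact card_le_of_le (kl_le aP bP)
  refine arith (c := 𝐨(((P : Subgroup G) ⊓ 𝐂(R) : Subgroup G))) (by omega) ?_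
    (hn ▸ hG.card_eq_pow inf_le_right aP ha.ne inf_le_left)
    ((odd_of_le inf_le_right ho).of_dvd_nat (hR ▸ dvd_mul_left f _)) ?_
  · exact ha.card_zpowers.ge.trans
      (card_le_of_le (zpowers_le.2 ⟨aP, fun r hr => (hr.1 a rfl).symm⟩))
  choose! e he he' using fun x hx x1 => htr x hx x1 a aP ha.ne
  let T : Finset G := {a, b, a * b}
  have hTP : ∀ x ∈ T, x ∈ (P : Subgroup G) := fun x hx => by
    simp only [T, Finset.mem_insert, Finset.mem_singleton] at hx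
    rcases hx with rfl | rfl | rfl
    exacts [aP, bP, mul_mem aP bP]
  have hT3 : T.offDiag.card ≤ 6 := by
    have : T.card ≤ 3 := Finset.card_le_three
    rw [Finset.offDiag_card]
    interval_cases T.card <;> simp
  let O : G × G → Finset G := fun p =>
    (Set.toFinite {c | ∃ y ∈ R, y * (e p.1 * p.2 * (e p.1)⁻¹) * y⁻¹ = c}).toFinset
  have hO : ∀ p ∈ T.offDiag, p.1 ≠ 1 → (O p).card ≤ f := fun p hp p1 => by
    obtain ⟨h1, h2, -⟩ := Finset.mem_offDiag.1 hp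
    rw [← Set.ncard_eq_toFinset_card, ncard_class]
    exact relIndex_le_of_le_left (centralizer_le (Set.singleton_subset_iff.2
      (H1.conj_mem_of_le_normalizer hD (he _ (hTP _ h1) p1) (hTP _ h2)))) index_ne_zero_of_finite
  have hT1 : ∀ x ∈ T, x ≠ 1 := fun x hx => by
    simp only [T, Finset.mem_insert, Finset.mem_singleton] at hx
    rcases hx with rfl | rfl | rfl
    exacts [ha.ne, hb.ne, (ha.mul hb hne (hc aP bP)).ne]
  have hsub : (((P : Subgroup G) : Set G) \ {1}) \ {a} ⊆ (T.offDiag.biUnion O : Finset G) := by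
    rintro c ⟨⟨cP, c1⟩, ca⟩
    have hc' := hT.inv P cP c1
    obtain ⟨g, hg⟩ := h (kl a b) (kl a c) (by
      rw [card_kl ha hb (hc aP bP) hne, card_kl ha hc' (hc aP cP) (Ne.symm ca)])
    have hk : ∀ x ∈ kl a c, x ≠ 1 → ∃ u ∈ T, g * u * g⁻¹ = x := fun x hx x1 => by
      obtain ⟨u, hu, rfl⟩ := hg.le hx
      refine ⟨u, ?_, rfl⟩
      rcases (mem_kl ha hb (hc aP bP)).1 hu with rfl | rfl | rfl | rfl
      · exact absurd (map_one _) x1
      all_goals simp [T]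
    obtain ⟨u, hu, eu⟩ := hk a (mem_sup_left (mem_zpowers a)) ha.ne
    obtain ⟨v, hv, ev⟩ := hk c (mem_sup_right (mem_zpowers c)) c1
    obtain ⟨d, hd, ed⟩ := hred g (hT.mem_norm P (hTP u hu) (hT1 u hu) (eu ▸ aP))
    rw [← ed u (hTP u hu)] at eu
    rw [← ed v (hTP v hv)] at ev
    refine Finset.mem_coe.2 (Finset.mem_biUnion.2 ⟨(u, v), Finset.mem_offDiag.2
      ⟨hu, hv, fun e => ca ?_⟩, (Set.Finite.mem_toFinset _).2 ⟨d * (e u)⁻¹, ⟨L.mem_cent_iff.2 ?_,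
        D.mul_mem hd (D.inv_mem (he u (hTP u hu) (hT1 u hu)))⟩, ?_⟩⟩)
    · change u = v at e
      rw [← ev, ← e, eu]; rfl
    · change a * (d * (e u)⁻¹) = d * (e u)⁻¹ * a
      conv_lhs => rw [← eu]
      conv_rhs => rw [← he' u (hTP u hu) (hT1 u hu)]
      group
    · rw [← ev]; group
  have h5 := Set.ncard_le_ncard hsub
  rw [Set.ncard_sdiff_singleton_of_mem (Set.mem_sdiff_singleton.2 ⟨aP, ha.ne⟩), hP1, Set.ncard_coe_finset] at h5
  have h6 := Finset.card_biUnion_le_card_mul _ O f fun p hp =>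
    hO p hp (hT1 _ (Finset.mem_offDiag.1 hp).1)
  have h7 := Nat.mul_le_mul_right f hT3
  omega

end Cfsg.Agent.Cj
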