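/-
Groups in which subgroups of equal order are conjugate: the classification modulo `O(G)`.
-/
import Cfsg.Agent.Cj.Num
import Cfsg.Agent.Cj.Ext
import Cfsg.Agent.L.ThreePrimes
import Cfsg.Agent.P1.ZStar

set_option autoImplicit false
set_option linter.unusedSectionVars false
set_option linter.style.haveILetI false

namespace Cfsg.Agent.Cj

open Subgroup Cfsg Cfsg.Agent Cfsg.Agent.FT Cfsg.Agent.P6
open scoped IsMulCommutative commutatorElement

universe u

/-- Bender's theorem for simple groups with abelian Sylow `2`-subgroups. -/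
def EacHyp : Prop := ∀ (G : Type u) [Group G] [Finite G] (Ω : Type u) [MulAction G Ω],
  Hyp G Ω → IsSimpleGroup G → Rk2 (⊤ : Subgroup G) → Nontrivial Ω →
    (∀ α : Ω, ∃ a : G, Inv a ∧ a • α = α) → L.EAC G

variable {G : Type u} [Group G] [Finite G]

theorem eq_bot_of_odd (hO : pPrimeCore 2 G = ⊥) {N : Subgroup G} (hn : N.Normal)
    (ho : Odd 𝐨(N)) : N = ⊥ :=
  eq_bot_iff.2 (hO ▸ L.le_pPrimeCore hn (Nat.coprime_two_right.2 ho))

namespace St

variable {P : Sylow 2 G} {D : Subgroup G} {a : G} {n f : ℕ} (s : St P D a n f)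
include s

theorem exists_F (hW : D ⊓ 𝐂((P : Subgroup G)) = ⊥) (hp : (2 ^ n - 1).Prime)
    (hf : f < 2 ^ n - 1) (hm : f = 1 ∨ f = (f * (2 ^ n - 1)).minFac) :
    ∃ F : Subgroup G, F ⊲ D ∧ IsMulCommutative F ∧ (f = 1 → D ≤ F) ∧
      ∀ v ∈ (P : Subgroup G), v ≠ 1 → ∃ x ∈ F, x * a * x⁻¹ = v := by
  have hR := s.cardR
  rw [hW, card_bot, one_mul] at hR
  have hD := s.cardD
  rw [hR] at hD
  haveI := Fact.mk hp
  obtain ⟨⟨x, hx⟩, ho⟩ := exists_prime_orderOf_dvd_card' (G := D) _ (hD ▸ dvd_mul_left _ f)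
  rw [← Subgroup.orderOf_coe] at ho
  have hle : zpowers x ≤ D := zpowers_le.2 hx
  have hi : (zpowers x).relIndex D = f := by
    have := H1.card_mul_relIndex hle
    rw [Nat.card_zpowers, ho, hD, mul_comm] at this
    exact Nat.eq_of_mul_eq_mul_right hp.pos this
  have h1 : f = 1 → D ≤ zpowers x := fun e => relIndex_eq_one.1 (hi.trans e)
  refine ⟨zpowers x, ⟨hle, ?_⟩, inferInstance, h1, fun v hv v1 => ?_⟩
  · rcases hm with hm | hm
    · exact (h1 hm).trans le_normalizer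
    · exact (normal_subgroupOf_iff_le_normalizer hle).1
        (normal_of_index_eq_minFac_card (by rw [hD, ← hm]; exact hi))
  have h2 : 𝐂[a].relIndex (zpowers x) = 2 ^ n - 1 := by
    refine ((Nat.dvd_prime hp).1 (ho ▸ Nat.card_zpowers x ▸ relIndex_dvd_card _ _)).resolve_left
      fun e => ?_
    have h3 := card_le_of_le (le_inf (relIndex_eq_one.1 e) hle)
    rw [Nat.card_zpowers, ho, hR] at h3
    omega
  have h3 : {c | ∃ y ∈ zpowers x, y * a * y⁻¹ = c} = ((P : Subgroup G) : Set G) \ {1} := by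
    refine Set.eq_of_subset_of_ncard_le ?_ ?_
    · rw [← s.ncard]
      rintro c ⟨y, hy, e⟩
      exact ⟨y, hle hy, e⟩
    · rw [ncard_class, h2, Set.ncard_sdiff_singleton_of_mem (one_mem _), ← s.card]; rfl
  exact h3.ge ⟨hv, v1⟩

theorem normal (hT : TI2 G) (hO : pPrimeCore 2 G = ⊥) [(P : Subgroup G).Normal] :
    (n = 2 ∧ Nonempty (G ≃* alternatingGroup (Fin 4))) ∨ (2 < n ∧
      (Nonempty (G ≃* affineGroup (GaloisField 2 3)) ∨
      Nonempty (G ≃* semiaffineGroup (GaloisField 2 3)) ∨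
      Nonempty (G ≃* semiaffineGroup (GaloisField 2 5)))) := by
  have hsup : D ⊔ P = ⊤ := s.sup.trans (normalizer_eq_top _)
  have hW : D ⊓ 𝐂((P : Subgroup G)) = ⊥ := eq_bot_of_odd hO (normalizer_eq_top_iff.1 (by
    rw [eq_top_iff, ← hsup]
    exact sup_le (H1.le_normalizer_inf le_normalizer (H1.le_normalizer_centralizer s.le))
      (H1.le_normalizer_of_le_centralizer (le_centralizer_iff.1 inf_le_right))))
    (odd_of_le inf_le_left s.odd)
  have hR := s.cardR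
  rw [hW, card_bot, one_mul] at hR
  have hD := s.cardD
  rw [hR] at hD
  have hG : Nat.card G = f * (2 ^ n - 1) * 2 ^ n := by
    rw [← card_top, ← hsup, H1.card_sup_of_inf_eq_bot s.le s.inf, hD, s.card]
  have key := fun hn hp hf hm => (s.exists_F hW hp hf hm).elim fun F h =>
    (exists_perm (hT.ab P.isPGroup') hn s.card hsup s.inf hW h.1 h.2.1 s.mem s.ne h.2.2.2).imp
      fun Ψ h' => And.intro h'.1 (And.intro h'.2.1 fun e => h'.2.2 (h.2.2.1 e))
  have hs : ∀ m, m ≠ 0 → 𝐨(semiaffineGroup (GaloisField 2 m)) ≤ m * (2 ^ m - 1) * 2 ^ m :=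
    fun m hm => by
      refine (card_semiaffine_le _).trans ?_
      rw [GaloisField.card 2 m hm]
      exact (Nat.mul_le_mul_left _ (Nat.mul_le_mul_left _ (card_ringAut_le hm))).trans
        (le_of_eq (by ring))
  rcases s.cases with ⟨rfl, rfl⟩ | ⟨rfl, rfl⟩ | ⟨rfl, rfl⟩ | ⟨rfl, rfl⟩
  · refine Or.inl ⟨rfl, H5.nonempty_mulEquiv_alternating_four hG hD fun hn => ?_⟩
    rw [eq_bot_of_odd hO hn s.odd, card_bot] at hD
    omega
  · obtain ⟨Ψ, h1, -, h2⟩ := key (by norm_num) (by norm_num) (by norm_num) (Or.inl rfl)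
    refine Or.inr ⟨by norm_num, Or.inl (nonempty_equiv_of_le Ψ h1 (h2 rfl)
      ((card_affine_le _).trans ?_))⟩
    rw [GaloisField.card 2 3 (by norm_num), hG, one_mul]
  · obtain ⟨Ψ, h1, h2, -⟩ := key (by norm_num) (by norm_num) (by norm_num) (Or.inr (by norm_num))
    exact Or.inr ⟨by norm_num, Or.inr (Or.inl (nonempty_equiv_of_le Ψ h1 h2
      (hG ▸ hs 3 (by norm_num))))⟩
  · obtain ⟨Ψ, h1, h2, -⟩ := key (by norm_num) (by norm_num) (by norm_num) (Or.inr (by norm_num))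
    exact Or.inr ⟨by norm_num, Or.inr (Or.inr (nonempty_equiv_of_le Ψ h1 h2
      (hG ▸ hs 5 (by norm_num))))⟩

end St

/-- The subgroup generated by the involutions is simple. -/
theorem TI2.exists_simple (hT : TI2 G) (hO : pPrimeCore 2 G = ⊥) (P : Sylow 2 G)
    (hn : ¬ (P : Subgroup G).Normal) {a : G} (aP : a ∈ (P : Subgroup G)) (a1 : a ≠ 1) :
    ∃ M : Subgroup G, M.Normal ∧ IsSimpleGroup M ∧ (∀ b : G, Inv b → b ∈ M) ∧ 𝐂(M) = ⊥ ∧
      Nontrivial (Sylow 2 G) ∧ ∃ u, Inv u ∧ ¬ Commute a u := by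
  have ha := hT.inv P aP a1
  obtain ⟨u, hu, hau⟩ : ∃ u, Inv u ∧ ¬ Commute a u := by
    by_contra! hc
    refine hn ⟨fun x hx g => ?_⟩
    by_cases x1 : x = 1
    · simp [x1]
    have := (hT.inv P hx x1).conj g
    exact hT.mem P aP a1 this.sq (hc _ this)
  obtain ⟨Q, hQ⟩ := hT.se.ex hu
  have hPQ : P ≠ Q := fun e => hau (hT.commute P.isPGroup' aP (TI2.mem_of_norm P hu
    (Sylow.smul_eq_iff_mem_normalizer.1 (e ▸ hQ))))
  have hP : a • P = P := Sylow.smul_eq_iff_mem_normalizer.2 (le_normalizer aP)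
  let M := closure {b : G | Inv b}
  have hM : ∀ b : G, Inv b → b ∈ M := fun b hb => subset_closure hb
  haveI hMn : M.Normal := ⟨fun x hx g => H1.map_conj_le_iff.1 (by
    rw [MonoidHom.map_closure, closure_le]
    rintro _ ⟨b, hb, rfl⟩
    exact hM _ (Inv.conj hb g)) x hx⟩
  have hF : (Fx (Sylow 2 G) M).Nontrivial :=
    ⟨P, ⟨a, hM a ha, ha, hP⟩, Q, ⟨u, hM u hu, hu, hQ⟩, hPQ⟩
  refine ⟨M, hMn, ?_, hM, eq_bot_of_odd hO inferInstance (odd_of_no_inv fun z hz h1 => hau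
    (hT.comm h1 ha hu (hz a (hM a ha)).symm (hz u (hM u hu)).symm)), ⟨P, Q, hPQ⟩, u, hu, hau⟩
  haveI : Nontrivial M := ⟨⟨⟨a, hM a ha⟩, 1, fun e => a1 (congrArg Subtype.val e)⟩⟩
  refine ⟨fun K hK => ?_⟩
  by_cases ho : Odd 𝐨(K)
  · left
    have h1 := L.map_subtype_pPrimeCore Nat.prime_two M
    rw [hO, bot_inf_eq, map_eq_bot_iff_of_injective _ M.subtype_injective] at h1
    exact eq_bot_of_odd h1 hK ho
  · right
    obtain ⟨b, hb, h1⟩ := exists_inv_of_even ho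
    have h2 : M ≤ K.map M.subtype := (closure_le _).2 fun c hc => by
      obtain ⟨g, hg, e⟩ := hT.se.exists_conj hF (a := b) ⟨fun e => h1.ne (Subtype.ext e),
        congrArg Subtype.val h1.sq⟩ hc b.2 (hM c hc)
      exact ⟨_, hK.conj_mem b hb ⟨g, hg⟩, e⟩
    refine eq_top_iff.2 fun x _ => ?_
    obtain ⟨y, hy, e⟩ := h2 x.2
    exact (Subtype.ext e : y = x) ▸ hy

theorem CS.not_normal (hE : EacHyp.{u}) (h : CS G) (h2 : Rk2 (⊤ : Subgroup G))
    (hO : pPrimeCore 2 G = ⊥) {P : Sylow 2 G} {D : Subgroup G} {a : G} {n f : ℕ}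
    (s : St P D a n f) (hn : ¬ (P : Subgroup G).Normal) :
    (n = 2 ∧ Nonempty (G ≃* alternatingGroup (Fin 5))) ∨ (2 < n ∧
      (Nonempty (G ≃* Matrix.ProjectiveSpecialLinearGroup (Fin 2) (GaloisField 2 3)) ∨
      Nonempty (G ≃* MulAut (Matrix.ProjectiveSpecialLinearGroup (Fin 2) (GaloisField 2 5))))) := by
  have hT := h.ti2 h2
  have ha := hT.inv P s.mem s.ne
  obtain ⟨M, hMn, hs, hM, hC, hnt, u, hu, hau⟩ := hT.exists_simple hO P hn s.mem s.ne
  have hi : ∀ (b : G) (hb : Inv b), Inv (⟨b, hM b hb⟩ : M) := fun b hb =>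
    ⟨fun e => hb.ne (congrArg Subtype.val e), Subtype.ext hb.sq⟩
  have hPM : (P : Subgroup G) ≤ M := fun x hx => by
    by_cases x1 : x = 1
    · rw [x1]; exact one_mem _
    · exact hM x (hT.inv P hx x1)
  have eac : L.EAC M := hE M (Sylow 2 G) (hT.hyp M) hs (by
      obtain ⟨a, -, b, -, ha, hb, hne, hc⟩ := h2
      exact ⟨_, mem_top _, _, mem_top _, hi a ha, hi b hb, fun e => hne (congrArg Subtype.val e),
        Subtype.ext hc⟩) hnt fun α => by
    obtain ⟨g, rfl⟩ := MulAction.exists_smul_eq G P α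
    exact ⟨_, hi _ (ha.conj g),
      conj_fix (Sylow.smul_eq_iff_mem_normalizer.2 (le_normalizer s.mem))⟩
  let t : M := ⟨a, hM a ha⟩
  have hCt : 𝐂[t] = (P : Subgroup G).subgroupOf M := Subgroup.ext fun x => by
    rw [L.mem_cent_iff, mem_subgroupOf]
    exact ⟨fun hx => hT.mem P s.mem s.ne (congrArg Subtype.val (eac t x (hi a ha).ne (hi a ha).sq
      hx)) (congrArg Subtype.val hx), fun hx => Subtype.ext (hT.commute P.isPGroup' s.mem hx)⟩
  have hc : 𝐨(𝐂[t]) = 2 ^ n := by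
    rw [hCt, ← s.card]; exact Nat.card_congr (subgroupOfEquivOfLe hPM).toEquiv
  have hnc : ¬ Commute t ⟨u, hM u hu⟩ := fun e => hau (congrArg Subtype.val e)
  obtain ⟨m, h3, h4, h5, ⟨e1⟩, ⟨e2⟩⟩ := eac.exists_galoisField (hi a ha).ne (hi a ha).sq
    (hi u hu).sq hnc (by
      rw [hc]; rcases s.cases with ⟨rfl, -⟩ | ⟨rfl, -⟩ | ⟨rfl, -⟩ | ⟨rfl, -⟩ <;> norm_num)
  obtain rfl : m = n := Nat.pow_right_injective le_rfl (h4.symm.trans hc)
  have hE : EA2 t ⟨u, hM u hu⟩ m := ⟨eac, (hi a ha).ne, (hi a ha).sq, (hi u hu).sq, hnc, h3, h4, h5⟩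
  let c : G →* MulAut M := MulAut.conjNormal
  have hci : Function.Injective c := (injective_iff_map_eq_one c).2 fun g hg =>
    mem_bot.1 (hC ▸ fun x hx => (mul_inv_eq_iff_eq_mul.1 (congrArg (fun σ : MulAut M =>
      (σ ⟨x, hx⟩ : G)) hg)).symm)
  have hW : D ⊓ 𝐂((P : Subgroup G)) = ⊥ := eq_bot_iff.2 fun w hw => by
    obtain ⟨r, hr, e⟩ := hE.exists_conj (σ := c w) fun x hx => Subtype.ext (by
      rw [hCt] at hx
      exact mul_inv_eq_iff_eq_mul.2 (hw.2 x hx).symm)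
    rw [hCt] at hr
    rw [← s.inf]
    exact ⟨hw.1, hci (a₁ := w) (a₂ := r) (e.trans (MulEquiv.ext fun _ => rfl)) ▸ hr⟩
  have hR := s.cardR
  rw [hW, card_bot, one_mul] at hR
  have hCa : 𝐨(𝐂[a]) = f * 2 ^ m := by
    have h6 : 𝐂[a] ≤ D ⊔ P := s.sup ▸ fun g hg => hT.mem_norm P s.mem s.ne (by
      rw [← hg a rfl, mul_inv_cancel_right]; exact s.mem)
    rw [← inf_eq_left.2 h6, H1.dedekind_right s.le fun x hx => L.mem_cent_iff.2
      (hT.commute P.isPGroup' s.mem hx), H1.card_sup_of_inf_eq_bot (inf_le_right.trans s.le)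
      (by rw [inf_assoc, s.inf, inf_bot_eq]), hR, s.card]
  have hG : Nat.card G = 𝐨(M) * f := by
    have h6 : {x | IsConj a x} = Subtype.val '' {x | IsConj t x} := Set.ext fun x => by
      refine ⟨fun hx => ?_, by rintro ⟨y, hy, rfl⟩; exact M.subtype.map_isConj hy⟩
      obtain ⟨g, rfl⟩ := isConj_iff.1 hx
      exact ⟨_, hE.isConj (hi _ (ha.conj g)).ne (hi _ (ha.conj g)).sq, rfl⟩
    rw [← L.ncard_isConj_mul_card_centralizer a, h6, Set.ncard_image_of_injective _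
      Subtype.val_injective, hE.ncard_class, hCa, h5]
    ring
  have htop : f = 1 → Nonempty (G ≃* M) := fun e =>
    ⟨(topEquiv.symm.trans (MulEquiv.subgroupCongr (H1.eq_of_le_of_card_le le_top
      (by rw [card_top, hG, e, mul_one])).symm))⟩
  rcases s.cases with ⟨rfl, rfl⟩ | ⟨rfl, rfl⟩ | ⟨rfl, rfl⟩ | ⟨rfl, rfl⟩
  · obtain ⟨e3⟩ := htop rfl
    obtain ⟨e4⟩ := L.nonempty_SL2_equiv_alternating (F := GaloisField 2 2)
      (GaloisField.card 2 2 (by norm_num))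
    exact Or.inl ⟨rfl, ⟨(e3.trans e1).trans e4⟩⟩
  · obtain ⟨e3⟩ := htop rfl
    exact Or.inr ⟨by norm_num, Or.inl ⟨e3.trans e2⟩⟩
  · exfalso
    haveI : Fact (Nat.Prime 3) := ⟨Nat.prime_three⟩
    obtain ⟨⟨x, hx⟩, ho⟩ := exists_prime_orderOf_dvd_card' (G := M) 3 (by rw [h5]; norm_num)
    rw [← Subgroup.orderOf_coe] at ho
    have h6 := h.le_of_normal (zpowers_le.2 hx) (K := 𝐂[a] ⊓ D) (by rw [Nat.card_zpowers, ho, hR])
    have h7 : 𝐂[a] ⊓ D = ⊥ := eq_bot_iff.2 fun y hy => by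
      have h8 : (⟨y, h6 hy⟩ : M) ∈ 𝐂[t] := L.mem_cent_iff.2 (Subtype.ext (hy.1 a rfl))
      rw [hCt] at h8
      exact s.inf ▸ ⟨hy.2, h8⟩
    rw [h7, card_bot] at hR
    omega
  · haveI : Finite (MulAut M) := Finite.of_injective _ DFunLike.coe_injective
    exact Or.inr ⟨by norm_num, Or.inr ⟨(MulEquiv.ofBijective c
      (hci.bijective_of_nat_card_le (hG ▸ hE.card_aut_le))).trans (MulAut.congr e2)⟩⟩

theorem CS.elem (hE : EacHyp.{u}) (h : CS G) (h2 : Rk2 (⊤ : Subgroup G))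
    (hO : pPrimeCore 2 G = ⊥) (P : Sylow 2 G) :
    (Nonempty (G ≃* alternatingGroup (Fin 4)) ∨ Nonempty (G ≃* alternatingGroup (Fin 5))) ∨
    (4 < 𝐨((P : Subgroup G)) ∧ ((Nonempty (G ≃* affineGroup (GaloisField 2 3)) ∨
      Nonempty (G ≃* semiaffineGroup (GaloisField 2 3)) ∨
      Nonempty (G ≃* semiaffineGroup (GaloisField 2 5))) ∨
      (Nonempty (G ≃* Matrix.ProjectiveSpecialLinearGroup (Fin 2) (GaloisField 2 3)) ∨
      Nonempty (G ≃* MulAut (Matrix.ProjectiveSpecialLinearGroup (Fin 2) (GaloisField 2 5)))))) := by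
  obtain ⟨D, a, n, f, s⟩ := h.exists_st h2 P
  have h4 : 2 < n → 4 < 𝐨((P : Subgroup G)) := fun h =>
    s.card ▸ Nat.pow_lt_pow_right (a := 2) (by norm_num) h
  by_cases hn : (P : Subgroup G).Normal
  · exact (s.normal (h.ti2 h2) hO).imp (fun h => Or.inl h.2) fun h => ⟨h4 h.1, Or.inl h.2⟩
  · exact (h.not_normal hE h2 hO s hn).imp (fun h => Or.inr h.2) fun h => ⟨h4 h.1, Or.inr h.2⟩

theorem CS.quat (hE : EacHyp.{u}) (h : CS G) (h2 : ¬ Rk2 (⊤ : Subgroup G))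
    (hO : pPrimeCore 2 G = ⊥) :
    (IsCyclic G ∧ IsPGroup 2 G) ∨ Nonempty (G ≃* Matrix.SpecialLinearGroup (Fin 2) (ZMod 3)) ∨
      Nonempty (G ≃* Matrix.SpecialLinearGroup (Fin 2) (ZMod 5)) := by
  obtain ⟨P⟩ : Nonempty (Sylow 2 G) := inferInstance
  have hu : ∀ {a b : G}, Inv a → Inv b → Commute a b → a = b := fun ha hb hc => by
    by_contra hne
    exact h2 ⟨_, mem_top _, _, mem_top _, ha, hb, hne, hc⟩
  by_cases hcyc : IsCyclic P
  · obtain ⟨Q, N, hN, hc⟩ := H8.hasNPC_two_of_isCyclic P hcyc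
    have h1 := eq_bot_of_odd hO hN (hc.index_eq_card ▸
      Nat.odd_iff.2 (Nat.two_dvd_ne_zero.1 Q.not_dvd_index))
    rw [h1, isComplement'_bot_left] at hc
    have h3 : IsPGroup 2 G := (hc ▸ Q.isPGroup').of_equiv topEquiv
    rw [← P.is_maximal' (h3.to_subgroup ⊤) le_top] at hcyc
    exact Or.inl ⟨isCyclic_of_surjective topEquiv topEquiv.surjective, h3⟩
  right
  obtain ⟨z, zP, hz⟩ := exists_inv_of_even (X := (P : Subgroup G)) fun ho => hcyc (by
    haveI := (Nat.card_eq_one_iff_unique.1 (P.isPGroup'.card_eq_or_dvd.resolve_right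
      (Nat.two_dvd_ne_zero.2 (Nat.odd_iff.1 ho)))).1
    infer_instance)
  have hzc : ∀ g, Commute z g := fun g => commutatorElement_eq_one_iff_commute.1 (mem_bot.1 (hO ▸
    P1.brauer_suzuki hz.orderOf_eq (fun s hs hc => (hu hz (inv_of_orderOf hs) hc).symm) g))
  have hzu : ∀ g : G, g * g = 1 → g = 1 ∨ g = z := fun g hg => or_iff_not_imp_left.2 fun g1 =>
    (hu hz ⟨g1, hg⟩ (hzc g)).symm
  haveI := normal_zpowers_of_uniq hz.sq hzu
  have hD := DC.mk' hz.ne hz.sq hzu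
  set π := QuotientGroup.mk' (zpowers z)
  obtain ⟨i, j, hi, hj, hij, hc⟩ : ∃ i j : G, Inv (π i) ∧ Inv (π j) ∧ π i ≠ π j ∧
      Commute (π i) (π j) := by
    obtain ⟨k, hk, ⟨e⟩⟩ := (H3.isCyclic_or_quaternion_of_unique_involution P.isPGroup'
      fun x y hx hy => Subtype.ext (((hzu x (congrArg Subtype.val (inv_of_orderOf hx).sq)).resolve_left
        fun e => (inv_of_orderOf hx).ne (Subtype.ext e)).trans
        ((hzu y (congrArg Subtype.val (inv_of_orderOf hy).sq)).resolve_left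
        fun e => (inv_of_orderOf hy).ne (Subtype.ext e)).symm)).resolve_left hcyc
    obtain ⟨x, y, h1, -, h3, h4, h5⟩ := H3.exists_gens_of_mulEquiv_quaternion e
    obtain ⟨k, rfl⟩ := Nat.exists_eq_add_of_le' hk
    have h6 : ((x ^ 2 ^ (k + 1) : P) : G) = z := by
      refine (hzu _ ?_).resolve_left fun e => ?_
      · rw [← coe_mul, ← pow_add, ← two_mul, ← h1, pow_orderOf_eq_one, coe_one]
      · have := Nat.le_of_dvd (by positivity) (orderOf_dvd_of_pow_eq_one (Subtype.ext e))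
        have := Nat.pos_of_ne_zero (pow_ne_zero (k + 1) two_ne_zero)
        omega
    have h7 : ((x ^ 2 ^ k : P) : G) * (x ^ 2 ^ k : P) = z := by
      rw [← coe_mul, ← pow_add, ← two_mul, ← pow_succ', h6]
    have h8 : (y : G) * y = z := by rw [← coe_mul, ← pow_two, h4, h6]
    have key : ∀ g : G, g * g = z → Inv (π g) := fun g hg =>
      ⟨fun e => hz.ne (hg.symm.trans (hD.sq_eq_one e)), by rw [← map_mul, hg, hD.map]⟩
    refine ⟨_, _, key _ h7, key _ h8, fun e => h3 ?_, ?_⟩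
    · have h9 : (x ^ 2 ^ k)⁻¹ * y ∈ zpowers x := by
        rcases hD.ker (((x ^ 2 ^ k : P) : G)⁻¹ * y) (by rw [map_mul, map_inv, e, inv_mul_cancel])
          with h | h
        · rw [show (x ^ 2 ^ k)⁻¹ * y = 1 from Subtype.ext h]; exact one_mem _
        · rw [show (x ^ 2 ^ k)⁻¹ * y = _ from Subtype.ext (h.trans h6.symm)]
          exact pow_mem (mem_zpowers x) _
      exact (mul_mem_cancel_left (inv_mem (pow_mem (mem_zpowers x) _))).1 h9
    · have h9 : (y : G) * (x ^ 2 ^ k : P) * (y : G)⁻¹ = ((x ^ 2 ^ k : P) : G)⁻¹ := by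
        rw [← coe_inv, ← coe_mul, ← coe_mul, ← conj_pow, h5, inv_pow, coe_inv]
      have h10 := congrArg π h9
      rw [map_mul, map_mul, map_inv, map_inv, (key _ h7).inv_eq] at h10
      exact (mul_inv_eq_iff_eq_mul.1 h10).symm
  have h3 : Rk2 (⊤ : Subgroup (G ⧸ zpowers z)) := ⟨_, mem_top _, _, mem_top _, hi, hj, hij, hc⟩
  have hT := (h.quot (zpowers z)).ti2 h3
  have hO' : pPrimeCore 2 (G ⧸ zpowers z) = ⊥ := by
    refine L.eq_bot_of_comap_mk'_eq ?_
    have hle : zpowers z ≤ (pPrimeCore 2 (G ⧸ zpowers z)).comap π := QuotientGroup.le_comap_mk' _ _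
    have ho : Odd ((zpowers z).relIndex ((pPrimeCore 2 (G ⧸ zpowers z)).comap π)) := by
      rw [L.relIndex_eq_card_map_mk', map_comap_eq_self_of_surjective hD.surj]
      exact Nat.coprime_two_right.1 (L.coprime_card_pPrimeCore 2)
    obtain ⟨K, h4, h5, -, h6⟩ := H1.exists_complement_of_coprime hle le_normalizer_of_normal
      (by rw [hz.card_zpowers]; exact Nat.coprime_two_left.2 ho)
    have h7 := le_Od (X := K) ⟨h4, h5 ▸ sup_le le_normalizer
      (zpowers_le.2 (centralizer_le_normalizer _ fun g _ => (hzc g).symm))⟩ (h6 ▸ ho)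
    rw [eq_bot_of_odd hO (normalizer_eq_top_iff.1 (eq_top_iff.2
      (le_normalizer_of_normal.trans (norm_le_norm_Od _)))) (odd_Od _), le_bot_iff] at h7
    rw [← h5, h7, bot_sup_eq]
  obtain ⟨Q, hQ⟩ := (IsPGroup.of_card (p := 2) (n := 2) (card_kl hi hj hc hij)).exists_le_sylow
  rcases (h.quot (zpowers z)).elem hE h3 hO' Q with (⟨⟨e⟩⟩ | ⟨⟨e⟩⟩) | ⟨h4, -⟩
  · obtain ⟨ρ, w, hρ⟩ := exists_DC_SL23
    exact Or.inl (hD.nonempty_equiv (hρ.comp e.symm) hT.sq)
  · obtain ⟨ρ, w, hρ⟩ := exists_DC_SL25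
    exact Or.inr (hD.nonempty_equiv (hρ.comp e.symm) hT.sq)
  exfalso
  obtain ⟨c, hcQ, hc'⟩ := SetLike.not_le_iff_exists.1 fun hle : (Q : Subgroup _) ≤ kl (π i) (π j) =>
    h4.not_ge (card_kl hi hj hc hij ▸ card_le_of_le hle)
  obtain ⟨k, rfl⟩ := hD.surj c
  rw [mem_kl hi hj hc] at hc'
  push Not at hc'
  have iQ := hQ (mem_sup_left (mem_zpowers _))
  have jQ := hQ (mem_sup_right (mem_zpowers _))
  have key : ∀ g : G, π g ∈ (Q : Subgroup _) → π g ≠ 1 → π g ≠ π i → g * i = i * g * z := by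
    intro g hg g1 gi
    have e1 := hD.sq_eq hi.ne hi.sq
    have e2 := hD.sq_eq g1 (hT.inv Q hg g1).sq
    have e3 := hD.sq_eq (g := i * g) (by
      rw [map_mul]; exact (hi.mul (hT.inv Q hg g1) gi.symm (hT.commute Q.isPGroup' iQ hg)).ne)
      (by rw [map_mul]; exact hT.sq_of_mem Q.isPGroup' (mul_mem iQ hg))
    have e4 : g * i * g = i := mul_left_cancel (a := i) (by rw [e1, ← e3]; group)
    calc g * i = g * i * (z * z) := by rw [hz.sq, mul_one]
      _ = g * i * g * g * z := by rw [← e2]; group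
      _ = _ := by rw [e4]
  have e1 := key j jQ hj.ne hij.symm
  have e2 := key k hcQ hc'.1 hc'.2.1
  have e3 := key (j * k) (by rw [map_mul]; exact mul_mem jQ hcQ) (fun e => hc'.2.2.1 (by
      rw [map_mul] at e; rw [eq_inv_of_mul_eq_one_right e, hj.inv_eq])) (fun e => hc'.2.2.2 (by
      rw [map_mul] at e; rw [hc.eq, ← e, hj.mul_cancel_left]))
  rw [mul_assoc j, e2, ← mul_assoc, ← mul_assoc, e1, mul_assoc _ z, hzc k, ← mul_assoc,
    mul_left_inj, ← mul_assoc, mul_eq_left] at e3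
  exact hz.ne e3

theorem CS.main (hE : EacHyp.{u}) (h : CS G) :
    (IsCyclic (G ⧸ oddCore G) ∧ IsPGroup 2 (G ⧸ oddCore G)) ∨
    Nonempty (G ⧸ oddCore G ≃* affineGroup (GaloisField 2 3)) ∨
    Nonempty (G ⧸ oddCore G ≃* semiaffineGroup (GaloisField 2 3)) ∨
    Nonempty (G ⧸ oddCore G ≃* semiaffineGroup (GaloisField 2 5)) ∨
    Nonempty (G ⧸ oddCore G ≃* Matrix.ProjectiveSpecialLinearGroup (Fin 2) (GaloisField 2 3)) ∨
    Nonempty (G ⧸ oddCore G ≃*
      MulAut (Matrix.ProjectiveSpecialLinearGroup (Fin 2) (GaloisField 2 5))) ∨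
    Nonempty (G ⧸ oddCore G ≃* alternatingGroup (Fin 4)) ∨
    Nonempty (G ⧸ oddCore G ≃* alternatingGroup (Fin 5)) ∨
    Nonempty (G ⧸ oddCore G ≃* Matrix.SpecialLinearGroup (Fin 2) (ZMod 3)) ∨
    Nonempty (G ⧸ oddCore G ≃* Matrix.SpecialLinearGroup (Fin 2) (ZMod 5)) := by
  have h1 := h.quot (oddCore G)
  have hO := L.pPrimeCore_quotient_pPrimeCore (G := G) Nat.prime_two
  by_cases h2 : Rk2 (⊤ : Subgroup (G ⧸ oddCore G))
  · obtain ⟨P⟩ : Nonempty (Sylow 2 (G ⧸ oddCore G)) := inferInstance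
    rcases h1.elem hE h2 hO P with (h | h) | ⟨-, (h | h | h) | (h | h)⟩ <;>
      simp only [h, true_or, or_true]
  · rcases h1.quat hE h2 hO with h | h | h
    · exact Or.inl h
    all_goals simp only [h, true_or, or_true]

end Cfsg.Agent.Cj
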