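/-
Groups in which subgroups of equal order at most 4 are conjugate: the action of `N(S)` on `S`.
-/
import Cfsg.Agent.Cj.Main
import Cfsg.Agent.S4025
import Cfsg.Agent.P7.Final0

set_option autoImplicit false
set_option linter.unusedSectionVars false
set_option linter.style.haveILetI false

namespace Cfsg.Agent.Cj

open Subgroup Cfsg Cfsg.Agent Cfsg.Agent.FT Cfsg.Agent.P6
open scoped IsMulCommutative commutatorElement

universe u

variable {G : Type u} [Group G] [Finite G]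

/-- Subgroups of the same order `2`, `3` or `4` are conjugate. -/
def C4 (G : Type u) [Group G] : Prop :=
  ∀ A B : Subgroup G, 𝐨(A) = 𝐨(B) → 𝐨(A) = 2 ∨ 𝐨(A) = 3 ∨ 𝐨(A) = 4 → ∃ g : G, B = A ^ᵍ g

namespace C4

variable (h : C4 G)
include h

theorem isConj {a b : G} (ha : Inv a) (hb : Inv b) : ∃ g, g * a * g⁻¹ = b := by
  obtain ⟨g, hg⟩ := h (zpowers a) (zpowers b) (ha.card_zpowers.trans hb.card_zpowers.symm)
    (Or.inl ha.card_zpowers)
  refine ⟨g, ((mem_zp hb).1 ?_).resolve_left (conj_ne_one ha.ne)⟩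
  rw [hg]
  exact mem_map_of_mem _ (mem_zpowers a)

theorem sq (h2 : Rk2 (⊤ : Subgroup G)) (x : G) (hx : x ^ 4 = 1) : x * x = 1 := by
  obtain ⟨a, -, b, -, ha, hb, hne, hc⟩ := h2
  by_contra hx2
  have ho : orderOf x = 2 ^ (1 + 1) := orderOf_eq_prime_pow (by rwa [pow_one, pow_two]) hx
  obtain ⟨g, hg⟩ := h (kl a b) (zpowers x) (by rw [card_kl ha hb hc hne, Nat.card_zpowers, ho]; rfl)
    (Or.inr (Or.inr (card_kl ha hb hc hne)))
  obtain ⟨y, hy, rfl⟩ := hg.le (mem_zpowers x)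
  refine hx2 (conj_sq ?_)
  rcases (mem_kl ha hb hc).1 hy with rfl | rfl | rfl | rfl
  exacts [one_mul 1, ha.sq, hb.sq, (ha.mul hb hne hc).sq]

theorem exists_st (h2 : Rk2 (⊤ : Subgroup G)) (P : Sylow 2 G) {a : G} (aP : a ∈ (P : Subgroup G))
    (a1 : a ≠ 1) : ∃ D n f, St P D a n f := by
  classical
  have hel := P7.elem_of_four (h.sq h2) P.isPGroup'
  haveI := hel.1
  have hinv : ∀ {x}, x ∈ (P : Subgroup G) → x ≠ 1 → Inv x := fun hx x1 =>
    ⟨x1, by rw [← pow_two, hel.2 _ hx]⟩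
  have ha := hinv aP a1
  obtain ⟨D, hD, hsup, hinf, ho⟩ := TI2.exists_compl P
  have h4 : 4 ≤ 𝐨((P : Subgroup G)) := by
    obtain ⟨a, -, b, -, ha, hb, hne, hc⟩ := h2
    rw [← card_kl ha hb hc hne]
    exact Nat.le_of_dvd Nat.card_pos ((isSyl_top_coe Nat.prime_two P).card_dvd Nat.prime_two
      (IsPGroup.of_card (n := 2) (card_kl ha hb hc hne)) le_top)
  obtain ⟨b, bP, hb'⟩ := SetLike.not_le_iff_exists.1 fun hle : (P : Subgroup G) ≤ zpowers a => by
    have := card_le_of_le hle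
    rw [ha.card_zpowers] at this
    omega
  rw [mem_zp ha, not_or] at hb'
  have hb := hinv bP hb'.1
  have hne : a ≠ b := Ne.symm hb'.2
  have hc : ∀ {x y}, x ∈ (P : Subgroup G) → y ∈ (P : Subgroup G) → Commute x y :=
    fun hx hy => setLike_mul_comm hx hy
  have hred : ∀ g ∈ 𝐍((P : Subgroup G)), ∃ d ∈ D, ∀ x ∈ (P : Subgroup G),
      d * x * d⁻¹ = g * x * g⁻¹ := fun g hg => by
    obtain ⟨d, hd, s, hs, rfl⟩ := (H1.mem_sup_iff_of_le_normalizer hD).1 (hsup ▸ hg)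
    refine ⟨d, hd, fun x hx => ?_⟩
    rw [show d * s * x * (d * s)⁻¹ = d * (s * x * s⁻¹) * d⁻¹ by group, hc hs hx,
      mul_inv_cancel_right]
  have htr : ∀ x ∈ (P : Subgroup G), x ≠ 1 → ∀ y ∈ (P : Subgroup G), y ≠ 1 →
      ∃ d ∈ D, d * x * d⁻¹ = y := fun x hx x1 y hy y1 => by
    have ix := hinv hx x1
    have iy := hinv hy y1
    obtain ⟨g, hg⟩ := h (zpowers x) (zpowers y) (ix.card_zpowers.trans iy.card_zpowers.symm)
      (Or.inl ix.card_zpowers)
    obtain ⟨g, hgn, hg⟩ := S4025.fusion P (zpowers_le.2 hx) (zpowers_le.2 hy) hg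
    obtain ⟨d, hd, e⟩ := hred g hgn
    refine ⟨d, hd, (e x hx).trans (((mem_zp iy).1 ?_).resolve_left (conj_ne_one x1))⟩
    rw [hg]
    exact mem_map_of_mem _ (mem_zpowers x)
  have hG : GL1 (P : Subgroup G) D := ⟨hel, fun e => ha.ne (mem_bot.1 (e ▸ aP)), hD, ho, htr⟩
  obtain ⟨n, hn⟩ := P.isPGroup'.exists_card_eq
  have hcl : {c | ∃ d ∈ D, d * a * d⁻¹ = c} = ((P : Subgroup G) : Set G) \ {1} := by
    ext c
    refine ⟨?_, fun ⟨h1, h2⟩ => htr a aP ha.ne c h1 h2⟩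
    rintro ⟨d, hd, rfl⟩
    exact ⟨H1.conj_mem_of_le_normalizer hD hd aP, conj_ne_one ha.ne⟩
  have hP1 : (((P : Subgroup G) : Set G) \ {1}).ncard = 2 ^ n - 1 := by
    rw [Set.ncard_sdiff_singleton_of_mem (one_mem _), ← hn]; rfl
  have hCa : 𝐂((P : Subgroup G)) ≤ 𝐂[a] := centralizer_le (Set.singleton_subset_iff.2 aP)
  let R : Subgroup G := 𝐂[a] ⊓ D
  let f := 𝐂((P : Subgroup G)).relIndex R
  have hR : 𝐨(R) = 𝐨((D ⊓ 𝐂((P : Subgroup G)) : Subgroup G)) * f := by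
    rw [← H1.card_inf_mul_relIndex 𝐂((P : Subgroup G)) R, ← inf_assoc, inf_eq_left.2 hCa,
      inf_comm]
  refine ⟨D, n, f, hD, hsup, hinf, ho, aP, ha.ne, hn, hcl, ?_, hR, ?_⟩
  · rw [← hP1, ← hcl, ncard_class, H1.card_inf_mul_relIndex]
  rw [hn] at h4
  refine arith (c := 𝐨(((P : Subgroup G) ⊓ 𝐂(R) : Subgroup G))) (by omega) ?_
    (hn ▸ hG.card_eq_pow inf_le_right aP ha.ne inf_le_left)
    ((odd_of_le inf_le_right ho).of_dvd_nat (hR ▸ dvd_mul_left f _)) ?_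
  · exact ha.card_zpowers.ge.trans
      (card_le_of_le (zpowers_le.2 ⟨aP, fun r hr => (hr.1 a rfl).symm⟩))
  choose! e he he' using fun x hx x1 => htr x hx x1 a aP ha.ne
  let T : Finset G := {a, b, a * b}
  have hTP : ∀ x ∈ T, x ∈ (P : Subgroup G) := fun x hx => by
    simp only [T, Finset.mem_insert, Finset.mem_singleton] at hx
    rcases hx with rfl | rfl | rfl
    exacts [aP, bP, mul_mem aP bP]
  have hT3 : T.offDiag.card ≤ 6 := by
    have : T.card ≤ 3 := Finset.card_le_three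
    rw [Finset.offDiag_card]
    interval_cases T.card <;> simp
  let O : G × G → Finset G := fun p =>
    (Set.toFinite {c | ∃ y ∈ R, y * (e p.1 * p.2 * (e p.1)⁻¹) * y⁻¹ = c}).toFinset
  have hO : ∀ p ∈ T.offDiag, p.1 ≠ 1 → (O p).card ≤ f := fun p hp p1 => by
    obtain ⟨h1, h2, -⟩ := Finset.mem_offDiag.1 hp
    rw [← Set.ncard_eq_toFinset_card, ncard_class]
    exact relIndex_le_of_le_left (centralizer_le (Set.singleton_subset_iff.2
      (H1.conj_mem_of_le_normalizer hD (he _ (hTP _ h1) p1) (hTP _ h2)))) index_ne_zero_of_finite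
  have hT1 : ∀ x ∈ T, x ≠ 1 := fun x hx => by
    simp only [T, Finset.mem_insert, Finset.mem_singleton] at hx
    rcases hx with rfl | rfl | rfl
    exacts [ha.ne, hb.ne, (ha.mul hb hne (hc aP bP)).ne]
  have hsub : (((P : Subgroup G) : Set G) \ {1}) \ {a} ⊆ (T.offDiag.biUnion O : Finset G) := by
    rintro c ⟨⟨cP, c1⟩, ca⟩
    have hc' := hinv cP c1
    obtain ⟨g, hg⟩ := h (kl a b) (kl a c) (by
      rw [card_kl ha hb (hc aP bP) hne, card_kl ha hc' (hc aP cP) (Ne.symm ca)])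
      (Or.inr (Or.inr (card_kl ha hb (hc aP bP) hne)))
    obtain ⟨g, hgn, hg⟩ := S4025.fusion P (kl_le aP bP) (kl_le aP cP) hg
    have hk : ∀ x ∈ kl a c, x ≠ 1 → ∃ u ∈ T, g * u * g⁻¹ = x := fun x hx x1 => by
      obtain ⟨u, hu, rfl⟩ := hg.le hx
      refine ⟨u, ?_, rfl⟩
      rcases (mem_kl ha hb (hc aP bP)).1 hu with rfl | rfl | rfl | rfl
      · exact absurd (map_one _) x1
      all_goals simp [T]
    obtain ⟨u, hu, eu⟩ := hk a (mem_sup_left (mem_zpowers a)) ha.ne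
    obtain ⟨v, hv, ev⟩ := hk c (mem_sup_right (mem_zpowers c)) c1
    obtain ⟨d, hd, ed⟩ := hred g hgn
    rw [← ed u (hTP u hu)] at eu
    rw [← ed v (hTP v hv)] at ev
    refine Finset.mem_coe.2 (Finset.mem_biUnion.2 ⟨(u, v), Finset.mem_offDiag.2
      ⟨hu, hv, fun e => ca ?_⟩, (Set.Finite.mem_toFinset _).2 ⟨d * (e u)⁻¹, ⟨L.mem_cent_iff.2 ?_,
        D.mul_mem hd (D.inv_mem (he u (hTP u hu) (hT1 u hu)))⟩, ?_⟩⟩)
    · change u = v at e
      rw [← ev, ← e, eu]; rfl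
    · change a * (d * (e u)⁻¹) = d * (e u)⁻¹ * a
      conv_lhs => rw [← eu]
      conv_rhs => rw [← he' u (hTP u hu) (hT1 u hu)]
      group
    · rw [← ev]; group
  have h5 := Set.ncard_le_ncard hsub
  rw [Set.ncard_sdiff_singleton_of_mem (Set.mem_sdiff_singleton.2 ⟨aP, ha.ne⟩), hP1,
    Set.ncard_coe_finset] at h5
  have h6 := Finset.card_biUnion_le_card_mul _ O f fun p hp =>
    hO p hp (hT1 _ (Finset.mem_offDiag.1 hp).1)
  have h7 := Nat.mul_le_mul_right f hT3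
  omega

end C4

end Cfsg.Agent.Cj
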