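/-
Dickson's count for subgroups of `PSL₂(q)` of order prime to `q`.
-/
import Cfsg.Agent.P6.SE
import Cfsg.Agent.H4.SL2Cent
import Cfsg.Agent.P3.Model

set_option autoImplicit false
set_option linter.unusedSectionVars false
set_option linter.style.haveILetI false

namespace Cfsg.Agent.Cj

open Subgroup Cfsg Cfsg.Agent Cfsg.Agent.FT

/-- The numerical data of one class of centralizers. -/
def Dat (m n e : ℕ) : Prop :=
  2 ≤ n ∧ (e + n = m ∨ 2 * (e + n) = m) ∧ (e = n ∨ e = 2 * n ∨ e = 3 * n ∨ e = 4 * n ∨ 5 * n ≤ e)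

theorem Dat.le {m n e : ℕ} (h : Dat m n e) : m ≤ 4 * e := by unfold Dat at h; omega

theorem dickson {H : Type*} [Group H] [Finite H] {Z : Subgroup H} (hZ : Z ≤ center H)
    (h1 : ∀ x, x ∉ Z → ∀ y ∈ 𝐂[x], y ∉ Z → 𝐂[y] = 𝐂[x])
    (h2 : ∀ x, x ∉ Z → 𝐂[x].relIndex 𝐍(𝐂[x]) ≤ 2) (hne : Z ≠ ⊤) :
    (∃ x, x ∉ Z ∧ 𝐂[x].index ≤ 2) ∨ Z.index = 12 ∨ Z.index = 24 ∨ Z.index = 60 := by
  rw [or_iff_not_imp_left]
  intro hno
  let cl : H → Set H := fun x => {y | ∃ s ∈ ((𝐂[x] : Subgroup H) : Set H) \ Z, IsConj s y}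
  have hZc : ∀ g x : H, x ∉ Z → g * x * g⁻¹ ∉ Z := fun g x hx h => hx (by
    rwa [← mul_inv_eq_iff_eq_mul.2 (mem_center_iff.1 (hZ h) g⁻¹), show
      g⁻¹ * (g * x * g⁻¹) * g⁻¹⁻¹ = x by group] at h)
  have hx : ∀ x : H, x ∈ 𝐂[x] := fun x => L.mem_cent_iff.2 (Commute.refl x)
  have hz : 0 < 𝐨(Z) := Nat.card_pos
  have hdat : ∀ x, x ∉ Z → ∃ n e, Dat Z.index n e ∧ (cl x).ncard = 𝐨(Z) * e := fun x xZ => by
    have hZx : Z ≤ 𝐂[x] := fun z hz => L.mem_cent_iff.2 (mem_center_iff.1 (hZ hz) x)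
    have e1 := L.ncard_conj_mul_card (((𝐂[x] : Subgroup H) : Set H) \ Z) 𝐍(𝐂[x])
      (fun g hg y hy => ⟨H1.conj_mem_of_le_normalizer le_rfl hg hy.1, hZc g y hy.2⟩)
      (fun g y hy hg => H1.map_conj_eq_self_iff.1 (by
        rw [← h1 x xZ y hy.1 hy.2, ← L.centralizer_singleton_conj, h1 x xZ _ hg.1 hg.2,
          h1 x xZ y hy.1 hy.2]))
    rw [Set.ncard_sdiff hZx, ← 𝐍(𝐂[x]).card_mul_index, mul_comm] at e1
    rw [mul_assoc] at e1
    have e2 := Nat.eq_of_mul_eq_mul_left Nat.card_pos e1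
    have e3 : ((𝐂[x] : Subgroup H) : Set H).ncard = 𝐨(Z) * Z.relIndex 𝐂[x] :=
      (H1.card_mul_relIndex hZx).symm
    have e4 := relIndex_mul_index hZx
    have e5 := relIndex_mul_index (le_normalizer (H := 𝐂[x]))
    have e6 : Z.relIndex 𝐂[x] ≠ 1 := fun e => xZ (relIndex_eq_one.1 e (hx x))
    have e7 : Z.relIndex 𝐂[x] ≠ 0 := L.relIndex_ne_zero _ _
    have e8 : 𝐂[x].relIndex 𝐍(𝐂[x]) ≠ 0 := L.relIndex_ne_zero _ _
    have e9 : 𝐍(𝐂[x]).index ≠ 0 := index_ne_zero_of_finite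
    have e10 := h2 x xZ
    have e11 : ¬ 𝐂[x].index ≤ 2 := fun e => hno ⟨x, xZ, e⟩
    obtain ⟨d, hd⟩ : ∃ d, Z.relIndex 𝐂[x] = d + 2 := ⟨Z.relIndex 𝐂[x] - 2, by omega⟩
    refine ⟨𝐍(𝐂[x]).index, 𝐍(𝐂[x]).index * (d + 1), ?_, ?_⟩
    · rw [← e4, ← e5, hd]
      rw [← e5] at e11
      generalize 𝐍(𝐂[x]).index = n at *
      generalize 𝐂[x].relIndex 𝐍(𝐂[x]) = f at *
      refine ⟨by interval_cases f <;> omega, by
        interval_cases f
        · omega
        · left; ring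
        · right; ring, ?_⟩
      rcases d with _ | _ | _ | _ | d
      all_goals first | omega | (right; right; right; right; nlinarith)
    · rw [e2, e3, hd, show (Z : Set H).ncard = 𝐨(Z) from rfl, mul_add, mul_two, ← add_assoc,
        Nat.add_sub_cancel]
      ring
  have hdis : ∀ x y, x ∉ Z → y ∉ Z → y ∉ cl x → Disjoint (cl x) (cl y) := fun x y xZ yZ hy => by
    rw [Set.disjoint_left]
    rintro w ⟨s, hs, e1⟩ ⟨t, ht, e2⟩
    obtain ⟨g, rfl⟩ := isConj_iff.1 (e1.trans e2.symm)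
    refine hy ⟨g⁻¹ * y * g, ⟨?_, by simpa using hZc g⁻¹ y yZ⟩, isConj_iff.2 ⟨g, by group⟩⟩
    have := hx y
    rwa [← h1 y yZ _ ht.1 ht.2, L.centralizer_singleton_conj, H1.mem_map_conj,
      h1 x xZ s hs.1 hs.2] at this
  have hc : ((Z : Set H)ᶜ).ncard + 𝐨(Z) = 𝐨(Z) * Z.index := by
    rw [Z.card_mul_index, add_comm]; exact Set.ncard_add_ncard_compl _
  let Cl : Set H → ℕ → Prop := fun A a => A ⊆ (Z : Set H)ᶜ ∧
    (∀ y, y ∉ Z → y ∉ A → Disjoint A (cl y)) ∧ A.ncard = 𝐨(Z) * a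
  have hle : ∀ A a, Cl A a → a + 1 ≤ Z.index := fun A a h => by
    have := Set.ncard_le_ncard h.1
    rw [h.2.2] at this
    exact Nat.le_of_mul_le_mul_left (by rw [← hc, mul_add, mul_one]; omega) hz
  have step : ∀ A a, Cl A a → a + 1 = Z.index ∨ ∃ A' n e, Cl A' (a + e) ∧ Dat Z.index n e := by
    intro A a h
    by_cases hA : (Z : Set H)ᶜ ⊆ A
    · left
      rw [← Set.Subset.antisymm h.1 hA, h.2.2] at hc
      exact Nat.eq_of_mul_eq_mul_left hz (by rw [← hc, mul_add, mul_one])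
    obtain ⟨x, xZ, xA⟩ := Set.not_subset.1 hA
    obtain ⟨n, e, h3, h4⟩ := hdat x xZ
    refine Or.inr ⟨A ∪ cl x, n, e, ⟨Set.union_subset h.1 ?_, fun y yZ hy => ?_, ?_⟩, h3⟩
    · rintro y ⟨s, hs, e1⟩
      obtain ⟨g, rfl⟩ := isConj_iff.1 e1
      exact hZc g s hs.2
    · exact Set.disjoint_union_left.2 ⟨h.2.1 y yZ fun e => hy (Or.inl e),
        hdis x y xZ yZ fun e => hy (Or.inr e)⟩
    · rw [Set.ncard_union_eq (h.2.1 x xZ xA), h.2.2, h4, mul_add]
  rcases step ∅ 0 ⟨Set.empty_subset _, fun _ _ _ => Set.empty_disjoint _, by simp⟩ with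
    e | ⟨A1, n1, e1, c1, d1⟩
  · exact absurd (index_eq_one.1 e.symm) hne
  rcases step _ _ c1 with e | ⟨A2, n2, e2, c2, d2⟩
  · unfold Dat at d1; omega
  rcases step _ _ c2 with e | ⟨A3, n3, e3, c3, d3⟩
  · unfold Dat at d1 d2; omega
  rcases step _ _ c3 with e | ⟨A4, n4, e4, c4, d4⟩
  · have := d1.le; have := d2.le; have := d3.le
    unfold Dat at d1 d2 d3; omega
  have := hle _ _ c4
  have := d1.le; have := d2.le; have := d3.le; have := d4.le
  omega

open Cfsg.Agent.H4.SL2 in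
theorem eq_or_inv {F : Type*} [Field F] {x y : SL F} (hx : x ∉ center (SL F))
    (h2 : (2 : F) ≠ 0) (ht : tr x ^ 2 ≠ 4) (hc : Commute x y) (he : tr y = tr x) :
    y = x ∨ y = x⁻¹ := by
  obtain ⟨z, hz⟩ := exists_psi hx (Y := y.1) (val_congr hc.symm.eq)
  have h1 := det_psi x z
  rw [hz, y.2, QuadraticAlgebra.norm_def] at h1
  rw [psi_apply] at hz
  have h3 : 2 * z.re + z.im * tr x = tr x := by
    refine Eq.trans ?_ he
    change 2 * z.re + z.im * (x.1 0 0 + x.1 1 1) = y.1 0 0 + y.1 1 1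
    rw [← hz]
    simp; ring
  have h4 : (tr x ^ 2 - 4) * ((z.im - 1) * (z.im + 1)) = 0 := by
    linear_combination 4 * h1 + (2 * z.re + z.im * tr x + tr x) * h3
  rcases mul_eq_zero.1 ((mul_eq_zero.1 h4).resolve_left (sub_ne_zero.2 ht)) with h | h
  · left
    have h5 : z.im = 1 := sub_eq_zero.1 h
    have h6 : z.re = 0 := mul_left_cancel₀ h2 (by rw [h5] at h3; linear_combination h3)
    exact Subtype.ext (by rw [← hz, h5, h6, zero_smul, one_smul, zero_add])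
  · right
    have h5 : z.im = -1 := eq_neg_of_add_eq_zero_left h
    have h6 : z.re = tr x := mul_left_cancel₀ h2 (by rw [h5] at h3; linear_combination h3)
    exact Subtype.ext (by rw [coe_inv_eq, ← hz, h5, h6, neg_one_smul, sub_eq_add_neg])

open Cfsg.Agent.H4.SL2 in
theorem tr_conj {F : Type*} [Field F] (g x : SL F) : tr (g * x * g⁻¹) = tr x := by
  have h : ∀ y : SL F, tr y = y.1.trace := fun y => (Matrix.trace_fin_two _).symm
  rw [h, h, Matrix.SpecialLinearGroup.coe_mul, Matrix.trace_mul_comm,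
    ← Matrix.SpecialLinearGroup.coe_mul, inv_mul_cancel_left]

open Cfsg.Agent.H4.SL2 in
/-- **Dickson**: the order of a subgroup of `PSL₂(q)` of order prime to `q`. -/
theorem card_dvd_or {F : Type*} [Field F] [Finite F] (hq : Odd (Nat.card F))
    (H : Subgroup (Matrix.ProjectiveSpecialLinearGroup (Fin 2) F)) (hc : (𝐨(H) : F) ≠ 0) :
    𝐨(H) ∣ Nat.card F - 1 ∨ 𝐨(H) ∣ Nat.card F + 1 ∨ 𝐨(H) = 12 ∨ 𝐨(H) = 24 ∨ 𝐨(H) = 60 := by
  classical
  have h2 := P3.two_ne_zero_of_odd hq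
  let K := H.comap (QuotientGroup.mk' (center (SL F)))
  have hK : 𝐨(K) = 𝐨(H) * 2 := by rw [L.card_comap_mk', P3.card_center_SL2 h2]
  have hZK : center (SL F) ≤ K := QuotientGroup.le_comap_mk' _ _
  have hi : ((center (SL F)).subgroupOf K).index = 𝐨(H) := by
    have := H1.card_mul_relIndex hZK
    rw [P3.card_center_SL2 h2, hK, mul_comm] at this
    exact Nat.eq_of_mul_eq_mul_right two_pos this
  have hC : ∀ x : K, 𝐂[x] = 𝐂[x.1].subgroupOf K := fun x => Subgroup.ext fun y => by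
    rw [mem_subgroupOf, L.mem_cent_iff, L.mem_cent_iff]
    exact ⟨fun h => congrArg Subtype.val h, fun h => Subtype.ext h⟩
  have ht : ∀ x : K, x.1 ∉ center (SL F) → tr x.1 ^ 2 ≠ 4 := fun x hx e =>
    hx (mem_center_of_tr e (n := 𝐨(K)) (by rw [hK]; push_cast; exact mul_ne_zero hc h2) h2
      (congrArg Subtype.val (pow_card_eq_one' (x := x))))
  by_cases hne : (center (SL F)).subgroupOf K = ⊤
  · rw [← hi, hne, index_top]; exact Or.inl (one_dvd _)
  rcases dickson (Z := (center (SL F)).subgroupOf K) (fun z hz => mem_center_iff.2 fun g =>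
      Subtype.ext (mem_center_iff.1 hz g.1)) (fun x hx y hy hy' => by
      rw [hC, hC, centralizer_eq_of_commute (x := x.1) (y := y.1) hx hy' (congrArg Subtype.val (L.mem_cent_iff.1 hy))])
      (fun x hx => by
        rw [← P6.ncard_class]
        refine (Set.ncard_le_ncard (t := {x, x⁻¹}) ?_).trans ((Set.ncard_insert_le _ _).trans (by simp))
        rintro _ ⟨g, hg, rfl⟩
        have h3 := L.mem_cent_iff.1 (H1.conj_mem_of_le_normalizer le_rfl hg
          (L.mem_cent_iff.2 (Commute.refl x)))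
        exact (eq_or_inv hx h2 (ht x hx) (congrArg Subtype.val h3) (tr_conj g.1 x.1)).imp
          Subtype.ext Subtype.ext) hne with ⟨x, hx, h3⟩ | h3
  · have h4 : 𝐨(H) ∣ 𝐨(𝐂[x]) := by
      have h5 := 𝐂[x].card_mul_index
      have h6 : 𝐂[x].index ≠ 0 := index_ne_zero_of_finite
      rw [hK] at h5
      generalize 𝐂[x].index = i at *
      interval_cases i
      · omega
      · exact ⟨2, by omega⟩
      · exact ⟨1, by omega⟩
    have h5 : 𝐨(𝐂[x]) ∣ 𝐨(𝐂[x.1]) := hC x ▸ card_comap_dvd_of_injective _ _ K.subtype_injective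
    rcases (centralizer_cases (Nat.odd_iff.1 hq) hx (ht x hx)).2 with h | h
    · exact Or.inl (h.2 ▸ h4.trans h5)
    · exact Or.inr (Or.inl (h.2 ▸ h4.trans h5))
  · exact Or.inr (Or.inr (hi ▸ h3))

end Cfsg.Agent.Cj
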