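/-
Groups `PSL₂(r)` without Hall subgroups of a given order; `A₅` inside `PSL₂(q)`.
-/
import Cfsg.Agent.Cj.Dick
import Cfsg.Agent.Cj.Ext
import Cfsg.Agent.P3.Recog

set_option autoImplicit false
set_option linter.unusedSectionVars false
set_option linter.style.haveILetI false

namespace Cfsg.Agent.Cj

open Subgroup Cfsg Cfsg.Agent Cfsg.Agent.FT

theorem exists_counter {a b : ℕ} (hc : a.Coprime b) (ha : 2 < a) (ha' : Odd a ∨ 4 ∣ a)
    (hb : 2 < b) (ho : Odd b) (hm : ¬ (a * b = 12 ∨ a * b = 24 ∨ a * b = 60)) :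
    ∃ (G : Type) (_ : Group G) (_ : Finite G), a * b ∣ Nat.card G ∧
      (a * b).Coprime (Nat.card G / (a * b)) ∧ ∀ H : Subgroup G, Nat.card H ≠ a * b := by
  obtain ⟨c, h1, h2⟩ := Nat.chineseRemainder (hc.pow 2 2) (1 + a) (2 * b - 1)
  have hca : c.Coprime (a ^ 2) := by
    rw [Nat.Coprime, h1.gcd_eq]; exact (by simp : (1 + a).Coprime a).pow_right 2
  have hcb : c.Coprime (b ^ 2) := by
    rw [Nat.Coprime, h2.gcd_eq]
    refine Nat.Coprime.pow_right 2 (Nat.Coprime.coprime_dvd_right (dvd_mul_left b 2) ?_)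
    obtain ⟨k, hk⟩ : ∃ k, 2 * b = k + 1 := ⟨2 * b - 1, by omega⟩
    simp [hk]
  obtain ⟨r, hr, hp, h3⟩ := Nat.forall_exists_prime_gt_and_modEq (a + 2 * b)
    (q := a ^ 2 * b ^ 2) (by positivity) (hca.mul_right hcb)
  obtain ⟨k, hk⟩ := (Nat.modEq_iff_dvd' (by omega)).1 ((h3.of_mul_right _).trans h1).symm
  obtain ⟨l, hl⟩ := (Nat.modEq_iff_dvd' (by omega)).1 ((h3.of_mul_left _).trans h2).symm
  have hro := hp.odd_of_ne_two (by omega)
  obtain ⟨l, rfl⟩ : 2 ∣ l := by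
    refine (Nat.coprime_two_left.2 (ho.pow (n := 2))).dvd_of_dvd_mul_left ?_
    rw [← hl]; obtain ⟨s, rfl⟩ := hro; omega
  have e1 : r = a * (1 + a * k) + 1 := by rw [mul_add, ← mul_assoc, ← sq]; omega
  have e2 : r + 1 = 2 * b * (1 + b * l) := by
    rw [show 2 * b * (1 + b * l) = 2 * b + b ^ 2 * (2 * l) by ring]; omega
  have cu : a.Coprime (1 + a * k) := by simp
  have cw : b.Coprime (1 + b * l) := by simp
  generalize 1 + a * k = u at e1 cu
  generalize 1 + b * l = w at e2 cw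
  clear hk hl h1 h2 h3 hca hcb
  have e3 : a * u + 2 = 2 * b * w := by omega
  haveI := Fact.mk hp
  have hG : Nat.card (Matrix.ProjectiveSpecialLinearGroup (Fin 2) (ZMod r)) =
      a * b * (r * u * w) := by
    have := P3.two_mul_card_PSL2 (F := ZMod r) (by rwa [Nat.card_zmod])
    rw [Nat.card_zmod, e2, show r - 1 = a * u by omega] at this
    exact Nat.eq_of_mul_eq_mul_left two_pos (this.trans (by ring))
  have key : ∀ x y : ℕ, x ∣ a * u → y ∣ 2 * b * w → ∀ p, p.Prime → p ∣ x → p ∣ y → p = 2 :=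
    fun x y hx hy p hp h1 h2 => (Nat.prime_dvd_prime_iff_eq hp Nat.prime_two).1
      ((Nat.dvd_add_right (h1.trans hx)).1 (e3 ▸ h2.trans hy))
  have car : a.Coprime r := by rw [e1]; simp
  have cbr : b.Coprime r := Nat.Coprime.coprime_dvd_left (m := b) (k := r + 1)
    (e2 ▸ ((dvd_mul_left b 2).mul_right w)) (by simp)
  have cbu : b.Coprime u := Nat.Coprime.symm (Nat.coprime_of_dvd fun p hp h1 h2 => by
    obtain rfl := key u b (dvd_mul_left _ _) ((dvd_mul_left b 2).mul_right w) p hp h1 h2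
    exact Nat.two_dvd_ne_zero.2 (Nat.odd_iff.1 ho) h2)
  have caw : a.Coprime w := Nat.coprime_of_dvd fun p hp h1 h2 => by
    obtain rfl := key a w (dvd_mul_right _ _) (dvd_mul_left _ _) p hp h1 h2
    obtain ⟨a, rfl⟩ := ha'.resolve_left fun h => Nat.two_dvd_ne_zero.2 (Nat.odd_iff.1 h) h1
    obtain ⟨w, rfl⟩ := h2
    rw [show 4 * a * u = 4 * (a * u) by ring, show 2 * b * (2 * w) = 4 * (b * w) by ring] at e3
    omega
  refine ⟨Matrix.ProjectiveSpecialLinearGroup (Fin 2) (ZMod r), inferInstance, inferInstance,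
    hG ▸ dvd_mul_right _ _, ?_, fun H hH => ?_⟩
  · rw [hG, Nat.mul_div_cancel_left _ (by positivity)]
    exact ((car.mul_right cu).mul_right caw).mul_left ((cbr.mul_right cbu).mul_right cw)
  have := card_dvd_or (by rwa [Nat.card_zmod]) H (by
    rw [hH, Ne, ZMod.natCast_eq_zero_iff]
    exact hp.coprime_iff_not_dvd.1 (car.mul_left cbr).symm)
  rw [hH, Nat.card_zmod, e2, show r - 1 = a * u by omega] at this
  rcases this with h | h | h
  · exact absurd (Nat.le_of_dvd two_pos ((Nat.dvd_add_right ((dvd_mul_left b a).trans h)).1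
      (e3 ▸ (dvd_mul_left b 2).mul_right w))) hb.not_ge
  · exact absurd (Nat.le_of_dvd two_pos ((Nat.dvd_add_right (dvd_mul_right a u)).1
      (e3 ▸ (dvd_mul_right a b).trans h))) ha.not_ge
  · exact hm h

theorem exists_counter' {m : ℕ} (hm : 2 ≤ m)
    (h : ¬ (IsPrimePow m ∨ m % 4 = 2 ∨ m = 12 ∨ m = 24 ∨ m = 60)) :
    ∃ (G : Type) (_ : Group G) (_ : Finite G), m ∣ Nat.card G ∧
      m.Coprime (Nat.card G / m) ∧ ∀ H : Subgroup G, Nat.card H ≠ m := by
  have hp := Nat.minFac_prime (n := m) (by omega)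
  obtain ⟨e, b, h1, h2⟩ := Nat.exists_eq_pow_mul_and_not_dvd (n := m) (by omega) _ hp.ne_one
  have he : e ≠ 0 := by
    rintro rfl
    rw [pow_zero, one_mul] at h2
    exact h1 (h2 ▸ Nat.minFac_dvd m)
  have hb1 : b ≠ 1 := by
    rintro rfl
    exact h (Or.inl (h2 ▸ by rw [mul_one]; exact hp.isPrimePow.pow he))
  have hb : Odd b := Nat.not_even_iff_odd.1 fun hb => h1 (by
    rw [(Nat.minFac_eq_two_iff m).2 (h2 ▸ hb.two_dvd.mul_left _)]; exact hb.two_dvd)
  have ha : Odd (m.minFac ^ e) ∨ 4 ∣ m.minFac ^ e := by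
    refine (hp.eq_two_or_odd'.symm.imp (fun h => h.pow) fun h3 => ?_)
    have h4 := (Nat.minFac_eq_two_iff m).1 h3
    exact (Nat.Coprime.pow_left 2 (Nat.coprime_two_left.2 hb)).dvd_of_dvd_mul_right
      (h2 ▸ by omega)
  have := exists_counter ((hp.coprime_iff_not_dvd.2 h1).pow_left e) (by
    have := Nat.one_lt_pow he hp.one_lt
    rcases ha with ⟨k, hk⟩ | ⟨k, hk⟩ <;> omega) ha (by obtain ⟨k, rfl⟩ := hb; omega) hb
    (by rw [← h2]; tauto)
  rwa [← h2] at this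

open Cfsg.Agent.H4.SL2 H8 in
theorem exists_hom_SL25 {F : Type*} [Field F] (h2 : (2 : F) ≠ 0) {x y φ : F}
    (hxy : x * x + y * y = -1) (hφ : φ * φ = 1 + φ) :
    ∃ f : SL25 →* SL F, f icS1 ∉ center (SL F) := by
  let z : Zgold →ₐ[ℤ] F := QuadraticAlgebra.lift ⟨φ, by rw [hφ]; simp⟩
  have hz : ∀ n m : ℤ, z ⟨n, m⟩ = n • (1 : F) + m • φ := fun n m => rfl
  let q : F → F → F → F → Matrix (Fin 2) (Fin 2) F := fun a b c d =>
    !![a + b * x - d * y, b * y + c + d * x; b * y - c + d * x, a - b * x + d * y]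
  have hdet : ∀ a b c d, (q a b c d).det = a * a + b * b + c * c + d * d := fun a b c d => by
    simp only [q, Matrix.det_fin_two_of]
    linear_combination (-b * b - d * d) * hxy
  let Ψ : Ic → Matrix (Fin 2) (Fin 2) F := fun e => q (z e.1) (z e.2.1) (z e.2.2.1) (z e.2.2.2)
  have hmul : ∀ e f, Ψ e * Ψ f = Ψ (icMul e f) := fun e f => by
    simp only [Ψ, q, icMul, map_add, map_sub, map_mul, Matrix.mul_fin_two]
    congr 1
    simp only [Matrix.vecCons_inj, and_true]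
    refine ⟨⟨?_, ?_⟩, ?_, ?_⟩
    · linear_combination (z e.2.1 * z f.2.1 + z e.2.2.2 * z f.2.2.2) * hxy
    · linear_combination (z e.2.1 * z f.2.2.2 - z e.2.2.2 * z f.2.1) * hxy
    · linear_combination (z e.2.2.2 * z f.2.1 - z e.2.1 * z f.2.2.2) * hxy
    · linear_combination (z e.2.1 * z f.2.1 + z e.2.2.2 * z f.2.2.2) * hxy
  have hdbl : ∀ e, Ψ (icDbl e) = (2 : F) • Ψ e := fun e => by
    simp only [Ψ, q, icDbl, map_add]
    ext i j
    fin_cases i <;> fin_cases j <;> simp <;> ring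
  have mk : ∀ e : Ic, (Ψ e).det = 4 → ∃ g : SL F, (2 : F) • g.1 = Ψ e := fun e he =>
    ⟨⟨(2 : F)⁻¹ • Ψ e, by rw [Matrix.det_smul, he, Fintype.card_fin]; field_simp; norm_num⟩,
      smul_inv_smul₀ h2 _⟩
  obtain ⟨a, ha⟩ := mk (⟨-1, 0⟩, ⟨1, 0⟩, ⟨1, 0⟩, ⟨1, 0⟩) (by simp [Ψ, hdet, hz]; norm_num)
  obtain ⟨c, hc⟩ := mk (⟨-1, 0⟩, ⟨0, 0⟩, ⟨0, 1⟩, ⟨-1, 1⟩) (by
    simp [Ψ, hdet, hz]; linear_combination 2 * hφ)
  have huniq : ∀ (M : SL25) (g g' : SL F), (2 : F) • g.1 = Ψ (icDec (icE M)) →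
      (2 : F) • g'.1 = Ψ (icDec (icE M)) → g = g' :=
    fun M g g' e e' => Subtype.ext (smul_right_injective _ h2 (e.trans e'.symm))
  have hone : (2 : F) • (1 : SL F).1 = Ψ (icDec (icE 1)) := by
    rw [show icE 1 = icEnt 1 0 0 1 from rfl, ic_check5.1]
    ext i j
    fin_cases i <;> fin_cases j <;> simp [Ψ, q, hz]
  have hs : ∀ (g a : SL F) (e f e' : Ic), (2 : F) • g.1 = Ψ e → (2 : F) • a.1 = Ψ f →
      icMul e f = icDbl e' → (2 : F) • (g * a).1 = Ψ e' := fun g a e f e' h1 h3 h4 =>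
    smul_right_injective _ h2 (by
      dsimp only
      rw [← hdbl, ← h4, ← hmul, ← h1, ← h3, smul_mul_smul_comm, smul_smul]; rfl)
  have hs1 : ∀ (M : SL25) (g : SL F), (2 : F) • g.1 = Ψ (icDec (icE M)) →
      (2 : F) • (g * a).1 = Ψ (icDec (icE (M * icS1))) := fun M g e =>
    hs _ _ _ _ _ e ha (by rw [icE_mul]; exact ic_check1 _ _ _ _ (ic_det M))
  obtain ⟨f, hf⟩ := exists_hom_of_graph (fun M (g : SL F) => (2 : F) • g.1 = Ψ (icDec (icE M)))
    huniq hone icS1 icS2 a c hs1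
    (fun M g e => hs _ _ _ _ _ e hc (by rw [icE_mul]; exact ic_check2 _ _ _ _ (ic_det M))) ic_ind
  refine ⟨f, fun h => h2 ?_⟩
  have e := hs1 1 1 hone
  rw [one_mul, one_mul] at e
  rw [huniq _ _ _ (hf icS1) e, mem_center_iff'] at h
  have e1 := congrFun (congrFun ha 0) 1
  have e2 := congrFun (congrFun ha 1) 0
  simp [Ψ, q, hz, h.1, h.2.1] at e1 e2
  linear_combination e2 - e1

open Cfsg.Agent.H4.SL2 in
theorem exists_gold {F : Type*} [Field F] {g : SL F} (hg : orderOf g = 5) :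
    ∃ φ : F, φ * φ = 1 + φ := by
  have hc : g ∉ center (SL F) := fun h =>
    absurd (hg ▸ orderOf_dvd_of_pow_eq_one (sq_eq_one_of_mem_center h)) (by norm_num)
  have h1 : (QuadraticAlgebra.omega : QA g) ^ 5 = 1 := psi_injective hc (by
    rw [map_pow, map_one, show psi g QuadraticAlgebra.omega = g.1 by simp [psi_apply],
      ← Matrix.SpecialLinearGroup.coe_pow, ← hg, pow_orderOf_eq_one]; rfl)
  have h2 := congrArg QuadraticAlgebra.re h1
  have h3 := congrArg QuadraticAlgebra.im h1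
  simp [pow_succ, QuadraticAlgebra.re_one, QuadraticAlgebra.im_one] at h2 h3
  exact ⟨-tr g, by linear_combination (-tr g) * h2 - h3⟩

open Cfsg.Agent.H4.SL2 in
/-- `A₅ ≤ PSL₂(q)` when `5` divides the order. -/
theorem exists_card_sixty {F : Type*} [Field F] [Finite F] (hq : Odd (Nat.card F))
    (h5 : 5 ∣ Nat.card (Matrix.ProjectiveSpecialLinearGroup (Fin 2) F)) :
    ∃ H : Subgroup (Matrix.ProjectiveSpecialLinearGroup (Fin 2) F), Nat.card H = 60 := by
  haveI : Fact (Nat.Prime 5) := ⟨Nat.prime_five⟩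
  obtain ⟨g, hg⟩ := exists_prime_orderOf_dvd_card' (G := SL F) 5
    (h5.trans (card_quotient_dvd_card _))
  obtain ⟨φ, hφ⟩ := exists_gold hg
  obtain ⟨x, y, hxy⟩ := P3.exists_sq_add_sq hq (-1)
  obtain ⟨f, hf⟩ := exists_hom_SL25 (P3.two_ne_zero_of_odd hq) hxy hφ
  obtain ⟨ρ, w, hρ⟩ := exists_DC_SL25
  let π := (QuotientGroup.mk' (center (SL F))).comp f
  have h1 : ρ.ker ≤ π.ker := fun u hu => by
    refine (QuotientGroup.eq_one_iff _).2 ?_
    by_contra hc
    have h3 := cayley (f u)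
    rw [← Matrix.SpecialLinearGroup.coe_mul, ← map_mul, hρ.sq_eq_one hu, map_one] at h3
    have h4 : (⟨-1, tr (f u)⟩ : QA (f u)) = 1 := psi_injective hc (by rw [map_one]; exact h3.symm)
    exact P3.two_ne_zero_of_odd hq (by
      have := congrArg QuadraticAlgebra.re h4
      simp only [QuadraticAlgebra.re_one] at this
      linear_combination -this)
  have h2 : π.ker = ρ.ker := by
    rcases (π.normal_ker.map ρ hρ.surj).eq_bot_or_eq_top with h | h
    · exact le_antisymm ((Subgroup.map_eq_bot_iff _).1 h) h1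
    · have h3 := congrArg (comap ρ) h
      rw [comap_map_eq, sup_eq_left.2 h1, comap_top] at h3
      exact absurd ((QuotientGroup.eq_one_iff _).1 (h3.ge (mem_top H8.icS1))) hf
  refine ⟨π.range, ?_⟩
  rw [← index_ker, h2, index_ker, MonoidHom.range_eq_top.2 hρ.surj, card_top,
    nat_card_alternatingGroup, Nat.card_fin]
  rfl

end Cfsg.Agent.Cj
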