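/-
Hall subgroups of order 12, 24 and 60.
-/
import Cfsg.Agent.Cj.Counter
import Cfsg.Agent.P6.Struct
import Cfsg.Agent.P5.Final0
import Cfsg.Agent.H8.Frobenius

set_option autoImplicit false
set_option linter.unusedSectionVars false
set_option linter.style.haveILetI false

namespace Cfsg.Agent.Cj

open Subgroup Cfsg Cfsg.Agent Cfsg.Agent.FT Cfsg.Agent.P6 Cfsg.Agent.L

universe u

theorem exists_hall_of_red (π : Set ℕ) (Q : ℕ → Prop) (hQ : ∀ a b, a ∣ b → Q b → Q a)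
    (key : ∀ (G : Type u) [Group G] [Finite G], Q (Nat.card G) → ¬ Group.IsSolvable G →
      (∀ N : Subgroup G, N.Normal → Group.IsSolvable N → N = ⊥) →
      (∀ M : Subgroup G, IsPiNum πᶜ M.index → M = ⊤) → ∃ H : Subgroup G, IsPiHall π H)
    (G : Type u) [Group G] [Finite G] : Q (Nat.card G) → ∃ H : Subgroup G, IsPiHall π H := by
  refine induction_on_card (P := fun G _ _ => Q (Nat.card G) → ∃ H : Subgroup G, IsPiHall π H) G ?_
  intro G _ _ ih hG
  have tr : ∀ K M : Subgroup G, IsPiHallOf π K M → IsPiNum πᶜ M.index → IsPiHall π K :=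
    fun K M h hM => H1.isPiHall_iff.2 ⟨(H1.isPiHallOf_iff.1 h).2.1,
      relIndex_mul_index h.1 ▸ (H1.isPiHallOf_iff.1 h).2.2.mul hM⟩
  by_cases hs : Group.IsSolvable G
  · exact H1.exists_isPiHall_of_isSolvable π
  by_cases h1 : ∀ M : Subgroup G, IsPiNum πᶜ M.index → M = ⊤
  swap
  · push Not at h1
    obtain ⟨M, hM, hne⟩ := h1
    obtain ⟨H, hH⟩ := ih M (card_lt_of_ne_top hne) (hQ _ _ (card_subgroup_dvd_card M) hG)
    exact ⟨_, tr _ M (H1.isPiHallOf_map_subtype hH) hM⟩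
  by_cases h2 : ∀ N : Subgroup G, N.Normal → Group.IsSolvable N → N = ⊥
  · exact key G hG hs h2 h1
  push Not at h2
  obtain ⟨N, hN, hs', hne⟩ := h2
  obtain ⟨M, p, hM, -, hp, he⟩ := exists_isMinNormal_isElementaryAbelian_le N hne
  haveI := hM.1
  obtain ⟨H, hH⟩ := ih (G ⧸ M) (card_quotient_lt M hM.2.1) (hQ _ _ (card_quotient_dvd_card M) hG)
  have h3 : IsPiNum {p} 𝐨(M) := (isPiSubgroup_singleton_iff hp).2 (IsElementaryAbelian.isPGroup he)
  obtain ⟨K, hK⟩ := H1.exists_hall_of_sepUpTo (π := π) (SepUpTo.step ⊥ M SepUpTo.bot bot_le hM.1 (by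
      rw [relIndex_bot_left]
      exact (em (p ∈ π)).imp (fun h q hq hd => h3 q hq hd ▸ h) fun h q hq hd => h3 q hq hd ▸ h))
    (H.comap (QuotientGroup.mk' M)) (QuotientGroup.le_comap_mk' _ _) (by
      rw [relIndex_eq_card_map_mk', map_comap_eq_self_of_surjective (QuotientGroup.mk'_surjective M)]
      exact hH.1)
  exact ⟨K, tr K _ hK (by
    rw [index_comap_of_surjective _ (QuotientGroup.mk'_surjective M)]
    exact (H1.isPiHall_iff.1 hH).2)⟩

variable {G : Type u} [Group G] [Finite G]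

theorem isSolvable_of_npc (h : HasNormalPComplement 2 G) : Group.IsSolvable G := by
  obtain ⟨P, N, hN, hc⟩ := h
  refine isSolvable_of_normal_of_quotient N (feit_thompson _ (hc.index_eq_card ▸
    Nat.odd_iff.2 (Nat.two_dvd_ne_zero.1 P.not_dvd_index))) ?_
  exact H1.isSolvable_of_isPGroup (P.isPGroup'.of_equiv hc.symm.QuotientMulEquiv.symm)

theorem exists_local (h16 : ¬ 16 ∣ Nat.card G) (hs : ¬ Group.IsSolvable G) :
    ∃ X : Subgroup G, IsPGroup 2 X ∧ 4 ∣ 𝐨(X) ∧ ¬ 2 ∣ 𝐍(X).index ∧ (3 ∣ 𝐨(𝐍(X)) ∨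
      (IsElem 2 3 X ∧ ∃ R, R ≤ 𝐍(X) ∧ IsPGroup 7 R ∧ X ⊓ 𝐂(R) = ⊥)) := by
  obtain ⟨P⟩ : Nonempty (Sylow 2 G) := inferInstance
  obtain ⟨X, hXP, -, g, hg, q, k, hq, q2, ho, hc⟩ :=
    H8.exists_primePow_not_centralizes (fun h => hs (isSolvable_of_npc h)) P
  have hX : IsPGroup 2 X := P.isPGroup'.to_le hXP
  haveI := Fact.mk hq
  have hR : IsPGroup q (zpowers g) := IsPGroup.of_card (by rw [Nat.card_zpowers, ho])
  have h1 := H2.card_modEq_card_inf_centralizer hR (zpowers_le.2 hg)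
  obtain ⟨a, ha⟩ := hX.exists_card_eq
  obtain ⟨b, hb⟩ := (hX.to_inf_left (K := 𝐂(zpowers g))).exists_card_eq
  obtain ⟨c, hc'⟩ := P.isPGroup'.exists_card_eq
  have h2 : b < a := (Nat.pow_lt_pow_iff_right (a := 2) (by norm_num)).1 (ha ▸ hb ▸
    H1.card_lt_of_lt (inf_lt_left.2 fun h => hc (le_centralizer_iff.1 h (mem_zpowers g))))
  have h3 : c < 4 := by
    by_contra h
    exact h16 (((pow_dvd_pow 2 (not_lt.1 h)).trans hc'.symm.dvd).trans (card_subgroup_dvd_card _))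
  have h4 := H1.card_mul_relIndex hXP
  have h5 : a ≤ c := (Nat.pow_le_pow_iff_right (a := 2) (by norm_num)).1
    (ha ▸ hc' ▸ card_le_of_le hXP)
  rw [ha, hb] at h1
  have h6 := (Nat.modEq_iff_dvd' (Nat.pow_le_pow_right two_pos h2.le)).1 h1.symm
  have h7 : 2 ≤ a ∧ (q = 3 ∨ (q = 7 ∧ a = 3 ∧ b = 0)) := by
    have := Nat.le_of_dvd (Nat.sub_pos_of_lt (Nat.pow_lt_pow_right (by norm_num) h2)) h6
    have h8 : a < 4 := by omega
    have := hq.two_le
    interval_cases a <;> interval_cases b <;> norm_num at this h6 ⊢ <;> interval_cases q <;>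
      first | contradiction | simp_all | (norm_num at hq)
  have hPN : (P : Subgroup G) ≤ 𝐍(X) := by
    rw [ha, hc'] at h4
    refine (normal_subgroupOf_iff_le_normalizer hXP).1 ?_
    have h8 : X.relIndex P = 1 ∨ X.relIndex P = 2 := by
      have := h7.1
      interval_cases c <;> interval_cases a <;> omega
    exact h8.elim normal_of_index_eq_one normal_of_index_eq_two
  refine ⟨X, hX, ha ▸ pow_dvd_pow 2 h7.1, fun h => P.not_dvd_index (h.trans
    (index_dvd_of_le hPN)), h7.2.imp (fun e => ?_) fun ⟨e1, e2, e3⟩ => ?_⟩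
  · have hk : k ≠ 0 := by
      rintro rfl
      rw [pow_zero, orderOf_eq_one_iff] at ho
      exact hc (ho ▸ one_mem _)
    exact e ▸ ((dvd_pow_self q hk).trans ho.symm.dvd).trans (Subgroup.orderOf_dvd_natCard _ hg)
  subst e1 e2 e3
  have h8 : X ⊓ 𝐂(zpowers g) = ⊥ := card_eq_one.1 hb
  refine ⟨?_, _, zpowers_le.2 hg, hR, h8⟩
  have h9 := ncard_modEq_cent hq hR (S := {x | x ∈ X ∧ x * x = 1}) fun y hy s hs =>
    ⟨H1.conj_mem_of_le_normalizer (zpowers_le.2 hg) hy hs.1, by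
      rw [show y * s * y⁻¹ * (y * s * y⁻¹) = y * (s * s) * y⁻¹ by group, hs.2]; group⟩
  rw [show {s ∈ {x | x ∈ X ∧ x * x = 1} | s ∈ 𝐂(zpowers g)} = {1} from Set.eq_singleton_iff_unique_mem.2
    ⟨⟨⟨one_mem _, one_mul 1⟩, one_mem _⟩, fun s hs => mem_bot.1 (h8 ▸ ⟨hs.1.1, hs.2⟩)⟩,
    Set.ncard_singleton] at h9
  obtain ⟨z, hz, hz'⟩ := exists_inv_of_even (X := X) (by rw [ha]; decide)
  have h10 := Set.ncard_le_ncard (s := {1, z}) (t := {x | x ∈ X ∧ x * x = 1})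
    (by rintro _ (rfl | rfl); exacts [⟨one_mem _, one_mul 1⟩, ⟨hz, hz'.sq⟩])
  rw [Set.ncard_pair hz'.ne.symm] at h10
  have h11 : {x | x ∈ X ∧ x * x = 1} ⊆ (X : Set G) := fun _ h => h.1
  have h12 : (X : Set G).ncard = 8 := ha
  have h13 := Set.ncard_le_ncard h11
  have h14 := Set.eq_of_subset_of_ncard_le h11 (by unfold Nat.ModEq at h9; omega)
  have h15 : ∀ x ∈ X, x * x = 1 := fun x hx => (h14.ge hx).2
  exact ⟨⟨⟨⟨fun a b => Subtype.ext (commute_of_sq_eq_one h15 a.2 b.2)⟩⟩,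
    fun x hx => by rw [pow_two, h15 x hx]⟩, ha⟩

theorem not_dvd_index {p : ℕ} {M : Subgroup G} (h : ¬ p * p ∣ Nat.card G) (hM : p ∣ 𝐨(M)) :
    ¬ p ∣ M.index := fun e => h (M.card_mul_index ▸ mul_dvd_mul hM e)

theorem sup_eq_top_of_syl {X K : Subgroup G} [K.Normal] (hXK : X ≤ K) (hX : IsPGroup 2 X)
    (hi : ¬ 2 ∣ X.index) : 𝐍(X) ⊔ K = ⊤ := eq_top_iff.2 fun x _ => by
  obtain ⟨g, hg, h⟩ := H1.frattini_argument hXK hX
    (fun h => hi (h.trans (relIndex_dvd_index_of_le hXK))) (le_normalizer_of_normal (mem_top x))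
  exact (mul_mem_cancel_left (mem_sup_right hg)).1 (mem_sup_left h)

theorem hall23 (hE : EacHyp.{u, u}) (h : ¬ 16 ∣ Nat.card G ∧ ¬ 3 * 3 ∣ Nat.card G) :
    ∃ H : Subgroup G, IsPiHall {2, 3} H := by
  refine exists_hall_of_red _ (fun n => ¬ 16 ∣ n ∧ ¬ 3 * 3 ∣ n)
    (fun a b h h' => ⟨fun e => h'.1 (e.trans h), fun e => h'.2 (e.trans h)⟩) ?_ G h
  intro G _ _ ⟨h16, h9⟩ hs h1 h2
  exfalso
  have h3 : ∀ M : Subgroup G, ¬ 2 ∣ M.index → ¬ 3 ∣ M.index → M = ⊤ := fun M e2 e3 =>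
    h2 M fun p _ hd hp => by rcases hp with rfl | rfl <;> contradiction
  obtain ⟨X, hX, h4, hi, h5⟩ := exists_local h16 hs
  have h6 : ¬ 3 ∣ 𝐨(𝐍(X)) := fun e => by
    rw [h1 X (normalizer_eq_top_iff.1 (h3 _ hi (not_dvd_index h9 e)))
      (H1.isSolvable_of_isPGroup hX), card_bot] at h4
    omega
  obtain ⟨hel, R, hR, hR7, hC⟩ := h5.resolve_left h6
  have hXi : ¬ 2 ∣ X.index := fun e => h16 (by
    rw [← X.card_mul_index, hel.2]; exact mul_dvd_mul_left 8 e)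
  have hsim : IsSimpleGroup G := by
    haveI : Nontrivial G := not_subsingleton_iff_nontrivial.1 fun _ => hs inferInstance
    refine ⟨fun K hK => or_iff_not_imp_left.2 fun hne => ?_⟩
    obtain ⟨t, tK, ht⟩ := exists_inv_of_even (X := K) fun ho => hne (h1 K hK (feit_thompson _ ho))
    obtain ⟨g, -, hg⟩ := H1.exists_conj_le_sylow (H := ⊤) hX (by rwa [relIndex_top_right])
      le_top ht.isPGroup
    haveI : Fact (Nat.Prime 7) := ⟨by norm_num⟩
    have h7 := H2.card_modEq_card_inf_centralizer hR7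
      (H1.le_normalizer_inf hR (le_normalizer_of_normal (H := K)))
    rw [inf_right_comm, hC, bot_inf_eq, card_bot] at h7
    have h8 : 1 < 𝐨((X ⊓ K : Subgroup G)) := one_lt_card_iff_ne_bot _ |>.2 fun e =>
      (ht.conj g).ne (mem_bot.1 (e ▸ ⟨hg (mem_map_of_mem _ (mem_zpowers t)), hK.conj_mem t tK g⟩))
    have h10 := card_le_of_le (inf_le_left : X ⊓ K ≤ X)
    have hXK : X ≤ K := inf_eq_left.1 (H1.eq_of_le_of_card_le inf_le_left (by
      rw [hel.2] at h10 ⊢; unfold Nat.ModEq at h7; omega))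
    refine h3 K (fun e => hXi (e.trans (index_dvd_of_le hXK))) fun e => h6 (e.trans ?_)
    rw [← relIndex_top_right, ← sup_eq_top_of_syl hXK hX hXi,
      H1.relIndex_sup_of_le_normalizer le_normalizer_of_normal]
    exact relIndex_dvd_card _ _
  have hcj : ∀ P : Subgroup G, IsPGroup 2 P → ∃ g, P ^ᵍ g ≤ X := fun P hP =>
    (H1.exists_conj_le_sylow (H := ⊤) hX (by rwa [relIndex_top_right]) le_top hP).imp
      fun _ h => h.2
  have ab : ∀ P : Subgroup G, IsPGroup 2 P → IsMulCommutative P := fun P hP => by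
    obtain ⟨g, hg⟩ := hcj P hP
    refine ⟨⟨fun a b => Subtype.ext ((MulAut.conj g).injective ?_)⟩⟩
    rw [coe_mul, coe_mul, map_mul, map_mul]
    exact congrArg Subtype.val (hel.1.1.is_comm.comm
      (⟨_, hg (mem_map_of_mem _ a.2)⟩ : X) ⟨_, hg (mem_map_of_mem _ b.2)⟩)
  have hr : 3 ≤ pRank 2 (⊤ : Subgroup G) := le_pRank Nat.prime_two le_top hel
  have eac := hE.sol hsim ab hr fun t ht => by
    by_contra hs'
    obtain ⟨Y, hY, -, -, h7⟩ := exists_local (G := 𝐂[t])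
      (fun e => h16 (e.trans (card_subgroup_dvd_card _))) hs'
    have ht' : t ∈ 𝐂[t] := mem_cent_iff.2 (Commute.refl t)
    rcases h7 with h7 | ⟨h7, S, -, -, h8⟩
    · obtain ⟨P, hP⟩ := ht.isPGroup.exists_le_sylow
      have h8 : (P : Subgroup G) ≤ 𝐂[t] := fun x hx => mem_cent_iff.2 (congrArg Subtype.val
        ((ab P P.isPGroup').is_comm.comm ⟨t, hP (mem_zpowers t)⟩ ⟨x, hx⟩))
      have h10 := h3 𝐂[t] (fun e => P.not_dvd_index (e.trans (index_dvd_of_le h8)))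
        (not_dvd_index h9 (h7.trans (card_subgroup_dvd_card _)))
      exact ht.ne (zpowers_eq_bot.1 (h1 _ ⟨fun x hx g => by
        obtain ⟨k, rfl⟩ := mem_zpowers_iff.1 hx
        rw [((mem_cent_iff.1 (h10.ge (mem_top g))).symm.zpow_right k).eq, mul_inv_cancel_right]
        exact hx⟩ (Inv.solv t)))
    · have hi' : Inv (⟨t, ht'⟩ : 𝐂[t]) := ⟨fun e => ht.ne (congrArg Subtype.val e),
        Subtype.ext ht.sq⟩
      have hc : ∀ Z : Subgroup 𝐂[t], zpowers (⟨t, ht'⟩ : 𝐂[t]) ≤ 𝐂(Z) := fun Z =>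
        zpowers_le.2 fun y _ => Subtype.ext (mem_cent_iff.1 y.2).symm
      have h10 := H1.sylow_maximal (H := ⊤) (P := Y) (fun e => h16 (Dvd.dvd.trans (by
          rw [← Y.card_mul_index, h7.2, ← relIndex_top_right]; exact mul_dvd_mul_left 8 e)
          (card_subgroup_dvd_card 𝐂[t]))) le_sup_right le_top
        (hi'.isPGroup.to_sup_of_normal_right' hY (H1.le_normalizer_of_le_centralizer (hc Y)))
      exact hi'.ne (mem_bot.1 (h8 ▸ ⟨h10.le (mem_sup_left (mem_zpowers _)),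
        hc S (mem_zpowers _)⟩))
  obtain ⟨n, -, hn, hG, -⟩ := exists_SL2_of_eac eac hsim (by
    obtain ⟨a, ha, a1⟩ := exists_inv_of_even (X := X) (by rw [hel.2]; decide)
    obtain ⟨b, hb, hb'⟩ := SetLike.not_le_iff_exists.1 fun e : X ≤ zpowers a => by
      have := card_le_of_le e
      rw [hel.2, a1.card_zpowers] at this
      omega
    exact ⟨a, mem_top _, b, mem_top _, a1, ⟨fun e => hb' (e ▸ one_mem _), by
      rw [← pow_two, hel.1.2 b hb]⟩, fun e => hb' (e ▸ mem_zpowers a),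
      congrArg Subtype.val (hel.1.1.is_comm.comm (⟨a, ha⟩ : X) ⟨b, hb⟩)⟩)
  obtain rfl : n = 3 := le_antisymm (Nat.lt_succ_iff.1 (not_le.1 fun e => h16
    (hG ▸ ((pow_dvd_pow 2 e).mul_right _).mul_right _))) (hn ▸ hr)
  exact h9 (by rw [hG]; norm_num)

theorem hall235 (hB : P5.BBot.{u})
    (h : ¬ 8 ∣ Nat.card G ∧ ¬ 3 * 3 ∣ Nat.card G ∧ ¬ 5 * 5 ∣ Nat.card G) :
    ∃ H : Subgroup G, IsPiHall {2, 3, 5} H := by
  refine exists_hall_of_red _ (fun n => ¬ 8 ∣ n ∧ ¬ 3 * 3 ∣ n ∧ ¬ 5 * 5 ∣ n)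
    (fun a b h h' => ⟨fun e => h'.1 (e.trans h), fun e => h'.2.1 (e.trans h),
      fun e => h'.2.2 (e.trans h)⟩) ?_ G h
  intro G _ _ ⟨h8, h9, h25⟩ hs h1 h2
  have h3 : ∀ M : Subgroup G, ¬ 2 ∣ M.index → ¬ 3 ∣ M.index → ¬ 5 ∣ M.index →
      IsPiNum {2, 3, 5}ᶜ M.index := fun M e2 e3 e5 p _ hd hp => by
    rcases hp with rfl | rfl | rfl <;> contradiction
  have h4 : ∀ M : Subgroup G, 4 ∣ 𝐨(M) → ¬ 2 ∣ M.index := fun M e e' =>
    h8 (M.card_mul_index ▸ mul_dvd_mul e e')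
  have key : ∀ K : Subgroup G, K.Normal → K ≠ ⊥ → K = ⊤ ∧ 5 ∣ 𝐨(K) := fun K hK hne => by
    obtain ⟨X, hX, e4, -, h5⟩ := exists_local (G := K) (fun e => h8 ((Dvd.dvd.trans
      (by norm_num) e).trans (card_subgroup_dvd_card K))) fun h => hne (h1 K hK h)
    have e3 := h5.resolve_right fun h => h8 ((h.1.2 ▸ card_subgroup_dvd_card X).trans
      (card_subgroup_dvd_card K))
    have e4' : 4 ∣ 𝐨(X.map K.subtype) := by rwa [card_map_of_injective K.subtype_injective]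
    have e3' : 3 ∣ 𝐨(𝐍(X.map K.subtype)) := (card_map_of_injective K.subtype_injective ▸ e3).trans
      (Subgroup.card_dvd_of_le (le_normalizer_map K.subtype))
    have e5 : 5 ∣ 𝐨(K) := by
      refine Dvd.dvd.trans ?_ (relIndex_dvd_card 𝐍(X.map K.subtype) K)
      rw [H8.relIndex_eq_relIndex_sup _ _ le_normalizer_of_normal, sup_eq_top_of_syl
        (map_subtype_le X) (hX.map _) (h4 _ e4'), relIndex_top_right]
      by_contra e
      rw [h1 _ (normalizer_eq_top_iff.1 (h2 _ (h3 _ (h4 _ (e4'.trans (Subgroup.card_dvd_of_le le_normalizer)))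
        (not_dvd_index h9 e3') e))) (H1.isSolvable_of_isPGroup (hX.map _)), card_bot] at e4'
      omega
    exact ⟨h2 K (h3 K (h4 K (e4.trans (card_subgroup_dvd_card X))) (not_dvd_index h9
      (e3.trans (card_subgroup_dvd_card _))) (not_dvd_index h25 e5)), e5⟩
  haveI : Nontrivial G := not_subsingleton_iff_nontrivial.1 fun _ => hs inferInstance
  haveI : IsSimpleGroup G := ⟨fun K hK => or_iff_not_imp_left.2 fun hne => (key K hK hne).1⟩
  obtain ⟨F, _, _, -, hF, ⟨e⟩⟩ := hB.isL2 (not_isMulCommutative_of_not_isSolvable hs) h8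
  obtain ⟨H, hH⟩ := exists_card_sixty (F := F) (by
    rw [Nat.card_eq_fintype_card, Nat.odd_iff]; omega) (by
    rw [← Nat.card_congr e.toEquiv, ← card_top]; exact (key ⊤ inferInstance top_ne_bot).2)
  have hc : 𝐨(H.map e.symm.toMonoidHom) = 60 := by rw [card_map_of_injective e.symm.injective, hH]
  refine ⟨H.map e.symm.toMonoidHom, H1.isPiHall_iff.2 ⟨fun p hp hd => ?_, h3 _ (h4 _ (by
    rw [hc]; norm_num)) (not_dvd_index h9 (by rw [hc]; norm_num))
    (not_dvd_index h25 (by rw [hc]; norm_num))⟩⟩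
  rw [hc] at hd
  have := Nat.le_of_dvd (by norm_num) hd
  interval_cases p <;> first | (norm_num at hd; done) | (norm_num at hp; done) | simp

theorem card_eq_of_hall {m : ℕ} {π : Set ℕ} (hπ : ∀ p, p.Prime → (p ∈ π ↔ p ∣ m))
    (h1 : m ∣ Nat.card G) (h2 : m.Coprime (Nat.card G / m)) {H : Subgroup G} (hH : IsPiHall π H) :
    Nat.card H = m := by
  obtain ⟨k, hk⟩ := h1
  have hm : 0 < m := Nat.pos_of_mul_pos_right (hk ▸ Nat.card_pos) 
  rw [hk, Nat.mul_div_cancel_left _ hm] at h2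
  have h3 := H.card_mul_index.trans hk
  refine Nat.dvd_antisymm (Nat.Coprime.dvd_of_dvd_mul_right (k := 𝐨(H)) (n := k)
    (Nat.coprime_of_dvd fun p hp e e' => ?_) (h3 ▸ dvd_mul_right _ _))
    (Nat.Coprime.dvd_of_dvd_mul_right (n := H.index) (Nat.coprime_of_dvd fun p hp e e' =>
      hH.2 p hp ((hπ p hp).2 e) e') (h3 ▸ dvd_mul_right _ _))
  exact hp.ne_one (Nat.eq_one_of_dvd_coprimes h2 ((hπ p hp).1 (hH.1 p hp e)) e')

theorem not_dvd_of_coprime {m n a p : ℕ} (h1 : m ∣ n) (h2 : m.Coprime (n / m)) (hp : p.Prime)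
    (h3 : p ∣ m) (h4 : ¬ p ^ a ∣ m) : ¬ p ^ a ∣ n := fun e => h4
  (((hp.coprime_iff_not_dvd.2 fun e' => hp.ne_one
    (Nat.eq_one_of_dvd_coprimes h2 h3 e')).pow_left a).dvd_of_dvd_mul_right
    (by rwa [Nat.mul_div_cancel' h1]))

theorem hall_numbers (hE : EacHyp.{0, 0}) (hB : P5.BBot.{0}) (m : ℕ) (hm : 2 ≤ m) :
    (∀ (G : Type) [Group G] [Finite G], m ∣ Nat.card G → m.Coprime (Nat.card G / m) →
        ∃ H : Subgroup G, Nat.card H = m) ↔
    (IsPrimePow m ∨ m % 4 = 2 ∨ m = 12 ∨ m = 24 ∨ m = 60) := by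
  refine ⟨fun h => by_contra fun hn => ?_, fun h G _ _ h1 h2 => ?_⟩
  · obtain ⟨G, _, _, h1, h2, h3⟩ := exists_counter' hm hn
    obtain ⟨H, hH⟩ := h G h1 h2
    exact h3 H hH
  have e2 := fun a => not_dvd_of_coprime (a := a) h1 h2 Nat.prime_two
  have e3 := not_dvd_of_coprime (a := 2) h1 h2 Nat.prime_three
  have e5 := not_dvd_of_coprime (a := 2) h1 h2 Nat.prime_five
  have pd : ∀ {p q : ℕ}, p.Prime → q.Prime → ∀ a, p ∣ q ^ (a + 1) ↔ p = q := fun hp hq a =>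
    (hp.prime.dvd_pow_iff_dvd a.succ_ne_zero).trans (Nat.prime_dvd_prime_iff_eq hp hq)
  rcases h with h | h | rfl | rfl | rfl
  · obtain ⟨p, k, hp, -, rfl⟩ := (isPrimePow_nat_iff m).1 h
    haveI := Fact.mk hp
    exact Sylow.exists_subgroup_card_pow_prime p h1
  · haveI : Group.IsSolvable G := by
      by_contra hs
      have h4 := e2 2 (by omega) (by omega)
      obtain ⟨X, -, hX, -⟩ := exists_local (fun e => h4 (Dvd.dvd.trans (by norm_num) e)) hs
      exact h4 (hX.trans (card_subgroup_dvd_card X))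
    obtain ⟨H, hH⟩ := H1.exists_isPiHall_of_isSolvable (G := G) {p | p ∣ m}
    exact ⟨H, card_eq_of_hall (fun _ _ => Iff.rfl) h1 h2 hH⟩
  · obtain ⟨H, hH⟩ := hall23 hE ⟨e2 4 (by norm_num) (by norm_num), e3 (by norm_num) (by norm_num)⟩
    refine ⟨H, card_eq_of_hall (fun p hp => ?_) h1 h2 hH⟩
    rw [show 12 = 2 ^ (1 + 1) * 3 ^ (0 + 1) from rfl, hp.dvd_mul, pd hp Nat.prime_two,
      pd hp Nat.prime_three]; rfl
  · obtain ⟨H, hH⟩ := hall23 hE ⟨e2 4 (by norm_num) (by norm_num), e3 (by norm_num) (by norm_num)⟩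
    refine ⟨H, card_eq_of_hall (fun p hp => ?_) h1 h2 hH⟩
    rw [show 24 = 2 ^ (2 + 1) * 3 ^ (0 + 1) from rfl, hp.dvd_mul, pd hp Nat.prime_two,
      pd hp Nat.prime_three]; rfl
  · obtain ⟨H, hH⟩ := hall235 hB ⟨e2 3 (by norm_num) (by norm_num), e3 (by norm_num) (by norm_num),
      e5 (by norm_num) (by norm_num)⟩
    refine ⟨H, card_eq_of_hall (fun p hp => ?_) h1 h2 hH⟩
    rw [show 60 = 2 ^ (1 + 1) * (3 ^ (0 + 1) * 5 ^ (0 + 1)) from rfl, hp.dvd_mul, hp.dvd_mul,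
      pd hp Nat.prime_two, pd hp Nat.prime_three, pd hp Nat.prime_five]; rfl

end Cfsg.Agent.Cj
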