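/-
Groups with elementary abelian Sylow 2-subgroups of order at most 32 whose 2-automizers have
exponent 5 are solvable.
-/
import Cfsg.Agent.Cj.App0
import Cfsg.Agent.Cj.Hall
import Cfsg.Agent.H7.CA

set_option autoImplicit false
set_option linter.unusedSectionVars false
set_option linter.style.haveILetI false

namespace Cfsg.Agent.Cj

open Subgroup Cfsg Cfsg.Agent Cfsg.Agent.FT Cfsg.Agent.P6
open scoped IsMulCommutative commutatorElement

universe u

variable {G : Type u} [Group G] [Finite G]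

theorem pow_mem_cent {Y : Subgroup G} {g d : G} {k : ℕ} (hg : g ∈ 𝐍(Y))
    (h : ∀ y ∈ Y, g * y * g⁻¹ = d * y * d⁻¹) (hd : d ^ k ∈ 𝐂(Y)) : g ^ k ∈ 𝐂(Y) := by
  have key : ∀ k : ℕ, ∀ y ∈ Y, g ^ k * y * (g ^ k)⁻¹ = d ^ k * y * (d ^ k)⁻¹ := fun k => by
    induction k with
    | zero => simp
    | succ k ih =>
      intro y hy
      calc _ = g ^ k * (g * y * g⁻¹) * (g ^ k)⁻¹ := by rw [pow_succ]; group
        _ = d ^ k * (d * y * d⁻¹) * (d ^ k)⁻¹ := by
          rw [ih _ ((mem_normalizer_iff.1 hg y).1 hy), h y hy]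
        _ = _ := by rw [pow_succ]; group
  intro y hy
  have h1 := key k y hy
  rw [← hd y hy, mul_inv_cancel_right] at h1
  exact (mul_inv_eq_iff_eq_mul.1 h1).symm

theorem isPGroup_range {p : ℕ} {S R : Subgroup G} (hR : R ≤ 𝐍(S)) (h : ∀ g ∈ R, g ^ p ∈ 𝐂(S)) :
    IsPGroup p (H1.conjAut hR).range := by
  rintro ⟨_, g, rfl⟩
  refine ⟨1, Subtype.ext ?_⟩
  rw [pow_one, coe_pow, ← map_pow]
  exact (H1.mem_ker_conjAut hR).2 (h g g.2)

theorem modEq_of_pow {p : ℕ} [Fact p.Prime] {S R : Subgroup G} (hR : R ≤ 𝐍(S))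
    (h : ∀ g ∈ R, g ^ p ∈ 𝐂(S)) : 𝐨(S) ≡ 𝐨((S ⊓ 𝐂(R) : Subgroup G)) [MOD p] := by
  refine ((isPGroup_range hR h).card_modEq_card_fixedPoints S).trans
    (congrArg (fun n => n % p) (Nat.card_congr ?_))
  refine ⟨fun x => ⟨x.1, x.1.2, fun g hg => ?_⟩, fun x => ⟨⟨x.1, x.2.1⟩, ?_⟩,
    fun x => rfl, fun x => rfl⟩
  · exact mul_inv_eq_iff_eq_mul.1 (congrArg Subtype.val (x.2 ⟨_, ⟨g, hg⟩, rfl⟩))
  · rintro ⟨_, g, rfl⟩
    exact Subtype.ext (mul_inv_eq_iff_eq_mul.2 (x.2.2 g g.2))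

theorem map_of_isSyl {H : Type*} [Group H] {f : G →* H} (hf : Function.Surjective f) {p : ℕ}
    (hp : p.Prime) {X : Subgroup H} (hX : IsPGroup p X) {Y : Subgroup G}
    (hY : IsSyl p Y (X.comap f)) : Y.map f = X := by
  haveI := Fact.mk hp
  haveI := Finite.of_surjective f hf
  have hle : Y.map f ≤ X := map_le_iff_le_comap.2 hY.le
  refine le_antisymm hle (relIndex_eq_one.1 ?_)
  obtain ⟨k, hk⟩ := hX.exists_card_eq
  obtain ⟨j, -, hj⟩ := (Nat.dvd_prime_pow hp).1 (hk ▸ relIndex_dvd_card (Y.map f) X)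
  have h1 : (Y.map f).relIndex X ∣ Y.relIndex (X.comap f) := by
    conv_lhs => rw [← map_comap_eq_self_of_surjective hf X]
    rw [← relIndex_comap]
    exact relIndex_dvd_of_le_left _ (le_comap_map _ _)
  cases j with
  | zero => exact hj
  | succ j => exact absurd ((dvd_pow_self p j.succ_ne_zero).trans (hj ▸ h1)) hY.ndvd

/-- Elementary abelian Sylow `2`-subgroups of order at most `32`, automizers of exponent `5`. -/
structure E5 (G : Type u) [Group G] : Prop where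
  sq : ∀ x : G, x ^ 4 = 1 → x * x = 1
  lt : ¬ 64 ∣ Nat.card G
  five : ∀ Y : Subgroup G, IsPGroup 2 Y → ∀ g ∈ 𝐍(Y), g ^ 5 ∈ 𝐂(Y)

theorem E5.sub (h : E5 G) (N : Subgroup G) : E5 N :=
  ⟨fun x hx => Subtype.ext (h.sq x (congrArg Subtype.val hx)),
    fun e => h.lt (e.trans (card_subgroup_dvd_card N)), fun _ hY g hg y hy => Subtype.ext
      (h.five _ (hY.map N.subtype) g (le_normalizer_map _ (mem_map_of_mem _ hg)) y
        (mem_map_of_mem _ hy))⟩

theorem E5.quot (h : E5 G) (N : Subgroup G) [N.Normal] : E5 (G ⧸ N) := by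
  have hf := QuotientGroup.mk'_surjective N
  set f := QuotientGroup.mk' N
  have key : ∀ X : Subgroup (G ⧸ N), IsPGroup 2 X → ∀ x ∈ X, x * x = 1 := fun X hX x hx => by
    obtain ⟨Y, hY⟩ := exists_isSyl Nat.prime_two (X.comap f)
    obtain ⟨y, hy, rfl⟩ := (map_of_isSyl hf Nat.prime_two hX hY).ge hx
    rw [← map_mul, ← pow_two, (P7.elem_of_four h.sq hY.pgrp).2 y hy, map_one]
  refine ⟨fun x hx => key _ (IsPGroup.of_card_dvd_pow (n := 2) ?_) x (mem_zpowers x),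
    fun e => h.lt (e.trans (card_quotient_dvd_card N)), fun X hX g hg => ?_⟩
  · rw [Nat.card_zpowers]; exact orderOf_dvd_of_pow_eq_one hx
  obtain ⟨g, rfl⟩ := hf g
  obtain ⟨Y, hY⟩ := exists_isSyl Nat.prime_two (X.comap f)
  obtain ⟨c, hc, hcg⟩ := H1.frattini_argument hY.le hY.pgrp hY.ndvd (x := g)
    (by rwa [← comap_normalizer_eq_of_surjective _ hf])
  refine pow_mem_cent (d := f (c * g)) hg (fun y hy => ?_) fun y hy => ?_
  · rw [map_mul, show f c * f g * y * (f c * f g)⁻¹ = f c * (f g * y * (f g)⁻¹) * (f c)⁻¹ by group,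
      L.commute_of_sq_eq_one (key X hX) hc ((mem_normalizer_iff.1 hg y).1 hy),
      mul_inv_cancel_right]
  · obtain ⟨y, hy', rfl⟩ := (map_of_isSyl hf Nat.prime_two hX hY).ge hy
    rw [← map_pow, ← map_mul, ← map_mul, h.five Y hY.pgrp _ hcg y hy']

theorem E5.isSolvable (h : E5 G) : Group.IsSolvable G := by
  refine L.isSolvable_of_closed (P := fun G _ _ => E5 G) (fun _ _ _ N _ h => h.sub N)
    (fun _ _ _ N _ h => h.quot N) (fun G _ _ hs h hns => ?_) G h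
  haveI := Fact.mk Nat.prime_five
  obtain ⟨S⟩ : Nonempty (Sylow 2 G) := inferInstance
  have hel := P7.elem_of_four h.sq S.isPGroup'
  haveI := hel.1
  obtain ⟨n, hn⟩ := S.isPGroup'.exists_card_eq
  have h5 := h.five _ S.isPGroup'
  have hS : ∀ x ∈ (S : Subgroup G), (S : Subgroup G) ≤ 𝐂[x] := fun x hx y hy =>
    L.mem_cent_iff.2 (setLike_mul_comm hx hy)
  have h1 := modEq_of_pow le_rfl h5
  rw [show (S : Subgroup G) ⊓ 𝐂(𝐍((S : Subgroup G))) = ⊥ from eq_bot_iff.2 fun x hx =>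
    H7.CA.eq_one_of_transfer S hx.1 (by
      rw [(hs.eq_bot_or_eq_top_of_normal (commutator G) inferInstance).resolve_left fun e =>
        hns ⟨1, e⟩]
      exact mem_top x) fun m hm => (hx.2 m hm).symm, card_bot, hn] at h1
  have h6 : n < 6 := not_le.1 fun e => h.lt
    ((pow_dvd_pow 2 e).trans (hn ▸ card_subgroup_dvd_card _))
  have h0 : n ≠ 0 := by
    rintro rfl
    refine hns (feit_thompson G (Nat.odd_iff.2 (Nat.two_dvd_ne_zero.1 ?_)))
    rw [← (S : Subgroup G).card_mul_index, hn, pow_zero, one_mul]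
    exact S.not_dvd_index
  obtain rfl : n = 4 := by
    interval_cases n <;> simp_all [Nat.ModEq]
  have hC : ∀ (T : Sylow 2 G), ∀ s ∈ (T : Subgroup G), s ≠ 1 →
      𝐂[s] ⊓ 𝐍((T : Subgroup G)) ≤ 𝐂((T : Subgroup G)) := fun T s hs s1 => by
    have h2 := modEq_of_pow (R := 𝐂[s] ⊓ 𝐍((T : Subgroup G))) inf_le_right
      fun g hg => h.five _ T.isPGroup' g hg.2
    have hT : 𝐨((T : Subgroup G)) = 2 ^ 4 := hn ▸ Nat.card_congr (T.equiv S).toEquiv
    obtain ⟨j, hj, e⟩ := (Nat.dvd_prime_pow Nat.prime_two).1 (hT ▸ Subgroup.card_dvd_of_le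
      (inf_le_left : (T : Subgroup G) ⊓ 𝐂((𝐂[s] ⊓ 𝐍((T : Subgroup G)) : Subgroup G)) ≤ T))
    have h3 : j ≠ 0 := by
      rintro rfl
      exact s1 (mem_bot.1 (card_eq_one.1 e ▸ ⟨hs, fun g hg => (hg.1 s rfl).symm⟩))
    rw [hT, e] at h2
    obtain rfl : j = 4 := by
      interval_cases j <;> simp_all [Nat.ModEq]
    rw [le_centralizer_iff, ← inf_eq_left]
    exact H1.eq_of_le_of_card_le inf_le_left (by rw [hT, e])
  have h3 := P7.le_pRank_of_four h.sq (n := 3)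
    ((pow_dvd_pow 2 (by norm_num)).trans (hn ▸ card_subgroup_dvd_card _))
  have he := eacHyp.sol hs (fun P hP => (P7.elem_of_four h.sq hP).1) h3 fun t ht => by
    obtain ⟨T, hT⟩ := ht.isPGroup.exists_le_sylow
    haveI := (P7.elem_of_four h.sq T.isPGroup').1
    have tT := hT (mem_zpowers t)
    exact isSolvable_of_npc ((hasNPC_iff Nat.prime_two).1 (burnside_npc Nat.prime_two
      ((isSyl_top_coe Nat.prime_two T).of_le (fun y hy => L.mem_cent_iff.2
        (setLike_mul_comm tT hy)) le_top) (hC T t tT ht.ne)))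
  obtain ⟨t, tS, ht⟩ := exists_inv_of_even (X := (S : Subgroup G)) (by rw [hn]; decide)
  obtain ⟨u, hu, htu⟩ : ∃ u, u * u = 1 ∧ ¬ Commute t u := by
    by_contra! hc
    rcases hs.eq_bot_or_eq_top_of_normal 𝐂[t] ⟨fun x hx g => L.mem_cent_iff.2
      (hc _ (conj_sq (he.sq_of_mem ht.ne ht.sq x hx)))⟩ with e | e
    · exact ht.ne (mem_bot.1 (e ▸ self_mem_cent1 t))
    · exact hns (Group.isSolvable_of_comm fun a b => L.commute_of_sq_eq_one
        (he.sq_of_mem ht.ne ht.sq) (e ▸ mem_top a) (e ▸ mem_top b))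
  have hcl : {c | ∃ d ∈ 𝐍((S : Subgroup G)), d * t * d⁻¹ = c} = ((S : Subgroup G) : Set G) \ {1} := by
    ext c
    refine ⟨?_, fun ⟨cS, c1⟩ => ?_⟩
    · rintro ⟨d, hd, rfl⟩
      exact ⟨(mem_normalizer_iff.1 hd t).1 tS, conj_ne_one ht.ne⟩
    obtain ⟨g, rfl⟩ := isConj_iff.1 (he.isConj_of_invol ht.ne ht.sq hu htu c1
      (by rw [← pow_two, hel.2 c cS]))
    obtain ⟨m, hm, e⟩ := S.conj_eq_normalizer_conj_of_mem t g⁻¹ tS (by rwa [inv_inv])
    exact ⟨m⁻¹, inv_mem hm, by rw [inv_inv] at e ⊢; exact e.symm⟩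
  have h7 := congrArg Set.ncard hcl
  rw [ncard_class, Set.ncard_sdiff_singleton_of_mem (one_mem _)] at h7
  change _ = 𝐨((S : Subgroup G)) - 1 at h7
  obtain ⟨k, hk⟩ := (isPGroup_range le_rfl h5).exists_card_eq
  rw [← index_ker, H1.ker_conjAut] at hk
  have h8 := relIndex_dvd_of_le_left 𝐍((S : Subgroup G))
    (centralizer_le (Set.singleton_subset_iff.2 tS) : 𝐂((S : Subgroup G)) ≤ 𝐂[t])
  rw [h7, hn, relIndex, hk] at h8
  exact absurd (Nat.prime_three.dvd_of_dvd_pow (Dvd.dvd.trans (by norm_num) h8)) (by norm_num)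

theorem C4.isSolvable_cent (h : C4 G) (h2 : Rk2 (⊤ : Subgroup G)) (h32 : 32 ∣ Nat.card G) {a : G}
    (ha : Inv a) : Group.IsSolvable 𝐂[a] := by
  have key : ∀ P : Sylow 2 G, a ∈ (P : Subgroup G) → ∃ D, St P D a 5 5 := fun P hP => by
    obtain ⟨D, n, f, s⟩ := h.exists_st h2 P hP ha.ne
    have h1 : 32 ∣ 2 ^ n := by
      rw [← s.card]
      exact (Nat.Coprime.pow_left 5 ((Nat.Prime.coprime_iff_not_dvd Nat.prime_two).2
        P.not_dvd_index)).dvd_of_dvd_mul_right ((P : Subgroup G).card_mul_index ▸ h32)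
    rcases s.cases with ⟨rfl, -⟩ | ⟨rfl, -⟩ | ⟨rfl, -⟩ | ⟨rfl, rfl⟩
    iterate 3 exact absurd h1 (by norm_num)
    exact ⟨D, s⟩
  refine E5.isSolvable ⟨fun x hx => Subtype.ext (h.sq h2 x (congrArg Subtype.val hx)),
    fun e => ?_, fun Y hY g hg => ?_⟩
  · obtain ⟨P, hP⟩ := ha.isPGroup.exists_le_sylow
    obtain ⟨D, s⟩ := key P (hP (mem_zpowers a))
    have h1 := e.trans (card_subgroup_dvd_card _)
    rw [← (P : Subgroup G).card_mul_index, s.card] at h1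
    exact P.not_dvd_index (Nat.dvd_of_mul_dvd_mul_left (by norm_num : 0 < 2 ^ 5) h1)
  have hYa : Y.map 𝐂[a].subtype ≤ 𝐍(zpowers a) := H1.le_normalizer_of_le_centralizer (by
    rintro _ ⟨y, -, rfl⟩ _ ⟨k, rfl⟩
    exact (L.mem_cent_iff.1 y.2).zpow_left k)
  obtain ⟨P, hP⟩ := (IsPGroup.to_sup_of_normal_right' (hY.map _) ha.isPGroup hYa).exists_le_sylow
  obtain ⟨D, s⟩ := key P (hP (mem_sup_right (mem_zpowers a)))
  set X := Y.map 𝐂[a].subtype
  haveI := (P7.elem_of_four (h.sq h2) P.isPGroup').1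
  have hXP : X ≤ P := le_sup_left.trans hP
  have hgX : (g : G) ∈ 𝐍(X) := le_normalizer_map _ (mem_map_of_mem _ hg)
  have hPC : (P : Subgroup G) ≤ 𝐂(X) ⊓ 𝐂[a] := fun y hy =>
    ⟨fun x hx => setLike_mul_comm (hXP hx) hy, L.mem_cent_iff.2 (setLike_mul_comm s.mem hy)⟩
  have hS := (isSyl_top_coe Nat.prime_two P).of_le hPC le_top
  obtain ⟨c, hc, hcg⟩ := H1.frattini_argument hS.le hS.pgrp hS.ndvd (x := g)
    (inf_normalizer_le_normalizer_inf
      ⟨H1.normalizer_le_normalizer_centralizer X hgX, le_normalizer g.2⟩)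
  obtain ⟨d, hd, r, hr, e⟩ := (H1.mem_sup_iff_of_le_normalizer s.le).1 (s.sup ▸ hcg)
  have hda : d ∈ 𝐂[a] ⊓ D := ⟨(mul_mem_cancel_right (mem_inf.1 (hPC hr)).2).1
    (e ▸ mul_mem (mem_inf.1 hc).2 g.2), hd⟩
  have hd5 : d ^ 5 ∈ 𝐂((P : Subgroup G)) := by
    have h1 := H1.card_inf_mul_relIndex 𝐂((P : Subgroup G)) (𝐂[a] ⊓ D)
    rw [s.cardR, ← inf_assoc, inf_eq_left.2
      (centralizer_le (Set.singleton_subset_iff.2 s.mem)), inf_comm] at h1
    haveI := H1.normal_subgroupOf_of_le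
      (H1.le_normalizer_centralizer ((inf_le_right : 𝐂[a] ⊓ D ≤ D).trans s.le))
    exact Nat.eq_of_mul_eq_mul_left Nat.card_pos h1 ▸ pow_index_mem (H := 𝐂((P : Subgroup
      G)).subgroupOf (𝐂[a] ⊓ D)) ⟨d, hda⟩
  have h5 : (g : G) ^ 5 ∈ 𝐂(X) := pow_mem_cent hgX (fun y hy => by
    calc _ = c * (g * y * (g : G)⁻¹) * c⁻¹ := by
          rw [← hc.1 _ ((mem_normalizer_iff.1 hgX y).1 hy), mul_inv_cancel_right]
      _ = d * (r * y * r⁻¹) * d⁻¹ := by
          rw [show c * (g * y * (g : G)⁻¹) * c⁻¹ = c * g * y * (c * g)⁻¹ by group, ← e]; group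
      _ = _ := by rw [setLike_mul_comm hr (hXP hy), mul_inv_cancel_right])
    (centralizer_le hXP hd5)
  exact fun y hy => Subtype.ext (h5 y (mem_map_of_mem _ hy))

end Cfsg.Agent.Cj
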