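/-
Groups in which subgroups of equal order at most 4 are conjugate: simple normal subgroups.
-/
import Cfsg.Agent.Cj.App1
import Cfsg.Agent.P8.JIso

set_option autoImplicit false
set_option linter.unusedSectionVars false
set_option linter.style.haveILetI false

namespace Cfsg.Agent.Cj

open Subgroup Cfsg Cfsg.Agent Cfsg.Agent.FT Cfsg.Agent.P6
open scoped IsMulCommutative commutatorElement

universe u

variable {G : Type u} [Group G] [Finite G]

theorem rk2_of_simple (hs : IsSimpleGroup G) (hna : ¬ IsMulCommutative G) :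
    Rk2 (⊤ : Subgroup G) := by
  by_contra h2
  obtain ⟨t, -, ht⟩ := exists_inv_of_even (X := (⊤ : Subgroup G)) fun ho => hna
    ⟨⟨IsSimpleGroup.comm_iff_isSolvable.2 (feit_thompson G (card_top (G := G) ▸ ho))⟩⟩
  have hO : pPrimeCore 2 G = ⊥ := (hs.eq_bot_or_eq_top_of_normal _ inferInstance).resolve_right
    fun e => absurd (ht.orderOf_eq ▸ odd_orderOf_of_mem (Nat.coprime_two_right.1
      (L.coprime_card_pPrimeCore (G := G) 2)) (e ▸ mem_top t)) (by decide)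
  rcases hs.eq_bot_or_eq_top_of_normal (center G) inferInstance with e | e
  · refine ht.ne (mem_bot.1 (e ▸ mem_center_iff.2 fun g => Commute.symm ?_))
    refine commutatorElement_eq_one_iff_commute.1 (mem_bot.1 (hO ▸ P1.brauer_suzuki ht.orderOf_eq
      (fun s hs hc => ?_) g))
    by_contra hne
    exact h2 ⟨_, mem_top _, _, mem_top _, ht, inv_of_orderOf hs, Ne.symm hne, hc⟩
  · exact hna ⟨⟨fun a b => mem_center_iff.1 (e ▸ mem_top b) a⟩⟩

theorem two_mul_card_L2 {L : Subgroup G} {q : ℕ} (h : P7.IsL2 L q) :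
    2 * 𝐨(L) = q * (q - 1) * (q + 1) := by
  obtain ⟨F, _, _, hF, ⟨e⟩⟩ := h.iso
  rw [← Nat.card_eq_fintype_card] at hF
  rw [Nat.card_congr e.toEquiv, P3.two_mul_card_PSL2 (by
    rw [hF, Nat.odd_iff]; have := h.mod; omega), hF]

theorem C4.not_ree (h : C4 G) {M : Subgroup G} [hM : M.Normal] {t : M} {L U : Subgroup M} {q : ℕ}
    (r : P7.Ree t L U q) : False := by
  haveI := Fact.mk Nat.prime_three
  have ht := inv_of_orderOf r.inv
  obtain ⟨n, hq⟩ := r.pow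
  have hb := r.big
  have hq3 : 3 ∣ q := hq ▸ dvd_pow_self 3 (by rintro rfl; omega)
  have hq8 : q % 8 = 3 := by
    have : ∀ n, 3 ^ n % 8 = 1 ∨ 3 ^ n % 8 = 3 := fun n => by
      induction n with
      | zero => simp
      | succ n ih => rw [pow_succ]; omega
    have h1 := this n
    have h2 := r.l2.mod
    omega
  have hL := two_mul_card_L2 r.l2
  obtain ⟨x, xL, hx⟩ := exists_mem_orderOf_eq_prime (H := L) Nat.prime_three
    ((Nat.Coprime.dvd_mul_left (by norm_num)).1 (hL ▸ (hq3.mul_right _).mul_right _))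
  obtain ⟨u, uU, hu⟩ := SetLike.not_le_iff_exists.1 fun hle : U ≤ 𝐂[t] => by
    have h1 := card_le_of_le hle
    have h2 := Nat.le_of_dvd (mul_pos Nat.card_pos Nat.card_pos) (H1.card_sup_dvd (A := zpowers t) (N := L)
      (zpowers_le.2 (r.normal.2 (self_mem_cent1 t))))
    rw [← r.exact, ht.card_zpowers, hL] at h2
    rw [r.cardU] at h1
    obtain ⟨k, rfl⟩ : ∃ k, q = k + 1 := ⟨q - 1, by omega⟩
    rw [Nat.add_sub_cancel] at h2
    nlinarith
  have y0U : u * (t * u⁻¹ * t⁻¹) ∈ U := mul_mem uU ((mem_normalizer_iff.1 r.tB _).1 (inv_mem uU))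
  have h0 : t * (u * (t * u⁻¹ * t⁻¹)) * t⁻¹ = (u * (t * u⁻¹ * t⁻¹))⁻¹ := by
    calc _ = t * u * (t * t * t⁻¹) * u⁻¹ * (t * t)⁻¹ := by group
      _ = _ := by rw [ht.sq]; group
  have h3 : 3 ∣ orderOf (u * (t * u⁻¹ * t⁻¹)) := by
    have h1 := U.orderOf_dvd_natCard y0U
    rw [r.cardU, hq, ← pow_mul] at h1
    obtain ⟨j, -, hj⟩ := (Nat.dvd_prime_pow Nat.prime_three).1 h1
    refine hj ▸ dvd_pow_self 3 ?_
    rintro rfl
    refine hu (Agent.L.mem_cent_iff.2 ?_)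
    have h2 := orderOf_eq_one_iff.1 hj
    calc t * u = u * (t * u⁻¹ * t⁻¹) * (t * u) := by rw [h2, one_mul]
      _ = u * t := by group
  set y0 := u * (t * u⁻¹ * t⁻¹)
  let y := y0 ^ (orderOf y0 / 3)
  have hy : orderOf y = 3 := orderOf_pow_orderOf_div (orderOf_pos _).ne' h3
  have hty : t * y * t⁻¹ = y⁻¹ := by rw [← conj_pow, h0, inv_pow]
  have y1 : y ≠ 1 := fun e => by simp [e] at hy
  obtain ⟨g, hg⟩ := h (zpowers (x : G)) (zpowers (y : G)) (by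
    rw [Nat.card_zpowers, Nat.card_zpowers, Subgroup.orderOf_coe, Subgroup.orderOf_coe, hx, hy])
    (by rw [Nat.card_zpowers, Subgroup.orderOf_coe, hx]; simp)
  let s : M := ⟨g * t * g⁻¹, hM.conj_mem _ t.2 g⟩
  have hs : Inv s := ⟨fun e => conj_ne_one (fun e => ht.ne (Subtype.ext e)) (congrArg Subtype.val e),
    Subtype.ext (conj_sq (congrArg Subtype.val ht.sq))⟩
  have hsy : s ∈ 𝐂[y] := by
    obtain ⟨_, ⟨k, rfl⟩, e⟩ := hg.le (mem_zpowers _)
    refine Agent.L.mem_cent_iff.2 (Subtype.ext ?_)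
    have h1 : Commute ((x : G) ^ k) t :=
      Commute.zpow_left (congrArg Subtype.val (r.normal.1 xL t rfl)).symm k
    have h2 := h1.map (MulAut.conj g).toMonoidHom
    rw [e] at h2
    exact h2
  have hn : zpowers t ≤ 𝐍((𝐍(U) ⊓ 𝐂[y] : Subgroup M)) := zpowers_le.2
    (inf_normalizer_le_normalizer_inf ⟨le_normalizer r.tB, H1.map_conj_eq_self_iff.1
      ((cent1_conj y t).symm.trans (by rw [hty, cent1_inv]))⟩)
  have h4 := Subgroup.card_dvd_of_le (sup_le (zpowers_le.2 r.tB) inf_le_left :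
    zpowers t ⊔ 𝐍(U) ⊓ 𝐂[y] ≤ 𝐍(U))
  rw [H1.card_sup_of_inf_eq_bot hn (eq_bot_iff.2 fun z hz => ((mem_zp ht).1 hz.1).resolve_right
    fun e => y1 (eq_one_of_eq_inv (by rw [hy]; decide) (by
      rw [← hty, ← e, ← hz.2.2 y rfl, mul_inv_cancel_right]))), ht.card_zpowers, r.cardB] at h4
  have h5 := (𝐍(U) ⊓ 𝐂[y]).orderOf_dvd_natCard ⟨r.ti y (pow_mem y0U _) y1 hsy, hsy⟩
  rw [hs.orderOf_eq] at h5
  have h6 := (Nat.Coprime.dvd_mul_left (k := 2 * 2) (Nat.Coprime.pow_right 3 (Nat.Coprime.mul_left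
    (Nat.coprime_two_left.2 (Nat.odd_iff.2 (by omega)))
    (Nat.coprime_two_left.2 (Nat.odd_iff.2 (by omega)))))).1 ((mul_dvd_mul_left 2 h5).trans h4)
  omega

theorem C4.classify (hK : P7.K3.{u}) (h : C4 G) (M : Subgroup G) [hM : M.Normal]
    (hs : IsSimpleGroup M) (hna : ¬ IsMulCommutative M) :
    Rk2 (⊤ : Subgroup G) ∧ (∀ b : G, Inv b → b ∈ M) ∧
      ((∃ q, P7.IsL2 M q) ∨ (8 ∣ 𝐨(M) ∧ (L.EAC M ∨ 𝐨(M) = 175560))) := by
  have hi : ∀ {a : M}, Inv a → Inv (a : G) := fun ha =>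
    ⟨fun e => ha.ne (Subtype.ext e), congrArg Subtype.val ha.sq⟩
  have h2' := rk2_of_simple hs hna
  have ⟨h2, hI⟩ : Rk2 (⊤ : Subgroup G) ∧ ∀ b : G, Inv b → b ∈ M := by
    obtain ⟨a, -, b, -, ha, hb, hne, hc⟩ := h2'
    refine ⟨⟨_, mem_top _, _, mem_top _, hi ha, hi hb, fun e => hne (Subtype.ext e),
      congrArg Subtype.val hc⟩, fun c hc => ?_⟩
    obtain ⟨g, rfl⟩ := h.isConj (hi ha) hc
    exact hM.conj_mem _ a.2 g
  refine ⟨h2, hI, ?_⟩
  have hsq : ∀ x : M, x ^ 4 = 1 → x * x = 1 := fun x hx =>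
    Subtype.ext (h.sq h2 x (congrArg Subtype.val hx))
  by_cases h8 : 8 ∣ 𝐨(M)
  swap
  · obtain ⟨F, _, _, h1, h3, e⟩ := P5.isL2_of_simple hna h8
    exact Or.inl ⟨_, ⟨F, _, _, rfl, e⟩, h3, by omega⟩
  by_cases h16 : 16 ∣ 𝐨(M)
  swap
  · rcases hK.known hs hna ⟨hsq, h16⟩ with ⟨q, ⟨F, _, _, h1, ⟨e⟩⟩, h3, h4⟩ | h1 | ⟨_, _, -, h1⟩ |
      ⟨_, _, _, _, r⟩
    · exact Or.inl ⟨q, ⟨F, _, _, h1, ⟨topEquiv.symm.trans e⟩⟩, h3, h4⟩
    · exact Or.inr ⟨h8, Or.inl h1.1⟩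
    · exact Or.inr ⟨h8, Or.inr h1⟩
    · exact (h.not_ree r).elim
  refine Or.inr ⟨h8, Or.inl (eacHyp.sol hs (fun P hP => (P7.elem_of_four hsq hP).1)
    (P7.le_pRank_of_four hsq (n := 3) h8) fun t ht => ?_)⟩
  obtain ⟨P, hP⟩ := (hi ht).isPGroup.exists_le_sylow
  obtain ⟨D, n, f, s⟩ := h.exists_st h2 P (hP (mem_zpowers _)) (hi ht).ne
  have h1 : 16 ∣ 2 ^ n := by
    rw [← s.card]
    exact (Nat.Coprime.pow_left 4 ((Nat.Prime.coprime_iff_not_dvd Nat.prime_two).2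
      P.not_dvd_index)).dvd_of_dvd_mul_right
      ((P : Subgroup G).card_mul_index ▸ h16.trans (card_subgroup_dvd_card M))
  have h3 := card_subgroup_dvd_card (P : Subgroup G)
  rw [s.card] at h3
  rcases s.cases with ⟨rfl, -⟩ | ⟨rfl, -⟩ | ⟨rfl, -⟩ | ⟨rfl, -⟩
  iterate 3 exact absurd h1 (by norm_num)
  haveI := h.isSolvable_cent h2 h3 (hi ht)
  exact Group.isSolvable_of_isSolvable_injective
    (f := (M.subtype.comp 𝐂[t].subtype).codRestrict 𝐂[(t : G)]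
      fun x => L.mem_cent_iff.2 (congrArg Subtype.val (L.mem_cent_iff.1 x.2)))
    fun a b e => Subtype.ext (Subtype.ext (congrArg (fun x : 𝐂[(t : G)] => x.1) e))

theorem C4.main (hK : P7.K3.{u}) (h : C4 G) (M : Subgroup G) [M.Normal]
    (hs : IsSimpleGroup M) (hna : ¬ IsMulCommutative M) :
    (∃ (F : Type) (_ : Field F) (_ : Fintype F), (Fintype.card F = 2 ^ 2 ∨ Fintype.card F = 2 ^ 3 ∨
      Fintype.card F = 2 ^ 5) ∧ Nonempty (M ≃* Matrix.SpecialLinearGroup (Fin 2) F)) ∨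
    (∃ (F : Type) (_ : Field F) (_ : Fintype F), 5 ≤ Fintype.card F ∧
      (Fintype.card F % 8 = 3 ∨ Fintype.card F % 8 = 5) ∧
        Nonempty (M ≃* Matrix.ProjectiveSpecialLinearGroup (Fin 2) F)) ∨ Spor.IsoJ1 M := by
  obtain ⟨h2, hI, ⟨q, ⟨F, _, _, rfl, e⟩, h3, h5⟩ | ⟨-, he | hc⟩⟩ := h.classify hK M hs hna
  · exact Or.inr (Or.inl ⟨F, _, _, h5, h3, e⟩)
  swap
  · exact Or.inr (Or.inr (P8.isoJ1 hc))
  obtain ⟨m, hm, h3, h4, e, -⟩ := exists_SL2_of_eac he hs (rk2_of_simple hs hna)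
  refine Or.inl ⟨GaloisField 2 m, inferInstance, Fintype.ofFinite _, ?_, e⟩
  rw [← @Nat.card_eq_fintype_card _ (Fintype.ofFinite _), GaloisField.card 2 m (by omega)]
  have ⟨a, _, _, _, ha, _⟩ := h2
  obtain ⟨P, hP⟩ := ha.isPGroup.exists_le_sylow
  obtain ⟨D, n, f, s⟩ := h.exists_st h2 P (hP (mem_zpowers _)) ha.ne
  have hPM : (P : Subgroup G) ≤ M := fun x hx => by
    by_cases x1 : x = 1
    · rw [x1]; exact one_mem _
    · exact hI x ⟨x1, by rw [← pow_two, (P7.elem_of_four (h.sq h2) P.isPGroup').2 x hx]⟩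
  obtain rfl : m = n := by
    refine le_antisymm ((Nat.pow_dvd_pow_iff_le_right one_lt_two).1 ?_) (h3 ▸ P7.le_pRank_of_four
      (fun x hx => Subtype.ext (h.sq h2 x (congrArg Subtype.val hx)))
      (s.card ▸ Subgroup.card_dvd_of_le hPM))
    rw [← s.card]
    exact (Nat.Coprime.pow_left m ((Nat.Prime.coprime_iff_not_dvd Nat.prime_two).2
      P.not_dvd_index)).dvd_of_dvd_mul_right ((P : Subgroup G).card_mul_index ▸
        Dvd.dvd.trans (h4 ▸ (dvd_mul_right _ _).mul_right _) (card_subgroup_dvd_card M))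
  rcases s.cases with ⟨rfl, -⟩ | ⟨rfl, -⟩ | ⟨rfl, -⟩ | ⟨rfl, -⟩ <;> simp

theorem c4_of_comm (h : ∀ A B : Subgroup G, IsMulCommutative A → IsMulCommutative B →
    𝐨(A) = 𝐨(B) → ∃ g : G, B = A ^ᵍ g) : C4 G := fun A B e h4 => by
  have key : ∀ A : Subgroup G, 𝐨(A) = 2 ∨ 𝐨(A) = 3 ∨ 𝐨(A) = 4 → IsMulCommutative A := by
    haveI := Fact.mk Nat.prime_three
    rintro A (h | h | h)
    · exact (isCyclic_of_prime_card h).isMulCommutative
    · exact (isCyclic_of_prime_card h).isMulCommutative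
    · exact IsPGroup.isMulCommutative_of_card_eq_prime_sq (p := 2) h
  exact h A B (key A h4) (key B (e ▸ h4)) e

end Cfsg.Agent.Cj
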