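/-
Groups in which `p`-subgroups of equal order are conjugate: the non-solvable case.
-/
import Cfsg.Agent.Cj.App2
import Cfsg.Agent.P7.L2B

set_option autoImplicit false
set_option linter.unusedSectionVars false
set_option linter.style.haveILetI false

namespace Cfsg.Agent.Cj

open Subgroup Cfsg Cfsg.Agent Cfsg.Agent.FT Cfsg.Agent.P6
open scoped IsMulCommutative commutatorElement

universe u

variable {G : Type u} [Group G] [Finite G]

theorem C4.exists_simple (h : C4 G) (h2 : Rk2 (⊤ : Subgroup G)) (hO : pPrimeCore 2 G = ⊥)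
    (hnc : ∃ a b : G, Inv a ∧ Inv b ∧ ¬ Commute a b) :
    ∃ M : Subgroup G, M.Normal ∧ IsSimpleGroup M ∧ ¬ IsMulCommutative M ∧ 𝐂(M) = ⊥ := by
  obtain ⟨a0, b0, ha0, hb0, hnc⟩ := hnc
  let M := closure {b : G | Inv b}
  have hM : ∀ b : G, Inv b → b ∈ M := fun b hb => subset_closure hb
  haveI hMn : M.Normal := ⟨fun x hx g => H1.map_conj_le_iff.1 (by
    rw [MonoidHom.map_closure, closure_le]
    rintro _ ⟨b, hb, rfl⟩
    exact hM _ (Inv.conj hb g)) x hx⟩
  have hC : 𝐂(M) = ⊥ := eq_bot_of_odd hO inferInstance (odd_of_no_inv fun z hz h1 => by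
    obtain ⟨g, rfl⟩ := h.isConj h1 hb0
    exact hnc (Normal.conj_mem inferInstance z hz g _ (hM _ ha0)))
  have hodd : ∀ K, K ⊲ M → Odd 𝐨(K) → K = ⊥ := fun K hK ho => by
    have h1 := le_Od hK ho
    rwa [eq_bot_of_odd hO (normalizer_eq_top_iff.1 (eq_top_iff.2
      (le_normalizer_of_normal.trans (norm_le_norm_Od M)))) (odd_Od _), le_bot_iff] at h1
  have key : ∀ K : Subgroup G, K ⊲ M → K ≠ ⊥ → K = M := fun K => by
    induction K using H1.subgroup_strong_induction with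
    | _ K ih =>
    intro hK hK1
    refine le_antisymm hK.1 ((closure_le _).2 fun c hc => ?_)
    by_cases hR : Rk2 K
    · obtain ⟨a, aK, b, bK, ha, hb, hne, hab⟩ := hR
      obtain ⟨P, hP⟩ := (IsPGroup.of_card (p := 2) (n := 2) (card_kl ha hb hab hne)).exists_le_sylow
      have hel := P7.elem_of_four (h.sq h2) P.isPGroup'
      haveI := hel.1
      have hPM : (P : Subgroup G) ≤ M := fun x hx => by
        by_cases x1 : x = 1
        · rw [x1]; exact one_mem _
        · exact hM x ⟨x1, by rw [← pow_two, hel.2 x hx]⟩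
      obtain ⟨m, hm, e⟩ := ((isSyl_top_coe Nat.prime_two P).of_le hPM le_top).exists_conj_le
        Nat.prime_two (Inv.isPGroup hc) (zpowers_le.2 (hM c hc))
      refine (mem_normalizer_iff.1 (hK.2 hm) c).2 ?_
      have hc' := Inv.conj hc m
      have cP : m * c * m⁻¹ ∈ (P : Subgroup G) := e (mem_map_of_mem _ (mem_zpowers c))
      by_cases hac : a = m * c * m⁻¹
      · exact hac ▸ aK
      have hcm : Commute a (m * c * m⁻¹) :=
        setLike_mul_comm (hP (mem_sup_left (mem_zpowers a))) cP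
      obtain ⟨g, hg⟩ := h (kl a b) (kl a (m * c * m⁻¹))
        (by rw [card_kl ha hb hab hne, card_kl ha hc' hcm hac])
        (Or.inr (Or.inr (card_kl ha hb hab hne)))
      have h3 : kl a (m * c * m⁻¹) ≤ K ^ᵍ g := hg ▸ map_mono (kl_le aK bK)
      have h4 : M ^ᵍ g = M := H1.map_conj_eq_self_iff.2 (le_normalizer_of_normal (mem_top g))
      have h5 : K ≤ K ^ᵍ g := by
        by_contra h6
        have h7 := ih (K ⊓ K ^ᵍ g) (inf_lt_left.2 h6) ⟨inf_le_left.trans hK.1,
          H1.le_normalizer_inf hK.2 (by rw [← h4, H1.normalizer_map_conj]; exact map_mono hK.2)⟩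
          fun e => ha.ne (mem_bot.1 (e ▸ ⟨aK, h3 (mem_sup_left (mem_zpowers a))⟩))
        exact h6 (hK.1.trans (h7.ge.trans inf_le_right))
      rw [H1.eq_of_le_of_card_le h5 (card_conj K g).le]
      exact h3 (mem_sup_right (mem_zpowers _))
    exfalso
    obtain ⟨a, aK, ha⟩ := exists_inv_of_even (X := K) fun ho => hK1 (hodd K hK ho)
    have hu : ∀ b ∈ K, Inv b → Commute a b → b = a := fun b hb h1 h3 => by
      by_contra hne
      exact hR ⟨a, aK, b, hb, ha, h1, Ne.symm hne, h3⟩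
    have hO' : pPrimeCore 2 K = ⊥ := (map_eq_bot_iff_of_injective _ K.subtype_injective).1
      (hodd (Od K) ⟨(Od_normal K).1.trans hK.1, hK.2.trans (norm_le_norm_Od K)⟩ (odd_Od K))
    have h3 : ∀ k ∈ K, Commute a k := fun k hk => by
      have h4 := P1.brauer_suzuki (t := (⟨a, aK⟩ : K))
        ((Subgroup.orderOf_coe _).symm.trans ha.orderOf_eq) (fun s hs hc => Subtype.ext (hu s s.2
          (inv_of_orderOf ((Subgroup.orderOf_coe _).trans hs)) (congrArg Subtype.val hc))) ⟨k, hk⟩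
      rw [hO', mem_bot, commutatorElement_eq_one_iff_commute] at h4
      exact congrArg Subtype.val h4
    refine ha.ne (mem_bot.1 (hC ▸ fun m hm => ?_))
    have h4 := (mem_normalizer_iff.1 (hK.2 hm) a).1 aK
    exact mul_inv_eq_iff_eq_mul.1 (hu _ h4 (ha.conj m) (h3 _ h4))
  haveI : Nontrivial M := ⟨⟨⟨a0, hM _ ha0⟩, 1, fun e => ha0.ne (congrArg Subtype.val e)⟩⟩
  refine ⟨M, hMn, ⟨fun K hK => or_iff_not_imp_left.2 fun h1 => map_injective M.subtype_injective
    ?_⟩, fun _ => hnc (setLike_mul_comm (hM _ ha0) (hM _ hb0)), hC⟩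
  rw [← MonoidHom.range_eq_map, range_subtype]
  exact key _ ⟨map_subtype_le K, H2.le_normalizer_map_subtype K⟩
    fun e => h1 ((map_eq_bot_iff_of_injective _ M.subtype_injective).1 e)

theorem C4.of_eac (h : C4 G) (h2 : Rk2 (⊤ : Subgroup G)) {M : Subgroup G} [M.Normal]
    (hM : ∀ b : G, Inv b → b ∈ M) (hC : 𝐂(M) = ⊥) (hs : IsSimpleGroup M)
    (hna : ¬ IsMulCommutative M) (eac : L.EAC M) (h8 : 8 ∣ 𝐨(M)) :
    Nonempty (G ≃* Matrix.ProjectiveSpecialLinearGroup (Fin 2) (GaloisField 2 3)) ∨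
      Nonempty (G ≃* MulAut (Matrix.ProjectiveSpecialLinearGroup (Fin 2) (GaloisField 2 5))) := by
  have hi : ∀ (b : G) (hb : Inv b), Inv (⟨b, hM b hb⟩ : M) := fun b hb =>
    ⟨fun e => hb.ne (congrArg Subtype.val e), Subtype.ext hb.sq⟩
  have hT : TI2 G := ⟨P7.sq_of_four (h.sq h2), fun {t a b} ht ha hb h1 h3 => congrArg Subtype.val
    (L.commute_of_sq_eq_one (eac.sq_of_mem (hi t ht).ne (hi t ht).sq) (a := ⟨a, hM a ha⟩)
      (b := ⟨b, hM b hb⟩) (L.mem_cent_iff.2 (Subtype.ext h1))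
      (L.mem_cent_iff.2 (Subtype.ext h3)))⟩
  have ⟨a, _, _, _, ha, _⟩ := h2
  obtain ⟨P, hP⟩ := ha.isPGroup.exists_le_sylow
  obtain ⟨D, n, f, s⟩ := h.exists_st h2 P (hP (mem_zpowers _)) ha.ne
  have hPM : (P : Subgroup G) ≤ M := fun x hx => by
    by_cases x1 : x = 1
    · rw [x1]; exact one_mem _
    · exact hM x (hT.inv P hx x1)
  let t : M := ⟨a, hM a ha⟩
  have hCt : 𝐂[t] = (P : Subgroup G).subgroupOf M := Subgroup.ext fun x => by
    rw [L.mem_cent_iff, mem_subgroupOf]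
    exact ⟨fun hx => hT.mem P s.mem s.ne (congrArg Subtype.val (eac t x (hi a ha).ne (hi a ha).sq
      hx)) (congrArg Subtype.val hx), fun hx => Subtype.ext (hT.commute P.isPGroup' s.mem hx)⟩
  have hc : 𝐨(𝐂[t]) = 2 ^ n := by
    rw [hCt, ← s.card]; exact Nat.card_congr (subgroupOfEquivOfLe hPM).toEquiv
  obtain ⟨u, hu, hnc⟩ : ∃ u, u * u = 1 ∧ ¬ Commute t u := by
    by_contra! hc
    rcases hs.eq_bot_or_eq_top_of_normal 𝐂[t] ⟨fun x hx g => L.mem_cent_iff.2
      (hc _ (conj_sq (eac.sq_of_mem (hi a ha).ne (hi a ha).sq x hx)))⟩ with e | e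
    · exact (hi a ha).ne (mem_bot.1 (e ▸ self_mem_cent1 t))
    · exact hna ⟨⟨fun x y => L.commute_of_sq_eq_one
        (eac.sq_of_mem (hi a ha).ne (hi a ha).sq) (e ▸ mem_top x) (e ▸ mem_top y)⟩⟩
  obtain ⟨m, h3, h4, h5, -, ⟨e2⟩⟩ := eac.exists_galoisField (hi a ha).ne (hi a ha).sq hu hnc (by
      rw [hc]; rcases s.cases with ⟨rfl, -⟩ | ⟨rfl, -⟩ | ⟨rfl, -⟩ | ⟨rfl, -⟩ <;> norm_num)
  obtain rfl : m = n := Nat.pow_right_injective le_rfl (h4.symm.trans hc)
  have hE : EA2 t u m := ⟨eac, (hi a ha).ne, (hi a ha).sq, hu, hnc, h3, h4, h5⟩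
  let c : G →* MulAut M := MulAut.conjNormal
  have hci : Function.Injective c := (injective_iff_map_eq_one c).2 fun g hg =>
    mem_bot.1 (hC ▸ fun x hx => (mul_inv_eq_iff_eq_mul.1 (congrArg (fun σ : MulAut M =>
      (σ ⟨x, hx⟩ : G)) hg)).symm)
  have hW : D ⊓ 𝐂((P : Subgroup G)) = ⊥ := eq_bot_iff.2 fun w hw => by
    obtain ⟨r, hr, e⟩ := hE.exists_conj (σ := c w) fun x hx => Subtype.ext (by
      rw [hCt] at hx
      exact mul_inv_eq_iff_eq_mul.2 (hw.2 x hx).symm)
    rw [hCt] at hr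
    rw [← s.inf]
    exact ⟨hw.1, hci (a₁ := w) (a₂ := r) (e.trans (MulEquiv.ext fun _ => rfl)) ▸ hr⟩
  have hR := s.cardR
  rw [hW, card_bot, one_mul] at hR
  have hCa : 𝐨(𝐂[a]) = f * 2 ^ m := by
    have h6 : 𝐂[a] ≤ D ⊔ P := s.sup ▸ fun g hg => hT.mem_norm P s.mem s.ne (by
      rw [← hg a rfl, mul_inv_cancel_right]; exact s.mem)
    rw [← inf_eq_left.2 h6, H1.dedekind_right s.le fun x hx => L.mem_cent_iff.2
      (hT.commute P.isPGroup' s.mem hx), H1.card_sup_of_inf_eq_bot (inf_le_right.trans s.le)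
      (by rw [inf_assoc, s.inf, inf_bot_eq]), hR, s.card]
  have hG : Nat.card G = 𝐨(M) * f := by
    have h6 : {x | IsConj a x} = Subtype.val '' {x | IsConj t x} := Set.ext fun x => by
      refine ⟨fun hx => ?_, by rintro ⟨y, hy, rfl⟩; exact M.subtype.map_isConj hy⟩
      obtain ⟨g, rfl⟩ := isConj_iff.1 hx
      exact ⟨_, hE.isConj (hi _ (ha.conj g)).ne (hi _ (ha.conj g)).sq, rfl⟩
    rw [← L.ncard_isConj_mul_card_centralizer a, h6, Set.ncard_image_of_injective _
      Subtype.val_injective, hE.ncard_class, hCa, h5]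
    ring
  rcases s.cases with ⟨rfl, rfl⟩ | ⟨rfl, rfl⟩ | ⟨rfl, rfl⟩ | ⟨rfl, rfl⟩
  · exact absurd (h5 ▸ h8) (by norm_num)
  · exact Or.inl ⟨(topEquiv.symm.trans (MulEquiv.subgroupCongr (H1.eq_of_le_of_card_le le_top
      (by rw [card_top, hG, mul_one])).symm)).trans e2⟩
  · exfalso
    haveI : Fact (Nat.Prime 3) := ⟨Nat.prime_three⟩
    obtain ⟨⟨x, hx⟩, ho⟩ := exists_prime_orderOf_dvd_card' (G := M) 3 (by rw [h5]; norm_num)
    rw [← Subgroup.orderOf_coe] at ho
    obtain ⟨g, hg⟩ := h (zpowers x) (𝐂[a] ⊓ D) (by rw [Nat.card_zpowers, ho, hR])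
      (by rw [Nat.card_zpowers, ho]; simp)
    have h6 : 𝐂[a] ⊓ D ≤ M := hg ▸ H1.map_conj_le_of_mem_normalizer (zpowers_le.2 hx)
      (le_normalizer_of_normal (mem_top g))
    have h7 : 𝐂[a] ⊓ D = ⊥ := eq_bot_iff.2 fun y hy => by
      have h8 : (⟨y, h6 hy⟩ : M) ∈ 𝐂[t] := L.mem_cent_iff.2 (Subtype.ext (hy.1 a rfl))
      rw [hCt] at h8
      exact s.inf ▸ ⟨hy.2, h8⟩
    rw [h7, card_bot] at hR
    omega
  · haveI : Finite (MulAut M) := Finite.of_injective _ DFunLike.coe_injective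
    exact Or.inr ⟨(MulEquiv.ofBijective c
      (hci.bijective_of_nat_card_le (hG ▸ hE.card_aut_le))).trans (MulAut.congr e2)⟩

/-- `p`-subgroups of the same order are conjugate. -/
def PC (G : Type u) [Group G] : Prop := ∀ p : ℕ, p.Prime → ∀ H K : Subgroup G,
  IsPGroup p H → IsPGroup p K → 𝐨(H) = 𝐨(K) → ∃ g : G, K = H ^ᵍ g

namespace PC

variable (h : PC G)
include h

theorem c4 : C4 G := by
  rintro A B e (h1 | h1 | h1)
  · exact h 2 Nat.prime_two A B (.of_card (n := 1) h1) (.of_card (n := 1) (e ▸ h1)) e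
  · exact h 3 Nat.prime_three A B (.of_card (n := 1) h1) (.of_card (n := 1) (e ▸ h1)) e
  · exact h 2 Nat.prime_two A B (.of_card (n := 2) h1) (.of_card (n := 2) (e ▸ h1)) e

theorem quot (N : Subgroup G) [N.Normal] : PC (G ⧸ N) := fun p hp H K hH hK e => by
  have hf := QuotientGroup.mk'_surjective N
  obtain ⟨A, hA⟩ := exists_isSyl hp (H.comap (QuotientGroup.mk' N))
  obtain ⟨B, hB⟩ := exists_isSyl hp (K.comap (QuotientGroup.mk' N))
  obtain ⟨g, hg⟩ := h p hp A B hA.pgrp hB.pgrp (by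
    rw [hA.card_eq_pow_factorization hp, hB.card_eq_pow_factorization hp, L.card_comap_mk',
      L.card_comap_mk', e])
  refine ⟨QuotientGroup.mk' N g, ?_⟩
  rw [← map_of_isSyl hf hp hH hA, ← map_of_isSyl hf hp hK hB, hg, map_map, map_map]
  congr 1

theorem mem_of_prime {M : Subgroup G} [M.Normal] {r : ℕ} (hr : r.Prime) (hM : r ∣ 𝐨(M)) {φ : G}
    (hφ : orderOf φ = r) : φ ∈ M := by
  obtain ⟨x, hx, ho⟩ := exists_mem_orderOf_eq_prime hr hM
  obtain ⟨g, hg⟩ := h r hr (zpowers x) (zpowers φ)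
    (.of_card (n := 1) (by rw [Nat.card_zpowers, ho, pow_one]))
    (.of_card (n := 1) (by rw [Nat.card_zpowers, hφ, pow_one]))
    (by rw [Nat.card_zpowers, Nat.card_zpowers, ho, hφ])
  exact H1.map_conj_le_of_mem_normalizer (zpowers_le.2 hx) (le_normalizer_of_normal (mem_top g))
    (hg ▸ mem_zpowers φ)

theorem eq_top_of_J1 {M : Subgroup G} [M.Normal] (hC : 𝐂(M) = ⊥) (hs : IsSimpleGroup M)
    (hna : ¬ IsMulCommutative M) (ho : Odd M.index) (hc : 𝐨(M) = 175560) : M = ⊤ := by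
  by_contra hne
  haveI := QuotientGroup.nontrivial_iff.2 hne
  haveI := feit_thompson (G ⧸ M) ho
  have h1 : commutator G ≠ ⊤ := fun e => (Group.IsSolvable.commutator_lt_top_of_nontrivial
    (G ⧸ M)).ne (by
      rw [commutator_def, ← map_top_of_surjective _ (QuotientGroup.mk'_surjective M),
        ← map_commutator, ← commutator_def, e])
  have hMG : M ≤ commutator G := by
    have h2 := (hs.eq_bot_or_eq_top_of_normal (commutator M) inferInstance).resolve_left
      fun e => hna ((commutator_eq_bot_iff M).1 e)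
    rw [← range_subtype M, MonoidHom.range_eq_map, ← h2, map_subtype_commutator]
    exact commutator_mono le_top le_top
  obtain ⟨r, hr, hd⟩ := Nat.exists_prime_and_dvd (index_eq_one.not.2 h1)
  haveI := Fact.mk hr
  have r2 : r ≠ 2 := by
    rintro rfl
    exact Nat.not_even_iff_odd.2 ho (even_iff_two_dvd.2 (hd.trans (index_dvd_of_le hMG)))
  have hsyl : ∀ p, p.Prime → ∀ X ≤ M, IsPGroup p X →
      (p = 2 ∧ 𝐨(X) ≤ 8) ∨ (𝐨(X) ≤ p ∧ (𝐨(X) ≤ 11 ∨ 𝐨(X) = 19)) := fun p hp X hX h1 => by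
    haveI := Fact.mk hp
    obtain ⟨k, hk⟩ := h1.exists_card_eq
    have h2 := Subgroup.card_dvd_of_le hX
    rw [hc, hk] at h2
    have key : ∀ j, ¬ p ^ (j + 1) ∣ 175560 → p ^ k ≤ p ^ j := fun j hj =>
      Nat.pow_le_pow_right hp.pos (Nat.le_of_lt_succ (not_le.1 fun e =>
        hj ((pow_dvd_pow p e).trans h2)))
    rw [hk]
    rcases k with _ | k
    · exact Or.inr ⟨hp.pos, Or.inl (by norm_num)⟩
    have h3 : p ∣ 2 ^ 3 * 3 * 5 * 7 * 11 * 19 := (dvd_pow_self p k.succ_ne_zero).trans h2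
    simp only [hp.dvd_mul, Nat.prime_dvd_prime_iff_eq hp, Nat.prime_three, Nat.prime_five,
      Nat.prime_seven, Nat.prime_eleven, (by norm_num : Nat.Prime 19)] at h3
    rcases h3 with ((((h3 | rfl) | rfl) | rfl) | rfl) | rfl
    · obtain rfl := (Nat.prime_dvd_prime_iff_eq hp Nat.prime_two).1 (hp.dvd_of_dvd_pow h3)
      exact Or.inl ⟨rfl, key 3 (by norm_num)⟩
    iterate 4 exact Or.inr ⟨key 1 (by norm_num), Or.inl ((key 1 (by norm_num)).trans (by norm_num))⟩
    exact Or.inr ⟨key 1 (by norm_num), Or.inr (le_antisymm (key 1 (by norm_num))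
      (Nat.le_self_pow k.succ_ne_zero _))⟩
  by_cases hrM : r ∣ 𝐨(M)
  · obtain ⟨R⟩ : Nonempty (Sylow r G) := inferInstance
    have key : ∀ H : Subgroup R, 𝐨(H) = r → H = M.subgroupOf R := fun H hH => by
      refine H1.eq_of_le_of_card_le (fun x hx => ?_) ?_
      · by_cases x1 : x = 1
        · rw [x1]; exact one_mem _
        have h2 := H.orderOf_dvd_natCard hx
        rw [hH] at h2
        exact h.mem_of_prime hr hrM ((Subgroup.orderOf_coe x).trans (((Nat.dvd_prime hr).1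
          h2).resolve_left (orderOf_eq_one_iff.not.2 x1)))
      · rw [hH, ← card_map_of_injective (f := (R : Subgroup G).subtype) (subtype_injective _),
          subgroupOf_map_subtype]
        exact ((hsyl r hr _ inf_le_left R.isPGroup'.to_inf_right).resolve_left
          fun e => r2 e.1).1
    haveI := H3.isCyclic_of_unique r2 R.isPGroup' fun H K hH hK =>
      (key H hH).trans (key K hK).symm
    exact R.not_dvd_card_commutator_or_not_dvd_index_commutator.elim
      (fun e => e (hrM.trans (Subgroup.card_dvd_of_le hMG))) fun e => e hd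
  obtain ⟨φ, hφ⟩ := exists_prime_orderOf_dvd_card' (G := G) r (hd.trans (index_dvd_card _))
  have h13 : 13 ≤ r := by
    by_contra! h13
    rw [hc] at hrM
    interval_cases r <;> first | omega | norm_num at hr
  have h5 : M ≤ 𝐂(zpowers φ) := le_of_forall_exists_isSyl_le fun p hp _ => by
    obtain ⟨P, hP, -, hn⟩ := exists_invariant_isSyl hp (A := zpowers φ) (K := M) (Q := ⊥)
      le_normalizer_of_normal (by
        rw [Nat.card_zpowers, hφ]; exact (Nat.Prime.coprime_iff_not_dvd hr).2 hrM)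
      (Or.inl (Inv.solv φ)) IsPGroup.of_bot bot_le le_normalizer_of_normal
    refine ⟨P, hP, inf_eq_left.1 (H1.eq_of_le_of_card_le inf_le_left ?_)⟩
    have h6 := H2.card_modEq_card_inf_centralizer (p := r) (P := zpowers φ)
      (.of_card (n := 1) (by rw [Nat.card_zpowers, hφ, pow_one])) hn
    have h7 := Subgroup.card_dvd_of_le (inf_le_left : P ⊓ 𝐂(zpowers φ) ≤ P)
    have h8 := (Nat.modEq_iff_dvd' (Nat.le_of_dvd Nat.card_pos h7)).1 h6.symm
    have h9 : 0 < 𝐨((P ⊓ 𝐂(zpowers φ) : Subgroup G)) := Nat.card_pos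
    by_contra! h10
    have h11 := Nat.le_of_dvd (by omega) h8
    rcases hsyl p hp P hP.le hP.pgrp with ⟨-, e⟩ | ⟨-, e | e⟩
    · omega
    · omega
    rw [e] at h7 h8 h10
    rw [((Nat.dvd_prime (by norm_num)).1 h7).resolve_right h10.ne] at h8
    have h12 := Nat.le_of_dvd (by norm_num) h8
    interval_cases r <;> first | omega | norm_num at hr
  have h6 := le_centralizer_iff.1 h5 (mem_zpowers φ)
  rw [hC, mem_bot] at h6
  exact hr.ne_one (by rw [← hφ, h6, orderOf_one])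

end PC

end Cfsg.Agent.Cj
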