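/-
Groups in which `p`-subgroups of equal order are conjugate: the classification modulo `O(G)`.
-/
import Cfsg.Agent.Cj.App3

set_option autoImplicit false
set_option linter.unusedSectionVars false
set_option linter.style.haveILetI false

namespace Cfsg.Agent.Cj

open Subgroup Cfsg Cfsg.Agent Cfsg.Agent.FT Cfsg.Agent.P6
open scoped IsMulCommutative commutatorElement

universe u

variable {G : Type u} [Group G] [Finite G]

theorem exists_DC_SL2 {F : Type*} [Field F] (h2 : (2 : F) ≠ 0) :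
    ∃ w, DC (QuotientGroup.mk' (center (Matrix.SpecialLinearGroup (Fin 2) F))) w := by
  classical
  have hc := P3.card_center_SL2 h2
  obtain ⟨w, w1, hw⟩ := (Nat.card_eq_two_iff' 1).1 hc
  have h1 : ∀ g ∈ center (Matrix.SpecialLinearGroup (Fin 2) F), g = 1 ∨ g = w := fun g hg =>
    or_iff_not_imp_left.2 fun g1 => congrArg Subtype.val
      (hw ⟨g, hg⟩ fun e => g1 (congrArg Subtype.val e))
  refine ⟨w, QuotientGroup.mk'_surjective _, fun e => w1 (Subtype.ext e), ?_,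
    (QuotientGroup.eq_one_iff _).2 w.2, fun g hg => h1 g ((QuotientGroup.eq_one_iff _).1 hg),
    fun g hg => h1 g (P7.mem_center_of_sq h2 hg)⟩
  have h3 := pow_card_eq_one' (x := w)
  rw [hc, pow_two] at h3
  exact congrArg Subtype.val h3

theorem DC.equiv_of_same {H X Y : Type*} [Group H] [Group X] [Group Y] {π : H →* X} {ρ : H →* Y}
    {z w : H} (h : DC π z) (h' : DC ρ w) : Nonempty (X ≃* Y) := by
  obtain rfl : w = z := (h.uniq w h'.sq).resolve_left h'.ne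
  have e : π.ker = ρ.ker := Subgroup.ext fun g => ⟨fun hg => by
    rcases h.ker g hg with rfl | rfl
    exacts [one_mem _, h'.map], fun hg => by
    rcases h'.ker g hg with rfl | rfl
    exacts [one_mem _, h.map]⟩
  exact ⟨((QuotientGroup.quotientKerEquivOfSurjective π h.surj).symm.trans
    (QuotientGroup.quotientMulEquivOfEq e)).trans
    (QuotientGroup.quotientKerEquivOfSurjective ρ h'.surj)⟩

theorem nonempty_A4_equiv : Nonempty (alternatingGroup (Fin 4) ≃*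
    Matrix.ProjectiveSpecialLinearGroup (Fin 2) (ZMod 3)) := by
  have h2 : (2 : ZMod 3) ≠ 0 := by decide
  haveI := Fact.mk Nat.prime_three
  obtain ⟨ρ, w, h⟩ := exists_DC_SL23
  obtain ⟨z, h'⟩ := exists_DC_SL2 h2
  exact h.equiv_of_same h'

/-- `G ≅ PSL₂(p)` or `PSL₂(p³)` with `p ≡ ±3 (mod 8)`. -/
def LP (G : Type u) [Group G] : Prop := ∃ (p : ℕ) (_ : Fact p.Prime), (p % 8 = 3 ∨ p % 8 = 5) ∧
  (Nonempty (G ≃* Matrix.ProjectiveSpecialLinearGroup (Fin 2) (ZMod p)) ∨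
    Nonempty (G ≃* Matrix.ProjectiveSpecialLinearGroup (Fin 2) (GaloisField p 3)))

theorem PC.l2 (hA : P7.L2Api.{u}) (h4 : P7.L2Four.{u}) (h : PC G) {M : Subgroup G} [M.Normal]
    (hC : 𝐂(M) = ⊥) (ho : Odd M.index) {q : ℕ} (hL : P7.IsL2 M q) : LP G := by
  obtain ⟨s, hs, s0, hs0, hV⟩ := h4 G M q hL
  obtain ⟨F⟩ := hA G ⊤ M 1 q s s0 ⟨hL, ⟨le_top, le_normalizer_of_normal⟩, one_mul 1,
    by rw [hC, inf_bot_eq, zpowers_one_eq_bot],
    by rwa [zpowers_one_eq_bot, sup_bot_eq, relIndex_top_right]⟩ hV hs hs0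
  set Φ := P7.Phi ⊤ s s0
  have hp := F.hp
  haveI := Fact.mk hp
  have hq := F.hq
  have h5 := F.five
  have hn0 : F.n ≠ 0 := fun e => by simpa [e] using F.oddn
  have hcop : ∀ r, r.Prime → r ∣ 𝐨(M) → ¬ r ∣ 𝐨(Φ) := fun r hr h1 h2 => by
    obtain ⟨φ, hφ, e⟩ := exists_mem_orderOf_eq_prime hr h2
    exact hr.ne_one (by rw [← e, F.disj φ hφ (mem_sup_left (h.mem_of_prime hr h1 e)), orderOf_one])
  have hdec : ∀ g, ∃ a ∈ M, ∃ φ ∈ Φ, g = a * φ := fun g => by
    simpa only [one_mul, or_self] using F.dec g (mem_top g)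
  have hpq : F.p ∣ q := (dvd_pow_self _ hn0).trans hq.symm.dvd
  have ep : P7.Ep q F.k F.l := ⟨F.oddk, F.eps.imp (fun h => ⟨h.1, h.2.1⟩) fun h => ⟨h.1, h.2.1⟩⟩
  have hn : F.n = 1 ∨ F.n = 3 := by
    by_contra hn
    obtain ⟨m, hm⟩ : ∃ m, F.n = m + 5 := ⟨F.n - 5, by have := Nat.odd_iff.1 F.oddn; omega⟩
    have hsyl : IsSyl F.p F.P ⊤ := by
      refine IsSyl.trans hp (K := M) ⟨F.PL, .of_card (F.cardP.trans hq), fun e => ?_⟩ le_top
        fun e => hcop _ hp (F.cardL ▸ hpq.mul_left _) (e.trans ?_)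
      · have h1 := H1.card_mul_relIndex F.PL
        rw [F.cardP, F.cardL, mul_comm] at h1
        rw [Nat.eq_of_mul_eq_mul_right (by omega) h1] at e
        exact hp.ne_one (Nat.eq_one_of_dvd_coprimes (ep.cop_qk.mul_right ep.cop_ql) hpq e)
      · rw [show (⊤ : Subgroup G) = Φ ⊔ M from (eq_top_iff.2 fun g _ => by
          obtain ⟨a, ha, φ, hφ, rfl⟩ := hdec g
          exact mul_mem (mem_sup_right ha) (mem_sup_left hφ)).symm, relIndex_sup_right]
        exact relIndex_dvd_card _ _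
    obtain ⟨P, hP⟩ := hsyl.exists_sylow_top hp
    haveI := F.eaP.1
    haveI : IsMulCommutative (P : Subgroup G) := hP ▸ F.eaP.1
    have hext : ∀ u ∈ F.P, ∀ v ∈ F.P, ∃ B ≤ F.P, 𝐨(B) = F.p ^ 2 ∧ u ∈ B ∧ v ∈ B := by
      intro u hu v hv
      have h1 : ∀ x : F.P, 𝐨(zpowers x) ∣ F.p := fun x => by
        rw [Nat.card_zpowers]
        exact orderOf_dvd_of_pow_eq_one (Subtype.ext (F.eaP.2 x x.2))
      obtain ⟨j, hj, e⟩ := (Nat.dvd_prime_pow hp).1 (((H1.card_sup_dvd (A := zpowers (⟨u, hu⟩ : F.P))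
        (N := zpowers ⟨v, hv⟩) le_normalizer_of_normal).trans (mul_dvd_mul (h1 _) (h1 _))).trans
        (pow_two F.p).symm.dvd)
      obtain ⟨B, hB, hle⟩ := Sylow.exists_subgroup_card_pow_prime_le F.p (m := 2)
        ((pow_dvd_pow _ (by omega)).trans (F.cardP.trans hq).symm.dvd) _ e hj
      exact ⟨B.map F.P.subtype, map_subtype_le B,
        (card_map_of_injective F.P.subtype_injective).trans hB,
        ⟨_, hle (mem_sup_left (mem_zpowers _)), rfl⟩, ⟨_, hle (mem_sup_right (mem_zpowers _)), rfl⟩⟩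
    obtain ⟨A, hAP, hA2, -⟩ := hext 1 (one_mem _) 1 (one_mem _)
    have hH : F.H ≤ 𝐍(F.P) := le_sup_right.trans (F.normP.ge.trans inf_le_right)
    have key : ∀ x : F.P × F.P, ∃ y : F.H × Φ × A × A,
        (y.1 * y.2.1 * y.2.2.1 * (y.1 * y.2.1 : G)⁻¹ : G) = x.1 ∧
        (y.1 * y.2.1 * y.2.2.2 * (y.1 * y.2.1 : G)⁻¹ : G) = x.2 := fun x => by
      obtain ⟨B, hBP, hB2, h1, h2⟩ := hext _ x.1.2 _ x.2.2
      obtain ⟨g, hg⟩ := h _ hp A B (.of_card hA2) (.of_card hB2) (hA2.trans hB2.symm)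
      obtain ⟨g, hgn, rfl⟩ := S4025.fusion P (hP ▸ hAP) (hP ▸ hBP) hg
      rw [hP] at hgn
      obtain ⟨a, ha, φ, hφ, rfl⟩ := hdec g
      obtain ⟨d, hd, w, hw, rfl⟩ := (H1.mem_sup_iff_of_le_normalizer hH).1
        ((sup_comm F.P F.H).le (F.normP.le ⟨ha, (mul_mem_cancel_right (F.FP hφ)).1 hgn⟩))
      have h3 : ∀ y ∈ A, d * φ * y * (d * φ)⁻¹ = MulAut.conj (d * w * φ) y := fun y hy => by
        have h6 := setLike_mul_comm hw ((mem_normalizer_iff.1 (F.FP hφ) y).1 (hAP hy))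
        calc _ = d * (φ * y * φ⁻¹ * w * w⁻¹) * d⁻¹ := by group
          _ = _ := by rw [← h6, MulAut.conj_apply]; group
      obtain ⟨y, hy, e1⟩ := h1
      obtain ⟨z, hz, e2⟩ := h2
      exact ⟨(⟨d, hd⟩, ⟨φ, hφ⟩, ⟨y, hy⟩, ⟨z, hz⟩), (h3 y hy).trans e1, (h3 z hz).trans e2⟩
    choose k hk1 hk2 using key
    have h6 := Nat.card_le_card_of_injective k fun x y e => Prod.ext
      (Subtype.ext ((hk1 x).symm.trans (e ▸ hk1 y))) (Subtype.ext ((hk2 x).symm.trans (e ▸ hk2 y)))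
    simp only [Nat.card_prod] at h6
    rw [F.cardP, hA2] at h6
    have h7 : 2 * 𝐨(F.H) < q := by
      rcases F.eps with ⟨e1, -, e2⟩ | ⟨-, e1, e2⟩
      · have h8 := Nat.le_of_dvd (mul_pos Nat.card_pos Nat.card_pos) (H1.card_sup_dvd
          (A := P7.R0 M s) (N := zpowers s) (H1.le_normalizer_of_le_centralizer (by
            rintro x hx _ ⟨j, rfl⟩
            exact (L.mem_cent_iff.1 (H2.pPrimeCoreOf_le 2 _ hx).2).zpow_left j)))
        rw [← e2, F.cardR, Inv.card_zpowers ⟨hV.t1, hV.tt⟩] at h8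
        omega
      · rw [e2, F.cardT]; omega
    have h8 := Nat.le_of_dvd (by omega) F.dvd
    have h9 : m < F.p ^ m := Nat.lt_pow_self hp.one_lt
    have h10 : 3 ≤ F.p := by have := hp.two_le; have := F.p2; omega
    have h11 : q = F.p ^ m * F.p * (F.p ^ 2 * F.p ^ 2) := hq.trans (by rw [hm]; ring)
    have h12 : 0 < F.p ^ 2 * F.p ^ 2 := by positivity
    change 𝐨(Φ) ≤ _ at h8
    generalize F.p ^ 2 * F.p ^ 2 = c at h6 h11 h12
    have h13 : 𝐨(Φ) ≤ 2 * (F.p ^ m * F.p) := by nlinarith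
    have h14 : 𝐨(F.H) * (𝐨(Φ) * c) ≤ 𝐨(F.H) * (2 * q) := Nat.mul_le_mul_left _ (by
      rw [h11, ← mul_assoc]; exact Nat.mul_le_mul_right c h13)
    nlinarith
  have hΦ : Φ = ⊥ := card_eq_one.1 (((Nat.dvd_prime Nat.prime_three).1 (F.dvd.trans (by
    rcases hn with e | e <;> simp [e]))).resolve_right fun e => hcop 3 Nat.prime_three (by
      refine (Nat.Coprime.dvd_mul_left (m := 2) (by norm_num)).1 ?_
      rw [two_mul_card_L2 hL]
      have : q % 3 = 0 ∨ q % 3 = 1 ∨ q % 3 = 2 := by omega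
      rcases this with e | e | e
      · exact ((Nat.dvd_of_mod_eq_zero e).mul_right _).mul_right _
      · exact (Dvd.dvd.mul_left (by omega) _).mul_right _
      · exact Dvd.dvd.mul_left (by omega) _) e.symm.dvd)
  have hM : M = ⊤ := eq_top_iff.2 fun g _ => by
    obtain ⟨a, ha, φ, hφ, rfl⟩ := hdec g
    rw [hΦ, mem_bot] at hφ
    rwa [hφ, mul_one]
  obtain ⟨K, _, _, hK, ⟨e⟩⟩ := hL.iso
  have e' := (topEquiv.symm.trans (MulEquiv.subgroupCongr hM.symm)).trans e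
  have hm := hL.mod
  rcases hn with e1 | e1 <;> rw [e1] at hq
  · rw [pow_one] at hq
    obtain ⟨e2⟩ := P3.nonempty_PSL2_equiv_of_ringEquiv (FiniteField.ringEquivOfCardEq
      (K := K) (K' := ZMod F.p) (by rw [hK, ZMod.card]; exact hq))
    exact ⟨F.p, inferInstance, hq ▸ hm, Or.inl ⟨e'.trans e2⟩⟩
  · haveI := Fintype.ofFinite (GaloisField F.p 3)
    obtain ⟨e2⟩ := P3.nonempty_PSL2_equiv_of_ringEquiv (FiniteField.ringEquivOfCardEq
      (K := K) (K' := GaloisField F.p 3) (by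
        rw [hK, ← Nat.card_eq_fintype_card, GaloisField.card _ _ (by norm_num)]; exact hq))
    refine ⟨F.p, inferInstance, ?_, Or.inr ⟨e'.trans e2⟩⟩
    replace hm : F.p ^ 3 % 8 = 3 ∨ F.p ^ 3 % 8 = 5 := hq ▸ hm
    rw [Nat.pow_mod] at hm
    have : F.p % 8 < 8 := Nat.mod_lt _ (by norm_num)
    interval_cases F.p % 8 <;> simp_all

theorem PC.elem (hA : P7.L2Api.{u}) (h4 : P7.L2Four.{u}) (hK : P7.K3.{u}) (h : PC G)
    (h2 : Rk2 (⊤ : Subgroup G)) (hO : pPrimeCore 2 G = ⊥) :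
    LP G ∨ (8 ∣ Nat.card G ∧ (Nonempty (G ≃* affineGroup (GaloisField 2 3)) ∨
      Nonempty (G ≃* semiaffineGroup (GaloisField 2 3)) ∨
      Nonempty (G ≃* semiaffineGroup (GaloisField 2 5)) ∨ IsJ1 G ∨
      Nonempty (G ≃* Matrix.ProjectiveSpecialLinearGroup (Fin 2) (GaloisField 2 3)) ∨
      Nonempty (G ≃* MulAut (Matrix.ProjectiveSpecialLinearGroup (Fin 2) (GaloisField 2 5))))) := by
  have hc := h.c4
  have ⟨a, _, _, _, ha, _⟩ := h2
  obtain ⟨P, hP⟩ := ha.isPGroup.exists_le_sylow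
  obtain ⟨D, n, f, s⟩ := hc.exists_st h2 P (hP (mem_zpowers _)) ha.ne
  by_cases hnc : ∃ a b : G, Inv a ∧ Inv b ∧ ¬ Commute a b
  swap
  · push Not at hnc
    have hT : TI2 G := ⟨P7.sq_of_four (hc.sq h2), fun _ ha hb _ _ => hnc _ _ ha hb⟩
    haveI : (P : Subgroup G).Normal := ⟨fun x hx g => by
      by_cases x1 : x = 1
      · simp [x1]
      have := (hT.inv P hx x1).conj g
      exact hT.mem P s.mem s.ne this.sq (hnc _ _ ha this)⟩
    rcases s.normal hT hO with ⟨-, ⟨e⟩⟩ | ⟨hn, e⟩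
    · obtain ⟨e'⟩ := nonempty_A4_equiv
      exact Or.inl ⟨3, ⟨Nat.prime_three⟩, Or.inl rfl, Or.inl ⟨e.trans e'⟩⟩
    refine Or.inr ⟨(pow_dvd_pow 2 hn).trans (s.card ▸ card_subgroup_dvd_card _), ?_⟩
    rcases e with e | e | e <;> simp only [e, true_or, or_true]
  obtain ⟨M, hMn, hs, hna, hC⟩ := hc.exists_simple h2 hO hnc
  obtain ⟨-, hM, hcl⟩ := hc.classify hK M hs hna
  have ho : Odd M.index := Nat.odd_iff.2 (Nat.two_dvd_ne_zero.1 fun e => P.not_dvd_index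
    (e.trans (index_dvd_of_le fun x hx => by
      by_cases x1 : x = 1
      · rw [x1]; exact one_mem _
      · exact hM x ⟨x1, by rw [← pow_two, (P7.elem_of_four (hc.sq h2) P.isPGroup').2 x hx]⟩)))
  rcases hcl with ⟨q, hL⟩ | ⟨h8, he | hJ⟩
  · exact Or.inl (h.l2 hA h4 hC ho hL)
  · refine Or.inr ⟨h8.trans (card_subgroup_dvd_card M), ?_⟩
    rcases hc.of_eac h2 hM hC hs hna he h8 with e | e <;> simp only [e, true_or, or_true]
  · obtain rfl := h.eq_top_of_J1 hC hs hna ho hJ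
    have : IsJ1 G := ⟨topEquiv.symm.isSimpleGroup, card_top.symm.trans hJ⟩
    exact Or.inr ⟨h8.trans (card_subgroup_dvd_card _), by simp only [this, true_or, or_true]⟩

theorem quat_core (h2 : ¬ Rk2 (⊤ : Subgroup G)) (hO : pPrimeCore 2 G = ⊥) :
    (IsCyclic G ∧ IsPGroup 2 G) ∨ ∃ (z : G) (_ : (zpowers z).Normal),
      DC (QuotientGroup.mk' (zpowers z)) z ∧ Rk2 (⊤ : Subgroup (G ⧸ zpowers z)) ∧
      pPrimeCore 2 (G ⧸ zpowers z) = ⊥ ∧
      ((∀ x : G ⧸ zpowers z, x ^ 4 = 1 → x * x = 1) → ¬ 8 ∣ Nat.card (G ⧸ zpowers z)) := by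
  obtain ⟨P⟩ : Nonempty (Sylow 2 G) := inferInstance
  have hu : ∀ {a b : G}, Inv a → Inv b → Commute a b → a = b := fun ha hb hc => by
    by_contra hne
    exact h2 ⟨_, mem_top _, _, mem_top _, ha, hb, hne, hc⟩
  by_cases hcyc : IsCyclic P
  · obtain ⟨Q, N, hN, hc⟩ := H8.hasNPC_two_of_isCyclic P hcyc
    have h1 := eq_bot_of_odd hO hN (hc.index_eq_card ▸
      Nat.odd_iff.2 (Nat.two_dvd_ne_zero.1 Q.not_dvd_index))
    rw [h1, isComplement'_bot_left] at hc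
    have h3 : IsPGroup 2 G := (hc ▸ Q.isPGroup').of_equiv topEquiv
    rw [← P.is_maximal' (h3.to_subgroup ⊤) le_top] at hcyc
    exact Or.inl ⟨isCyclic_of_surjective topEquiv topEquiv.surjective, h3⟩
  right
  obtain ⟨z, zP, hz⟩ := exists_inv_of_even (X := (P : Subgroup G)) fun ho => hcyc (by
    haveI := (Nat.card_eq_one_iff_unique.1 (P.isPGroup'.card_eq_or_dvd.resolve_right
      (Nat.two_dvd_ne_zero.2 (Nat.odd_iff.1 ho)))).1
    infer_instance)
  have hzc : ∀ g, Commute z g := fun g => commutatorElement_eq_one_iff_commute.1 (mem_bot.1 (hO ▸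
    P1.brauer_suzuki hz.orderOf_eq (fun s hs hc => (hu hz (inv_of_orderOf hs) hc).symm) g))
  have hzu : ∀ g : G, g * g = 1 → g = 1 ∨ g = z := fun g hg => or_iff_not_imp_left.2 fun g1 =>
    (hu hz ⟨g1, hg⟩ (hzc g)).symm
  haveI := normal_zpowers_of_uniq hz.sq hzu
  have hD := DC.mk' hz.ne hz.sq hzu
  refine ⟨z, this, hD, ?_⟩
  set π := QuotientGroup.mk' (zpowers z)
  obtain ⟨i, j, hi, hj, hij, hc⟩ : ∃ i j : G, Inv (π i) ∧ Inv (π j) ∧ π i ≠ π j ∧
      Commute (π i) (π j) := by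
    obtain ⟨k, hk, ⟨e⟩⟩ := (H3.isCyclic_or_quaternion_of_unique_involution P.isPGroup'
      fun x y hx hy => Subtype.ext (((hzu x (congrArg Subtype.val (inv_of_orderOf hx).sq)).resolve_left
        fun e => (inv_of_orderOf hx).ne (Subtype.ext e)).trans
        ((hzu y (congrArg Subtype.val (inv_of_orderOf hy).sq)).resolve_left
        fun e => (inv_of_orderOf hy).ne (Subtype.ext e)).symm)).resolve_left hcyc
    obtain ⟨x, y, h1, -, h3, h4, h5⟩ := H3.exists_gens_of_mulEquiv_quaternion e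
    obtain ⟨k, rfl⟩ := Nat.exists_eq_add_of_le' hk
    have h6 : ((x ^ 2 ^ (k + 1) : P) : G) = z := by
      refine (hzu _ ?_).resolve_left fun e => ?_
      · rw [← coe_mul, ← pow_add, ← two_mul, ← h1, pow_orderOf_eq_one, coe_one]
      · have := Nat.le_of_dvd (by positivity) (orderOf_dvd_of_pow_eq_one (Subtype.ext e))
        have := Nat.pos_of_ne_zero (pow_ne_zero (k + 1) two_ne_zero)
        omega
    have h7 : ((x ^ 2 ^ k : P) : G) * (x ^ 2 ^ k : P) = z := by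
      rw [← coe_mul, ← pow_add, ← two_mul, ← pow_succ', h6]
    have h8 : (y : G) * y = z := by rw [← coe_mul, ← pow_two, h4, h6]
    have key : ∀ g : G, g * g = z → Inv (π g) := fun g hg =>
      ⟨fun e => hz.ne (hg.symm.trans (hD.sq_eq_one e)), by rw [← map_mul, hg, hD.map]⟩
    refine ⟨_, _, key _ h7, key _ h8, fun e => h3 ?_, ?_⟩
    · have h9 : (x ^ 2 ^ k)⁻¹ * y ∈ zpowers x := by
        rcases hD.ker (((x ^ 2 ^ k : P) : G)⁻¹ * y) (by rw [map_mul, map_inv, e, inv_mul_cancel])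
          with h | h
        · rw [show (x ^ 2 ^ k)⁻¹ * y = 1 from Subtype.ext h]; exact one_mem _
        · rw [show (x ^ 2 ^ k)⁻¹ * y = _ from Subtype.ext (h.trans h6.symm)]
          exact pow_mem (mem_zpowers x) _
      exact (mul_mem_cancel_left (inv_mem (pow_mem (mem_zpowers x) _))).1 h9
    · have h9 : (y : G) * (x ^ 2 ^ k : P) * (y : G)⁻¹ = ((x ^ 2 ^ k : P) : G)⁻¹ := by
        rw [← coe_inv, ← coe_mul, ← coe_mul, ← conj_pow, h5, inv_pow, coe_inv]
      have h10 := congrArg π h9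
      rw [map_mul, map_mul, map_inv, map_inv, (key _ h7).inv_eq] at h10
      exact (mul_inv_eq_iff_eq_mul.1 h10).symm
  refine ⟨⟨_, mem_top _, _, mem_top _, hi, hj, hij, hc⟩, ?_, fun hsq h8 => ?_⟩
  · refine L.eq_bot_of_comap_mk'_eq ?_
    have hle : zpowers z ≤ (pPrimeCore 2 (G ⧸ zpowers z)).comap π := QuotientGroup.le_comap_mk' _ _
    have ho : Odd ((zpowers z).relIndex ((pPrimeCore 2 (G ⧸ zpowers z)).comap π)) := by
      rw [L.relIndex_eq_card_map_mk', map_comap_eq_self_of_surjective hD.surj]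
      exact Nat.coprime_two_right.1 (L.coprime_card_pPrimeCore 2)
    obtain ⟨K, h4, h5, -, h6⟩ := H1.exists_complement_of_coprime hle le_normalizer_of_normal
      (by rw [hz.card_zpowers]; exact Nat.coprime_two_left.2 ho)
    have h7 := le_Od (X := K) ⟨h4, h5 ▸ sup_le le_normalizer
      (zpowers_le.2 (centralizer_le_normalizer _ fun g _ => (hzc g).symm))⟩ (h6 ▸ ho)
    rw [eq_bot_of_odd hO (normalizer_eq_top_iff.1 (eq_top_iff.2
      (le_normalizer_of_normal.trans (norm_le_norm_Od _)))) (odd_Od _), le_bot_iff] at h7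
    rw [← h5, h7, bot_sup_eq]
  obtain ⟨Q, hQ⟩ := (IsPGroup.of_card (p := 2) (n := 2) (card_kl hi hj hc hij)).exists_le_sylow
  have hel := P7.elem_of_four hsq Q.isPGroup'
  haveI := hel.1
  have hQ2 : ∀ {x : G ⧸ zpowers z}, x ∈ (Q : Subgroup _) → x * x = 1 := fun hx => by
    rw [← pow_two, hel.2 _ hx]
  obtain ⟨c, hcQ, hc'⟩ := SetLike.not_le_iff_exists.1 fun hle : (Q : Subgroup _) ≤ kl (π i) (π j) =>
    absurd (((Nat.Coprime.pow_left 3 ((Nat.Prime.coprime_iff_not_dvd Nat.prime_two).2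
      Q.not_dvd_index)).dvd_of_dvd_mul_right ((Q : Subgroup (G ⧸ zpowers z)).card_mul_index ▸ h8)).trans
      (card_kl hi hj hc hij ▸ Subgroup.card_dvd_of_le hle)) (by norm_num)
  obtain ⟨k, rfl⟩ := hD.surj c
  rw [mem_kl hi hj hc] at hc'
  push Not at hc'
  have iQ := hQ (mem_sup_left (mem_zpowers _))
  have jQ := hQ (mem_sup_right (mem_zpowers _))
  have key : ∀ g : G, π g ∈ (Q : Subgroup _) → π g ≠ 1 → π g ≠ π i → g * i = i * g * z := by
    intro g hg g1 gi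
    have e1 := hD.sq_eq hi.ne hi.sq
    have e2 := hD.sq_eq g1 (hQ2 hg)
    have e3 := hD.sq_eq (g := i * g) (by
      rw [map_mul]; exact (hi.mul ⟨g1, hQ2 hg⟩ gi.symm (setLike_mul_comm iQ hg)).ne)
      (by rw [map_mul]; exact hQ2 (mul_mem iQ hg))
    have e4 : g * i * g = i := mul_left_cancel (a := i) (by rw [e1, ← e3]; group)
    calc g * i = g * i * (z * z) := by rw [hz.sq, mul_one]
      _ = g * i * g * g * z := by rw [← e2]; group
      _ = _ := by rw [e4]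
  have e1 := key j jQ hj.ne hij.symm
  have e2 := key k hcQ hc'.1 hc'.2.1
  have e3 := key (j * k) (by rw [map_mul]; exact mul_mem jQ hcQ) (fun e => hc'.2.2.1 (by
      rw [map_mul] at e; rw [eq_inv_of_mul_eq_one_right e, hj.inv_eq])) (fun e => hc'.2.2.2 (by
      rw [map_mul] at e; rw [hc.eq, ← e, hj.mul_cancel_left]))
  rw [mul_assoc j, e2, ← mul_assoc, ← mul_assoc, e1, mul_assoc _ z, hzc k, ← mul_assoc,
    mul_left_inj, ← mul_assoc, mul_eq_left] at e3
  exact hz.ne e3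

theorem PC.main (hA : P7.L2Api.{u}) (h4 : P7.L2Four.{u}) (hK : P7.K3.{u}) (h : PC G) :
    (IsCyclic (G ⧸ oddCore G) ∧ IsPGroup 2 (G ⧸ oddCore G)) ∨
    Nonempty (G ⧸ oddCore G ≃* affineGroup (GaloisField 2 3)) ∨
    Nonempty (G ⧸ oddCore G ≃* semiaffineGroup (GaloisField 2 3)) ∨
    Nonempty (G ⧸ oddCore G ≃* semiaffineGroup (GaloisField 2 5)) ∨
    IsJ1 (G ⧸ oddCore G) ∨
    Nonempty (G ⧸ oddCore G ≃* Matrix.ProjectiveSpecialLinearGroup (Fin 2) (GaloisField 2 3)) ∨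
    Nonempty (G ⧸ oddCore G ≃*
      MulAut (Matrix.ProjectiveSpecialLinearGroup (Fin 2) (GaloisField 2 5))) ∨
    (∃ (p : ℕ) (_ : Fact p.Prime), (p % 8 = 3 ∨ p % 8 = 5) ∧
      (Nonempty (G ⧸ oddCore G ≃* Matrix.ProjectiveSpecialLinearGroup (Fin 2) (ZMod p)) ∨
       Nonempty (G ⧸ oddCore G ≃* Matrix.ProjectiveSpecialLinearGroup (Fin 2) (GaloisField p 3)) ∨
       Nonempty (G ⧸ oddCore G ≃* Matrix.SpecialLinearGroup (Fin 2) (ZMod p)) ∨
       Nonempty (G ⧸ oddCore G ≃* Matrix.SpecialLinearGroup (Fin 2) (GaloisField p 3)))) := by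
  have h1 := h.quot (oddCore G)
  have hO := L.pPrimeCore_quotient_pPrimeCore (G := G) Nat.prime_two
  by_cases h2 : Rk2 (⊤ : Subgroup (G ⧸ oddCore G))
  · rcases h1.elem hA h4 hK h2 hO with ⟨p, hp, h3, e⟩ | ⟨-, e⟩
    · iterate 7 right
      exact ⟨p, hp, h3, e.imp_right Or.inl⟩
    · rcases e with e | e | e | e | e | e <;> simp only [e, true_or, or_true]
  rcases quat_core h2 hO with e | ⟨z, _, hD, h3, hO', h8⟩
  · exact Or.inl e
  have h5 := (h1.quot (zpowers z)).c4.sq h3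
  obtain ⟨p, hp, h6, e⟩ := ((h1.quot (zpowers z)).elem hA h4 hK h3 hO').resolve_right
    fun e => h8 h5 e.1
  iterate 7 right
  refine ⟨p, hp, h6, Or.inr (Or.inr ?_)⟩
  have key : ∀ (F : Type) [Field F] [CharP F p] [Finite F], Nonempty ((G ⧸ oddCore G) ⧸ zpowers z ≃*
      Matrix.ProjectiveSpecialLinearGroup (Fin 2) F) →
      Nonempty (G ⧸ oddCore G ≃* Matrix.SpecialLinearGroup (Fin 2) F) := fun F _ _ _ ⟨e⟩ => by
    obtain ⟨w, hw⟩ := exists_DC_SL2 (F := F) fun e => by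
      have := Nat.le_of_dvd two_pos ((CharP.cast_eq_zero_iff F p 2).1 (by exact_mod_cast e))
      omega
    exact hD.nonempty_equiv (hw.comp e.symm) (P7.sq_of_four h5)
  exact e.imp (key _) (key _)

end Cfsg.Agent.Cj
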