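/-
Groups in which the normalizers of all nontrivial `{p, q}`-subgroups are maximal: the 2-structure.
-/
import Cfsg.Agent.Cj.App2
import Cfsg.Agent.P7.L2Main

set_option autoImplicit false
set_option linter.unusedSectionVars false
set_option linter.style.haveILetI false

namespace Cfsg.Agent.Cj

open Subgroup Cfsg Cfsg.Agent Cfsg.Agent.FT Cfsg.Agent.P6
open Cfsg.Agent.P5 (Tri)
open scoped IsMulCommutative commutatorElement

universe u

variable {G : Type u} [Group G] [Finite G]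

theorem norm_zp {t : G} (ht : Inv t) : 𝐍(zpowers t) = 𝐂[t] :=
  le_antisymm (fun _ hg => mem_cent1_iff_conj.2 (((mem_zp ht).1
    ((mem_normalizer_iff.1 hg t).1 (mem_zpowers t))).resolve_left (conj_ne_one ht.ne)))
    (fun _ hg => centralizer_le_normalizer _ (zpowers_le.1 (zp_le_cent
      (L.mem_cent_iff.1 hg).symm)))

theorem isPGroup_zp {d : G} {r : ℕ} (hd : orderOf d = r) : IsPGroup r (zpowers d) :=
  .of_card (n := 1) (by rw [Nat.card_zpowers, hd, pow_one])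

theorem conj_eq_or {v d : G} {r : ℕ} (hv : v * v = 1) (hr : r.Prime) (hd : orderOf d = r)
    (hn : v ∈ 𝐍(zpowers d)) : Commute v d ∨ v * d * v⁻¹ = d⁻¹ := by
  have h1 := (mem_normalizer_iff.1 hn d).1 (mem_zpowers d)
  refine or_iff_not_imp_right.2 fun h2 => ?_
  have h3 : d ∈ zpowers (d * (v * d * v⁻¹)) := by
    rw [zpowers_eq_of_card_prime (X := zpowers d) (by rwa [Nat.card_zpowers, hd])
      (mul_mem (mem_zpowers d) h1) fun e => h2 (eq_inv_of_mul_eq_one_right e)]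
    exact mem_zpowers d
  obtain ⟨k, hk⟩ := h3
  rw [← hk]
  refine Commute.zpow_right (mul_inv_eq_iff_eq_mul.1 ?_) k
  calc _ = v * d * v⁻¹ * (v * v * d * (v * v)⁻¹) := by group
    _ = _ := by rw [hv, setLike_mul_comm (mem_zpowers d) h1]; group

theorem isPGroup_two_of {X : Subgroup G} (h : ∀ d ∈ X, (orderOf d).Prime → orderOf d = 2) :
    IsPGroup 2 X := (isPi_singleton_iff Nat.prime_two).1 fun r hr hd => by
  obtain ⟨d, hd', rfl⟩ := exists_mem_orderOf_eq_prime hr hd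
  exact h d hd' hr

theorem eq_bot_of_no_inv {X : Subgroup G} (hX : IsPGroup 2 X) (h : ∀ a ∈ X, ¬ Inv a) : X = ⊥ :=
  by_contra fun e => Nat.two_dvd_ne_zero.2 (Nat.odd_iff.1 (odd_of_no_inv h))
    (prime_dvd_card_of_isPGroup Nat.prime_two hX e)

/-- The normalizers of all nontrivial `{p, q}`-subgroups are maximal. -/
structure MN (G : Type u) [Group G] : Prop where
  sol : ∀ N : Subgroup G, N.Normal → Group.IsSolvable N → N = ⊥
  max : ∀ p q : ℕ, p.Prime → q.Prime → ∀ H : Subgroup G, H ≠ ⊥ → IsPiSubgroup {p, q} H →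
    IsCoatom 𝐍(H)

namespace MN

variable (h : MN G)
include h

theorem maxp {p : ℕ} (hp : p.Prime) {U : Subgroup G} (hU : IsPGroup p U) (U1 : U ≠ ⊥) :
    IsCoatom 𝐍(U) := h.max p p hp hp U U1 (isPi_of_isPGroup hp hU (by simp))

theorem factA {p q : ℕ} (hp : p.Prime) (hq : q.Prime) (hpq : p ≠ q) {U Q : Subgroup G}
    (hU : IsPGroup p U) (U1 : U ≠ ⊥) (hQ : IsPGroup q Q) (hn : Q ≤ 𝐍(U)) : 𝐍(Q ⊔ U) = 𝐍(U) := by
  have hS : IsSyl p U (Q ⊔ U) := ⟨le_sup_right, hU, fun e => hpq (eq_of_prime_dvd_card_of_isPGroup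
    hq hp hQ ((H1.relIndex_sup_of_le_normalizer hn ▸ e).trans (relIndex_dvd_card _ _)))⟩
  refine ((h.max p q hp hq _ (fun e => U1 (le_bot_iff.1 (e ▸ le_sup_right))) (isPi_sup
    (isPi_of_isPGroup hq hQ (by simp)) (isPi_of_isPGroup hp hU (by simp)) hn)).le_iff_eq
    (h.maxp hp hU U1).1).1 (fun g hg => mem_norm_of_conj_le ?_) |>.symm
  exact hS.le_of_normal hp (sup_le hn le_normalizer) (hU.map _) (hS.conj_of_mem_norm hg).le

theorem frat {p q : ℕ} (hp : p.Prime) (hq : q.Prime) (hpq : p ≠ q) {U Q : Subgroup G}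
    (hU : IsPGroup p U) (U1 : U ≠ ⊥) (hQ : IsPGroup q Q) (hn : Q ≤ 𝐍(U)) {g : G} (hg : g ∈ 𝐍(U)) :
    ∃ u ∈ U, u * g ∈ 𝐍(Q) := by
  haveI := Fact.mk hq
  obtain ⟨k, hk, e⟩ := H1.frattini_argument (le_sup_left : Q ≤ Q ⊔ U) hQ (fun e => hpq.symm
    (eq_of_prime_dvd_card_of_isPGroup hp hq hU (e.trans (by
      have h1 := H1.card_mul_relIndex (le_sup_left : Q ≤ Q ⊔ U)
      rw [H1.card_sup_of_coprime hn (coprime_card_of_isPGroup hq hp hpq.symm hQ hU)] at h1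
      exact (Nat.eq_of_mul_eq_mul_left Nat.card_pos h1).dvd)))) (h.factA hp hq hpq hU U1 hQ hn ▸ hg)
  obtain ⟨y, hy, u, hu, rfl⟩ := (H1.mem_sup_iff_of_le_normalizer hn).1 hk
  exact ⟨u, hu, (mul_mem_cancel_left (le_normalizer hy)).1 (mul_assoc y u g ▸ e)⟩

theorem maxc {t : G} (ht : Inv t) : IsCoatom 𝐂[t] :=
  norm_zp ht ▸ h.maxp Nat.prime_two ht.isPGroup (zpowers_ne_bot.2 ht.ne)

theorem cent_eq {t d : G} {r : ℕ} (ht : Inv t) (hr : r.Prime) (r2 : r ≠ 2) (hd : orderOf d = r)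
    (hc : Commute t d) : 𝐂[t] = 𝐍(zpowers d) := by
  have d1 : zpowers d ≠ ⊥ := zpowers_ne_bot.2 fun e => hr.ne_one (by rw [← hd, e, orderOf_one])
  rw [← norm_zp ht, ← h.factA Nat.prime_two hr r2.symm ht.isPGroup (zpowers_ne_bot.2 ht.ne)
    (isPGroup_zp hd) (H1.le_normalizer_of_le_centralizer (zp_le_cent hc.symm)), sup_comm,
    h.factA hr Nat.prime_two r2 (isPGroup_zp hd) d1 ht.isPGroup
    (H1.le_normalizer_of_le_centralizer (zp_le_cent hc))]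

theorem mem_of_cent_eq {t g : G} (ht : Inv t) (e : 𝐂[g * t * g⁻¹] = 𝐂[t]) : g ∈ 𝐂[t] := by
  by_contra hg
  haveI : 𝐂[t].Normal := normalizer_eq_top_iff.1 ((h.maxc ht).2 _ (lt_of_le_of_ne le_normalizer
    fun e' => hg (e' ▸ H1.map_conj_eq_self_iff.1 ((cent1_conj t g).symm.trans e))))
  exact ht.ne (mem_bot.1 (h.sol (𝐂[t] ⊓ 𝐂(𝐂[t])) inferInstance (H1.isSolvable_of_isMulCommutative
    ⟨⟨fun a b => Subtype.ext (b.2.2 a a.2.1)⟩⟩) ▸
      ⟨self_mem_cent1 t, fun x hx => (hx t rfl).symm⟩))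

theorem odd_core : pPrimeCore 2 G = ⊥ :=
  h.sol _ inferInstance (feit_thompson _ (Nat.coprime_two_right.1 (L.coprime_card_pPrimeCore 2)))

theorem exists_fus {t : G} (ht : Inv t) : ∃ g, Commute t (g * t * g⁻¹) ∧ g * t * g⁻¹ ≠ t := by
  by_contra! hc
  exact (h.maxc ht).1 (eq_top_iff.2 fun g _ => L.mem_cent_iff.2
    (commutatorElement_eq_one_iff_commute.1 (mem_bot.1 (h.odd_core ▸ P1.zstar ht.orderOf_eq hc g))))

theorem invols {t d g : G} {r : ℕ} (ht : Inv t) (hr : r.Prime) (r2 : r ≠ 2) (hd : orderOf d = r)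
    (hc : Commute t d) {T : Subgroup G} (hT : T ≤ 𝐂[t]) (tT : t ∈ T) (hg : g ∈ 𝐍(T))
    (hg' : g ∉ 𝐂[t]) {v : G} (vT : v ∈ T) (hv : Inv v) :
    v = t ∨ v = g * t * g⁻¹ ∨ v = t * (g * t * g⁻¹) := by
  have hM := h.cent_eq ht hr r2 hd hc
  have d1 : d ≠ d⁻¹ := fun e => hr.ne_one (by
    rw [← hd, eq_one_of_eq_inv (hd ▸ hr.odd_of_ne_two r2) e, orderOf_one])
  have key : ∀ v ∈ T, Inv v → Commute v d → g * v * g⁻¹ * d * (g * v * g⁻¹)⁻¹ = d⁻¹ :=
    fun v vT hv h1 => (conj_eq_or (hv.conj g).sq hr hd (hM ▸ hT ((mem_normalizer_iff.1 hg v).1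
      vT))).resolve_left fun h2 => hg' (by
        have h3 := h.cent_eq hv hr r2 hd h1
        rw [hM, ← h3]
        exact h.mem_of_cent_eq hv ((h.cent_eq (hv.conj g) hr r2 hd h2).trans h3.symm))
  have two : ∀ {a b : G}, a * d * a⁻¹ = d⁻¹ → b * d * b⁻¹ = d⁻¹ → Commute (a * b) d :=
    fun {a b} h1 h2 => mul_inv_eq_iff_eq_mul.1 (by
      calc _ = a * (b * d * b⁻¹) * a⁻¹ := by group
        _ = (a * d * a⁻¹)⁻¹ := by rw [h2]; group
        _ = d := by rw [h1, inv_inv])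
  have uniq : ∀ v ∈ T, Inv v → Commute v d → v = t := fun v vT hv h1 => by
    by_contra hne
    have h2 := key _ (mul_mem vT tT) (hv.mul ht hne (hT vT t rfl).symm) (h1.mul_left hc)
    rw [show g * (v * t) * g⁻¹ = g * v * g⁻¹ * (g * t * g⁻¹) by group,
      two (key v vT hv h1) (key t tT ht hc), mul_inv_cancel_right] at h2
    exact d1 h2
  rcases conj_eq_or hv.sq hr hd (hM ▸ hT vT) with h1 | h1
  · exact Or.inl (uniq v vT hv h1)
  refine Or.inr (or_iff_not_imp_left.2 fun hne => ?_)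
  have h2 : v * (g * t * g⁻¹) = g * t * g⁻¹ * v := by
    have h3 := hT ((mem_normalizer_iff''.1 hg v).1 vT) t rfl
    calc _ = g * (g⁻¹ * v * g * t) * g⁻¹ := by group
      _ = _ := by rw [← h3]; group
  exact ((ht.conj g).mul_cancel_right v).symm.trans (congrArg (· * (g * t * g⁻¹))
    (uniq _ (mul_mem vT ((mem_normalizer_iff.1 hg t).1 tT)) (hv.mul (ht.conj g) hne h2)
      (two h1 (key t tT ht hc))))

theorem exists_tri {z : G} (hz : Inv z) (h2 : IsPGroup 2 𝐂[z]) : ∃ u a x, Inv u ∧ z ≠ u ∧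
    Commute z u ∧ (∃ g, g * z * g⁻¹ = u) ∧ a ∈ 𝐂[z] ∧ a * u * a⁻¹ = z * u ∧ Tri x z u ∧
    orderOf x = 3 := by
  obtain ⟨g, hc, hne⟩ := h.exists_fus hz
  have key : ∀ {a b : G}, Inv a → Inv b → a ≠ b → Commute a b → IsPGroup 2 𝐂[a] → 𝐂[b] ≠ 𝐂[a] →
      ∃ y ∈ 𝐂[a], y * b * y⁻¹ = a * b := fun {a b} ha hb hab hc h2 h3 => by
    have h4 : IsPGroup 2 (𝐂[a] ⊓ 𝐂[b] : Subgroup G) := h2.to_inf_left
    have h5 : 𝐂(kl a b) = 𝐂[a] ⊓ 𝐂[b] := le_antisymm (le_inf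
      (centralizer_le (Set.singleton_subset_iff.2 (mem_sup_left (mem_zpowers a))))
      (centralizer_le (Set.singleton_subset_iff.2 (mem_sup_right (mem_zpowers b)))))
      (le_centralizer_iff.1 (kl_le (fun x hx => (hx.1 a rfl).symm) fun x hx => (hx.2 b rfl).symm))
    obtain ⟨y, ⟨ya, yn⟩, yb⟩ := SetLike.exists_of_lt (lt_inf_norm_of_isNilpotent
      (isNilpotent_of_isPGroup Nat.prime_two h2) (inf_lt_left.2 fun e =>
        h3 (((h.maxc ha).le_iff_eq (h.maxc hb).1).1 e)))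
    rw [((h.maxp Nat.prime_two (IsPGroup.of_card (n := 2) (card_kl ha hb hc hab)) fun e => ha.ne
      (mem_bot.1 (e ▸ mem_sup_left (mem_zpowers a)))).le_iff_eq (h.maxp Nat.prime_two h4
        fun e => ha.ne (mem_bot.1 (e ▸ ⟨self_mem_cent1 a, L.mem_cent_iff.2 hc.symm⟩))).1).1
      (h5 ▸ H1.normalizer_le_normalizer_centralizer _)] at yn
    refine ⟨y, ya, ?_⟩
    rcases (mem_kl ha hb hc).1 ((mem_normalizer_iff.1 yn b).1 (mem_sup_right (mem_zpowers b)))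
      with e | e | e | e
    · exact absurd e (conj_ne_one hb.ne)
    · exact absurd (mul_left_cancel (mul_right_cancel ((mem_cent1_iff_conj.1 ya).trans e.symm))) hab
    · exact absurd ⟨ya, mem_cent1_iff_conj.2 e⟩ yb
    · exact e
  have hu := hz.conj g
  have h3 : 𝐂[g * z * g⁻¹] ≠ 𝐂[z] := fun e => hne (mem_cent1_iff_conj.1 (h.mem_of_cent_eq hz e))
  obtain ⟨a, az, ha⟩ := key hz hu hne.symm hc h2 h3
  obtain ⟨b, bu, hb⟩ := key hu hz hne hc.symm (cent1_conj z g ▸ h2.map _) h3.symm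
  set u := g * z * g⁻¹
  have h4 : Tri (a * b) z u := by
    constructor
    · calc _ = a * (b * z * b⁻¹) * a⁻¹ := by group
        _ = a * u * a⁻¹ * (a * z * a⁻¹) := by rw [hb]; group
        _ = u := by rw [ha, mem_cent1_iff_conj.1 az, hc.eq, hz.mul_cancel_right]
    · calc _ = a * (b * u * b⁻¹) * a⁻¹ := by group
        _ = _ := by rw [mem_cent1_iff_conj.1 bu, ha]
  set y := a * b
  have hV : P5.V4 z u := ⟨hz.ne, hu.ne, hne.symm, hz.sq, hu.sq, hc⟩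
  have h5 : y ^ 3 ∈ 𝐂[z] ⊓ 𝐂[u] := by
    refine ⟨mem_cent1_iff_conj.2 ?_, mem_cent1_iff_conj.2 ?_⟩
    · calc _ = y * (y * (y * z * y⁻¹) * y⁻¹) * y⁻¹ := by rw [pow_three]; group
        _ = _ := by rw [h4.1, h4.2, h4.third hV]
    · calc _ = y * (y * (y * u * y⁻¹) * y⁻¹) * y⁻¹ := by rw [pow_three]; group
        _ = _ := by rw [h4.2, h4.third hV, h4.1]
  obtain ⟨k, hk⟩ := h2 ⟨_, h5.1⟩
  obtain ⟨j, hj⟩ : ∃ j, 2 ^ k * 2 ^ k = 1 + 3 * j := ⟨2 ^ k * 2 ^ k / 3, by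
    have : (2 ^ k * 2 ^ k) % 3 = 1 := by rw [← mul_pow, Nat.pow_mod]; simp
    omega⟩
  have h6 : ∀ w, y ^ 3 ∈ 𝐂[w] → y ^ (1 + 3 * j) * w * (y ^ (1 + 3 * j))⁻¹ = y * w * y⁻¹ :=
    fun w hw => by
      calc _ = y * ((y ^ 3) ^ j * w * ((y ^ 3) ^ j)⁻¹) * y⁻¹ := by group
        _ = _ := by rw [mem_cent1_iff_conj.1 (pow_mem hw j)]
  haveI := Fact.mk Nat.prime_three
  refine ⟨u, a, y ^ (1 + 3 * j), hu, hne.symm, hc, ⟨g, rfl⟩, az, ha,
    ⟨(h6 z h5.1).trans h4.1, (h6 u h5.2).trans h4.2⟩, orderOf_eq_prime ?_ fun e => hne ?_⟩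
  · rw [← hj, ← pow_mul, mul_comm, pow_mul, pow_mul, show (y ^ 3) ^ 2 ^ k = 1 from
      congrArg Subtype.val hk, one_pow]
  · rw [← h4.1, ← h6 z h5.1, e, one_mul, inv_one, mul_one]

omit h in
theorem tri_norm {z u x : G} (hz : Inv z) (hu : Inv u) (hc : Commute z u) (hx : Tri x z u) :
    x ∈ 𝐍(kl z u) := mem_norm_of_conj_le (by
  rw [kl, Subgroup.map_sup, MonoidHom.map_zpowers, MonoidHom.map_zpowers]
  exact kl_le ((mem_kl hz hu hc).2 (Or.inr (Or.inr (Or.inl hx.1))))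
    ((mem_kl hz hu hc).2 (Or.inr (Or.inr (Or.inr hx.2)))))

theorem exists_norm {z u x g : G} (hz : Inv z) (hu : Inv u) (hne : z ≠ u) (hc : Commute z u)
    (hx : Tri x z u) (x3 : orderOf x = 3) (hg : g ∈ 𝐍(kl z u)) :
    ∃ w ∈ kl z u, w * g ∈ 𝐍(zpowers x) :=
  h.frat Nat.prime_two Nat.prime_three (by norm_num) (.of_card (n := 2) (card_kl hz hu hc hne))
    (fun e => hz.ne (mem_bot.1 (e ▸ mem_sup_left (mem_zpowers z)))) (isPGroup_zp x3)
    (zpowers_le.2 (tri_norm hz hu hc hx)) hg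

omit h in
theorem commute_of_norm {Y Q : Subgroup G} {n x : G} (hc : 𝐨(Q).Coprime 𝐨(Y)) (nY : n ∈ Y)
    (hn : n ∈ 𝐍(Q)) (xQ : x ∈ Q) (hx : x ∈ 𝐍(Y)) : Commute n x := by
  refine commutatorElement_eq_one_iff_commute.1 (mem_bot.1 (H1.inf_eq_bot_of_coprime' hc ▸ ?_))
  refine ⟨Q.mul_mem ((mem_normalizer_iff.1 hn x).1 xQ) (Q.inv_mem xQ), ?_⟩
  rw [show ⁅n, x⁆ = n * (x * n⁻¹ * x⁻¹) by group]
  exact Y.mul_mem nY ((mem_normalizer_iff.1 hx _).1 (Y.inv_mem nY))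

theorem cent_le {z u x : G} (hz : Inv z) (hu : Inv u) (hne : z ≠ u) (hc : Commute z u)
    (h2 : IsPGroup 2 𝐂[z]) (hx : Tri x z u) (x3 : orderOf x = 3)
    (hv : ∀ v ∈ 𝐂[z] ⊓ 𝐂[u], Inv v → ¬ Commute v x) : 𝐂[z] ⊓ 𝐂[u] ≤ kl z u := fun c hc' => by
  have h5 : 𝐂(kl z u) = 𝐂[z] ⊓ 𝐂[u] := le_antisymm (le_inf
    (centralizer_le (Set.singleton_subset_iff.2 (mem_sup_left (mem_zpowers z))))
    (centralizer_le (Set.singleton_subset_iff.2 (mem_sup_right (mem_zpowers u)))))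
    (le_centralizer_iff.1 (kl_le (fun x hx => (hx.1 z rfl).symm) fun x hx => (hx.2 u rfl).symm))
  obtain ⟨w, hw, hn⟩ := h.exists_norm hz hu hne hc hx x3 (centralizer_le_normalizer _ (h5 ▸ hc'))
  have h3 : w * c ∈ 𝐂[z] ⊓ 𝐂[u] := mul_mem (kl_le (P := 𝐂[z] ⊓ 𝐂[u])
    ⟨self_mem_cent1 z, L.mem_cent_iff.2 hc.symm⟩ ⟨L.mem_cent_iff.2 hc, self_mem_cent1 u⟩ hw) hc'
  have h4 := commute_of_norm (coprime_card_of_isPGroup Nat.prime_three Nat.prime_two (by norm_num)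
    (isPGroup_zp x3) h2.to_inf_left) h3 hn (mem_zpowers x)
    (h5 ▸ H1.normalizer_le_normalizer_centralizer _ (tri_norm hz hu hc hx))
  have h6 : w * c ∈ 𝐂[z] ⊓ 𝐂[u] ⊓ 𝐂[x] := ⟨h3, L.mem_cent_iff.2 h4.symm⟩
  rw [eq_bot_of_no_inv h2.to_inf_left.to_inf_left fun v hv' h7 =>
    hv v hv'.1 h7 (L.mem_cent_iff.1 hv'.2).symm, mem_bot] at h6
  rw [eq_inv_of_mul_eq_one_right h6]
  exact inv_mem hw

theorem not_cit [Nontrivial G] (hC : ∀ t : G, Inv t → IsPGroup 2 𝐂[t]) : False := by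
  obtain ⟨z, -, hz⟩ := exists_inv_of_even (X := (⊤ : Subgroup G)) fun ho =>
    top_ne_bot (h.sol ⊤ inferInstance (feit_thompson _ ho))
  obtain ⟨u, a, x, hu, hne, hc, -, az, ha, hx, x3⟩ := h.exists_tri hz (hC z hz)
  have hv : ∀ v : G, Inv v → ¬ Commute v x := fun v h1 h2 => absurd
    (eq_of_prime_dvd_card_of_isPGroup Nat.prime_two Nat.prime_three (hC v h1)
      (x3 ▸ orderOf_dvd_card_of_mem (L.mem_cent_iff.2 h2))) (by norm_num)
  have hW := h.cent_le hz hu hne hc (hC z hz) hx x3 fun v _ => hv v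
  have hW2 : IsPGroup 2 (kl z u) := .of_card (n := 2) (card_kl hz hu hc hne)
  have hcop := coprime_card_of_isPGroup Nat.prime_three Nat.prime_two (by norm_num)
    (isPGroup_zp x3) hW2
  have xW := tri_norm hz hu hc hx
  have hWC : kl z u ≤ 𝐂[z] ⊓ 𝐂[u] :=
    kl_le ⟨self_mem_cent1 z, L.mem_cent_iff.2 hc.symm⟩ ⟨L.mem_cent_iff.2 hc, self_mem_cent1 u⟩
  have aW : a ∈ 𝐍(kl z u) := mem_norm_of_conj_le (by
    rw [kl, Subgroup.map_sup, MonoidHom.map_zpowers, MonoidHom.map_zpowers]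
    exact kl_le ((mem_kl hz hu hc).2 (Or.inr (Or.inl (mem_cent1_iff_conj.1 az))))
      ((mem_kl hz hu hc).2 (Or.inr (Or.inr (Or.inr ha)))))
  obtain ⟨w, hw, hj⟩ := h.exists_norm hz hu hne hc hx x3 aW
  have jW := mul_mem (le_normalizer hw) aW
  have jz := mul_mem (hWC hw).1 az
  have ju : w * a * u * (w * a)⁻¹ = z * u := by
    calc _ = w * (a * u * a⁻¹) * w⁻¹ := by group
      _ = w * z * w⁻¹ * (w * u * w⁻¹) := by rw [ha]; group
      _ = _ := by rw [mem_cent1_iff_conj.1 (hWC hw).1, mem_cent1_iff_conj.1 (hWC hw).2]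
  set j := w * a
  have hI : Inv j := by
    refine ⟨fun e => hz.ne (by simpa [e] using ju), by_contra fun e => ?_⟩
    have h1 : j * j ∈ kl z u := hW ⟨mul_mem jz jz, mem_cent1_iff_conj.2 (by
      calc _ = j * (j * u * j⁻¹) * j⁻¹ := by group
        _ = j * (z * u) * j⁻¹ := by rw [ju]
        _ = j * z * j⁻¹ * (j * u * j⁻¹) := by group
        _ = _ := by rw [ju, mem_cent1_iff_conj.1 jz, hz.mul_cancel_left])⟩
    refine hv _ ⟨e, ?_⟩ (commute_of_norm hcop h1 (mul_mem hj hj) (mem_zpowers x) xW)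
    rcases (mem_kl hz hu hc).1 h1 with e | e | e | e <;> rw [e]
    exacts [one_mul 1, hz.sq, hu.sq, (hz.mul hu hne hc).sq]
  have x1 : zpowers x ≠ ⊥ := zpowers_ne_bot.2 fun e => by simp [e] at x3
  have key : ∀ n ∈ 𝐍(zpowers x), n * x * n⁻¹ = x ∨ n * x * n⁻¹ = x⁻¹ := fun n hn => by
    classical
    obtain ⟨k, hk, e⟩ := Finset.mem_image.1 ((mem_zpowers_iff_mem_range_orderOf).1
      ((mem_normalizer_iff.1 hn x).1 (mem_zpowers x)))
    rw [x3, Finset.mem_range] at hk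
    interval_cases k
    · exact absurd e.symm (by rw [pow_zero]; exact conj_ne_one (zpowers_ne_bot.1 x1))
    · exact Or.inl (by rw [← e, pow_one])
    · exact Or.inr (by rw [← e, eq_inv_iff_mul_eq_one, ← pow_succ]; exact orderOf_dvd_iff_pow_eq_one.1 x3.dvd)
  have jx := (key j hj).resolve_left fun e => hv j hI (mul_inv_eq_iff_eq_mul.1 e)
  have h1 : 𝐍(zpowers x) ≤ 𝐍(kl z u) := fun g hg => by
    obtain ⟨k, hk, e⟩ := h.frat Nat.prime_three Nat.prime_two (by norm_num) (isPGroup_zp x3) x1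
      hI.isPGroup (zpowers_le.2 hj) hg
    rw [norm_zp hI] at e
    refine (mul_mem_cancel_left (zpowers_le.2 xW hk)).1 ?_
    have h2 : ∀ n ∈ 𝐂[j], n * x * n⁻¹ = x → n = 1 := fun n hn e => mem_bot.1
      (eq_bot_of_no_inv (X := 𝐂[j] ⊓ 𝐂[x]) (hC j hI).to_inf_left (fun v hv' h7 =>
        hv v h7 (L.mem_cent_iff.1 hv'.2).symm) ▸ ⟨hn, mem_cent1_iff_conj.2 e⟩)
    rcases key _ (mul_mem (le_normalizer hk) hg) with e' | e'
    · rw [h2 _ e e']; exact one_mem _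
    · rw [eq_inv_of_mul_eq_one_right (h2 (j * (k * g)) (mul_mem (self_mem_cent1 j) e) (by
        calc _ = j * (k * g * x * (k * g)⁻¹) * j⁻¹ := by group
          _ = (j * x * j⁻¹)⁻¹ := by rw [e']; group
          _ = x := by rw [jx, inv_inv]))]
      exact inv_mem jW
  have zW : z ∈ kl z u := mem_sup_left (mem_zpowers z)
  exact hv z hz (commute_of_norm hcop zW (((h.maxp Nat.prime_three (isPGroup_zp x3) x1).le_iff_eq
    (h.maxp Nat.prime_two hW2 fun e => hz.ne (mem_bot.1 (e ▸ zW))).1).1 h1 ▸ le_normalizer zW)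
    (mem_zpowers x) xW)

end MN

end Cfsg.Agent.Cj
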