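/-
Groups in which the normalizers of all nontrivial `{p, q}`-subgroups are maximal: `PSL₂(13)`.
-/
import Cfsg.Agent.Cj.MN1
import Cfsg.Agent.H9.SylowNum

set_option autoImplicit false
set_option linter.unusedSectionVars false
set_option linter.style.haveILetI false

namespace Cfsg.Agent.Cj.MN

open Subgroup Cfsg Cfsg.Agent Cfsg.Agent.FT Cfsg.Agent.P6
open Cfsg.Agent.P5 (Tri)
open scoped IsMulCommutative commutatorElement

universe u

variable {G : Type u} [Group G] [Finite G] (h : MN G)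
include h

theorem isSyl_top {t d : G} {r : ℕ} (ht : Inv t) (hr : r.Prime) (r2 : r ≠ 2) (hd : orderOf d = r)
    (hc : Commute t d) {T : Subgroup G} (hT : IsSyl 2 T 𝐂[t]) : IsSyl 2 T ⊤ := by
  obtain ⟨S, hS, hTS⟩ := exists_isSyl_ge Nat.prime_two hT.pgrp le_top
  by_contra hne
  have hST : S ⊓ 𝐂[t] = T :=
    hT.eq_of_le Nat.prime_two (le_inf hTS hT.le) inf_le_right hS.pgrp.to_inf_left
  have hnil := isNilpotent_of_isPGroup Nat.prime_two hS.pgrp
  obtain ⟨s, ⟨sS, sn⟩, sT⟩ := SetLike.exists_of_lt (lt_inf_norm_of_isNilpotent hnil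
    (lt_of_le_of_ne hTS fun e => hne (e ▸ hS)))
  have sC : s ∉ 𝐂[t] := fun e => sT (hST ▸ ⟨sS, e⟩)
  have tT : t ∈ T := hT.le_of_le_norm Nat.prime_two ht.isPGroup (zpowers_le.2 (self_mem_cent1 t))
    (norm_zp ht ▸ hT.le) (mem_zpowers t)
  have hinv := fun v => h.invols (v := v) ht hr r2 hd hc hT.le tT sn sC
  have ht' := ht.conj s
  have t'T := (mem_normalizer_iff.1 sn t).1 tT
  have htt : t ≠ s * t * s⁻¹ := fun e => sC (mem_cent1_iff_conj.2 e.symm)
  have hc' : Commute t (s * t * s⁻¹) := L.mem_cent_iff.1 (hT.le t'T)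
  obtain ⟨z, ⟨zS, zC⟩, hz⟩ := exists_inv_of_even (X := S ⊓ 𝐂(S)) fun ho =>
    Nat.two_dvd_ne_zero.2 (Nat.odd_iff.1 ho) (prime_dvd_card_of_isPGroup Nat.prime_two
      hS.pgrp.to_inf_left (center_ne_bot hnil fun e => ht.ne (mem_bot.1 (e ▸ hTS tT))))
  have hSz : S ≤ 𝐂[z] := fun y hy => L.mem_cent_iff.2 (zC y hy).symm
  have fix : ∀ y ∈ S, ∀ v, y * v * y⁻¹ = z → v = z := fun y hy v e =>
    mul_left_cancel (mul_right_cancel (e.trans (mem_cent1_iff_conj.1 (hSz hy)).symm))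
  have zt : t ≠ z := fun e => sC (e ▸ hSz sS)
  have ez : z = t * (s * t * s⁻¹) := ((hinv z (hST ▸ ⟨zS, L.mem_cent_iff.2 (zC t (hTS tT))⟩)
    hz).resolve_left zt.symm).resolve_left fun e => zt (fix s sS t e.symm)
  have h2 : IsPGroup 2 𝐂[z] := isPGroup_two_of fun e he hp => by_contra fun e2 => by
    have h1 := h.cent_eq hz hp e2 rfl (L.mem_cent_iff.1 he)
    have h3 : zpowers t ≤ 𝐍(zpowers e) := zpowers_le.2 (h1 ▸ hSz (hTS tT))
    have h4 := (mem_normalizer_iff.1 ((h.factA hp Nat.prime_two e2 (isPGroup_zp rfl)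
      (zpowers_ne_bot.2 fun e' => hp.ne_one (by rw [e', orderOf_one])) ht.isPGroup h3).ge
      (h1 ▸ hSz sS)) t).1 (mem_sup_left (mem_zpowers t))
    obtain ⟨y, hy, w, hw, e'⟩ := (H1.mem_sup_iff_of_le_normalizer h3).1 h4
    have ho : Odd 𝐨(zpowers e) := odd_of_isPGroup hp e2 (isPGroup_zp rfl)
    rcases (mem_zp ht).1 hy with rfl | rfl
    · exact ht'.not_mem_of_odd ho (by rw [← e', one_mul]; exact hw)
    · exact hz.not_mem_of_odd ho (by rw [ez, ← e', ht.mul_cancel_left]; exact hw)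
  have hSz' : 𝐂[z] = S := hS.eq_of_le Nat.prime_two hSz le_top h2
  have nc : ∀ g, g * z * g⁻¹ ∈ T → g * z * g⁻¹ = z := fun g hg => by
    have h3 : ∀ y, g * z * g⁻¹ ≠ y * t * y⁻¹ := fun y e => r2 (eq_of_prime_dvd_card_of_isPGroup
      Nat.prime_two hr h2 (by
        rw [← card_conj _ g, ← cent1_conj, e, cent1_conj, card_conj, ← hd]
        exact orderOf_dvd_card_of_mem (L.mem_cent_iff.2 hc)))
    exact (((hinv _ hg (hz.conj g)).resolve_left (by simpa using h3 1)).resolve_left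
      (h3 s)).trans ez.symm
  set t' := s * t * s⁻¹
  have hV : S ≤ 𝐍(kl t t') := by
    refine hSz.trans (((h.maxp Nat.prime_two (.of_card (n := 2) (card_kl ht ht' hc' htt)) fun e =>
      ht.ne (mem_bot.1 (e ▸ mem_sup_left (mem_zpowers t)))).le_iff_eq (h.maxc hz).1).1
      fun g hg => mem_cent1_iff_conj.2 (nc g (kl_le tT t'T ((mem_normalizer_iff.1 hg z).1 ?_)))).le
    exact (mem_kl ht ht' hc').2 (Or.inr (Or.inr (Or.inr ez)))
  have mv : ∀ y ∈ S, y ∉ T → y * t * y⁻¹ = t' := fun y hy yT => by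
    rcases (mem_kl ht ht' hc').1 ((mem_normalizer_iff.1 (hV hy) t).1
      (mem_sup_left (mem_zpowers t))) with e | e | e | e
    · exact absurd e (conj_ne_one ht.ne)
    · exact absurd (hST ▸ ⟨hy, mem_cent1_iff_conj.2 e⟩) yT
    · exact e
    · exact absurd (fix y hy t (e.trans ez.symm)) zt
  obtain ⟨u, a, x, hu, hne, hzu, ⟨g, hg⟩, -, -, hx, x3⟩ := h.exists_tri hz h2
  have uS : u ∈ S := hSz' ▸ L.mem_cent_iff.2 hzu
  have uT : u ∉ T := fun e => hne ((nc g (hg ▸ e)).symm.trans hg)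
  have ut := mv u uS uT
  have ut' : u * t' * u⁻¹ = t := by
    calc _ = u * u * t * (u * u)⁻¹ := by rw [← ut]; group
      _ = t := by rw [hu.sq]; group
  have hTu : ∀ v ∈ T, v * v = 1 → v ∈ 𝐂[u] → v = 1 ∨ v = z := fun v vT vv vu =>
    or_iff_not_imp_left.2 fun v1 => by
      have h3 : u * v * u⁻¹ = v := mul_inv_eq_iff_eq_mul.2 (L.mem_cent_iff.1 vu)
      rcases hinv v vT ⟨v1, vv⟩ with rfl | rfl | e
      exacts [absurd (h3.symm.trans ut) htt, absurd (ut'.symm.trans h3) htt, e.trans ez.symm]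
  have hV4 : P5.V4 z u := ⟨hz.ne, hu.ne, hne, hz.sq, hu.sq, hzu⟩
  have hW := h.cent_le hz hu hne hzu h2 hx x3 fun v hv h3 h4 => by
    have h5 := mul_inv_eq_iff_eq_mul.2 h4.symm.eq
    by_cases vT : v ∈ T
    · rw [(hTu v vT h3.sq hv.2).resolve_left h3.ne, hx.1] at h5
      exact hne h5.symm
    have h6 : Commute u v := L.mem_cent_iff.1 hv.2
    have vS : v ∈ S := hSz' ▸ hv.1
    rcases hTu (u * v) (hST ▸ ⟨S.mul_mem uS vS, mem_cent1_iff_conj.2 (by
      calc _ = u * (v * t * v⁻¹) * u⁻¹ := by group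
        _ = t := by rw [mv v vS vT, ut'])⟩) (by
      rw [h6.symm.mul_mul_mul_comm, hu.sq, h3.sq, one_mul]) (mul_mem (self_mem_cent1 u) hv.2) with e | e
    · rw [eq_inv_of_mul_eq_one_right e, hu.inv_eq, hx.2] at h5
      exact hz.ne (mul_eq_right.1 h5)
    · rw [← hu.mul_cancel_left v, e, ← hzu.eq, hx.third hV4] at h5
      exact hu.ne (mul_eq_left.1 h5.symm)
  have hn : ∀ y ∈ S, y * u * y⁻¹ ∈ kl z u → y ∈ 𝐍(kl z u) := fun y hy e => mem_norm_of_conj_le (by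
    rw [kl, Subgroup.map_sup, MonoidHom.map_zpowers, MonoidHom.map_zpowers]
    exact kl_le ((mem_kl hz hu hzu).2 (Or.inr (Or.inl (mem_cent1_iff_conj.1 (hSz hy))))) e)
  have tu : t * u * t⁻¹ = z * u := by
    rw [ez, ← ut, ht.inv_eq, hu.inv_eq, mul_assoc t (u * t * u), hu.mul_cancel_right, mul_assoc]
  have hSW : S ≤ 𝐍(kl z u) := by
    by_contra h3
    obtain ⟨y, ⟨yS, yn⟩, hy⟩ := SetLike.exists_of_lt
      (lt_inf_norm_of_isNilpotent hnil (inf_lt_left.2 h3))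
    refine hy ⟨yS, hn y yS ?_⟩
    obtain ⟨h4, h5⟩ := (mem_normalizer_iff.1 yn u).1
      ⟨uS, le_normalizer (mem_sup_right (mem_zpowers u))⟩
    have h6 := hu.conj y
    have h7 : y * u * y⁻¹ ∉ T := fun e => hne (fix y yS u (by
      have := nc (y * g) (by rwa [show y * g * z * (y * g)⁻¹ = y * (g * z * g⁻¹) * y⁻¹ by group, hg])
      rwa [show y * g * z * (y * g)⁻¹ = y * (g * z * g⁻¹) * y⁻¹ by group, hg] at this)).symm
    set u' := y * u * y⁻¹
    rcases (mem_kl hz hu hzu).1 ((mem_normalizer_iff.1 h5 u).1 (mem_sup_right (mem_zpowers u)))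
      with e | e | e | e
    · exact absurd e (conj_ne_one hu.ne)
    · exact absurd (fix _ h4 u e).symm hne
    · exact hW ⟨hSz h4, mem_cent1_iff_conj.2 e⟩
    have h8 : t * u' ∈ kl z u := hW ⟨hSz (S.mul_mem (hTS tT) h4), mem_cent1_iff_conj.2 (by
      calc _ = t * (u' * u * u'⁻¹) * t⁻¹ := by group
        _ = t * z * t⁻¹ * (t * u * t⁻¹) := by rw [e]; group
        _ = u := by rw [tu, mem_cent1_iff_conj.1 (hSz (hTS tT)), hz.mul_cancel_left])⟩
    have h9 : t * u' * (t * u') = 1 := by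
      rcases (mem_kl hz hu hzu).1 h8 with e | e | e | e <;> rw [e]
      exacts [one_mul 1, hz.sq, hu.sq, (hz.mul hu hne hzu).sq]
    refine absurd (hST ▸ ⟨h4, L.mem_cent_iff.2 ?_⟩) h7
    rw [Commute, SemiconjBy, eq_inv_of_mul_eq_one_left h9, mul_inv_rev, ht.inv_eq, h6.inv_eq]
  have h3 := tri_norm hz hu hzu hx
  rw [((h.maxc hz).le_iff_eq (h.maxp Nat.prime_two (.of_card (n := 2) (card_kl hz hu hzu hne))
    fun e => hz.ne (mem_bot.1 (e ▸ mem_sup_left (mem_zpowers z)))).1).1 (hSz' ▸ hSW)] at h3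
  exact hne ((mem_cent1_iff_conj.1 h3).symm.trans hx.1)

theorem simple_four {t d : G} {r : ℕ} (ht : Inv t) (hr : r.Prime) (r2 : r ≠ 2) (hd : orderOf d = r)
    (hc : Commute t d) : IsSimpleGroup G ∧ ¬ 8 ∣ Nat.card G := by
  obtain ⟨T, hT⟩ := exists_isSyl Nat.prime_two 𝐂[t]
  have hS := h.isSyl_top ht hr r2 hd hc hT
  obtain ⟨S, rfl⟩ := hS.exists_sylow_top Nat.prime_two
  have tS : t ∈ (S : Subgroup G) := hT.le_of_le_norm Nat.prime_two ht.isPGroup
    (zpowers_le.2 (self_mem_cent1 t)) (norm_zp ht ▸ hT.le) (mem_zpowers t)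
  have hM := h.cent_eq ht hr r2 hd hc
  have d1 : zpowers d ≠ ⊥ := zpowers_ne_bot.2 fun e => hr.ne_one (by rw [← hd, e, orderOf_one])
  have hZ : ∀ v ∈ (S : Subgroup G), Inv v → v ∈ 𝐂((S : Subgroup G)) := fun v vS hv y hy => by
    have h1 : zpowers v ≤ 𝐍(zpowers d) := zpowers_le.2 (hM ▸ hT.le vS)
    obtain ⟨a, ha, w, hw, e⟩ := (H1.mem_sup_iff_of_le_normalizer h1).1 ((mem_normalizer_iff.1
      ((h.factA hr Nat.prime_two r2 (isPGroup_zp hd) d1 hv.isPGroup h1).ge (hM ▸ hT.le hy)) v).1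
      (mem_sup_left (mem_zpowers v)))
    have h2 : w ∈ zpowers d ⊓ S := ⟨hw, (mul_mem_cancel_left (zpowers_le.2 vS ha)).1
      (e ▸ mul_mem (mul_mem hy vS) (inv_mem hy))⟩
    rw [H1.inf_eq_bot_of_coprime' (coprime_card_of_isPGroup hr Nat.prime_two r2 (isPGroup_zp hd)
      S.isPGroup'), mem_bot] at h2
    rw [h2, mul_one] at e
    exact mul_inv_eq_iff_eq_mul.1 (((mem_zp hv).1 (e ▸ ha)).resolve_left (conj_ne_one hv.ne))
  obtain ⟨g, hg, hg'⟩ : ∃ g ∈ 𝐍((S : Subgroup G)), g ∉ 𝐂[t] := by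
    by_contra! h1
    refine (h.maxc ht).1 (eq_top_iff.2 fun g _ => L.mem_cent_iff.2
      (commutatorElement_eq_one_iff_commute.1 (mem_bot.1 (h.odd_core ▸ P1.zstar_sylow S
        ht.orderOf_eq tS (fun g hg => ?_) g))))
    obtain ⟨n, hn, e⟩ := S.conj_eq_normalizer_conj_of_mem_centralizer t g⁻¹ (hZ t tS ht)
      (by rw [inv_inv]; exact hZ _ hg (ht.conj g))
    rw [inv_inv] at e
    rw [e]
    simpa using mem_cent1_iff_conj.1 (inv_mem (h1 n hn))
  have hinv := fun v => h.invols (v := v) ht hr r2 hd hc hT.le tS hg hg'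
  have ht' := ht.conj g
  have t'S := (mem_normalizer_iff.1 hg t).1 tS
  have htt : t ≠ g * t * g⁻¹ := fun e => hg' (mem_cent1_iff_conj.2 e.symm)
  have hc' : Commute t (g * t * g⁻¹) := L.mem_cent_iff.1 (hT.le t'S)
  have hCt : 𝐂[g * t * g⁻¹] ≠ 𝐂[t] := fun e => hg' (h.mem_of_cent_eq ht e)
  set t' := g * t * g⁻¹
  have hV : ∀ v ∈ (S : Subgroup G), v * v = 1 → v ∈ kl t t' := fun v vS vv =>
    (mem_kl ht ht' hc').2 (or_iff_not_imp_left.2 fun v1 => hinv v vS ⟨v1, vv⟩)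
  have hfix : ∀ x ∈ 𝐍((S : Subgroup G)), Odd (orderOf x) → ∀ a ∈ (S : Subgroup G), Inv a →
      x * a * x⁻¹ = a → ∀ b ∈ (S : Subgroup G), Inv b → x * b * x⁻¹ = b := by
    intro x hx ho a aS ha e b bS hb
    by_contra hne
    have hab : a ≠ b := fun e' => hne (e' ▸ e)
    have hcm : Commute a b := (hZ a aS ha b bS).symm
    have h1 : kl a b = kl t t' := H1.eq_of_le_of_card_le (kl_le (hV a aS ha.sq) (hV b bS hb.sq))
      (by rw [card_kl ht ht' hc' htt, card_kl ha hb hcm hab])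
    rcases (mem_kl ha hb hcm).1 (h1 ▸ hV _ ((mem_normalizer_iff.1 hx b).1 bS) (hb.conj x).sq)
      with e' | e' | e' | e'
    · exact conj_ne_one hb.ne e'
    · exact hab (mul_left_cancel (mul_right_cancel (e.trans e'.symm)))
    · exact hne e'
    refine hne (mem_cent1_iff_conj.1 (mem_of_sq_mem ho (mem_cent1_iff_conj.2 ?_)))
    calc _ = x * (x * b * x⁻¹) * x⁻¹ := by group
      _ = x * a * x⁻¹ * (x * b * x⁻¹) := by conv_lhs => rw [e', ← conj_mul]
      _ = b := by rw [e, e', ha.mul_cancel_left]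
  obtain ⟨q, hq, Q, hQ, hQt⟩ : ∃ q : ℕ, q.Prime ∧ ∃ Q, IsSyl q Q 𝐍((S : Subgroup G)) ∧
      ¬ Q ≤ 𝐂[t] := by
    by_contra! h1
    exact hg' (le_of_forall_isSyl_le h1 hg)
  have q2 : q ≠ 2 := by
    rintro rfl
    exact hQt ((hS.le_of_norm Nat.prime_two hQ.pgrp le_top hQ.le).trans hT.le)
  obtain ⟨x, xQ, xt⟩ := SetLike.not_le_iff_exists.1 hQt
  have hx : ∀ a ∈ (S : Subgroup G), Inv a → x * a * x⁻¹ ≠ a := fun a aS ha e =>
    xt (mem_cent1_iff_conj.2 (hfix x (hQ.le xQ) (odd_orderOf_of_mem (odd_of_isPGroup hq q2 hQ.pgrp)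
      xQ) a aS ha e t tS ht))
  have hSV : (S : Subgroup G) ≤ kl t t' := fun y hy => by
    have h1 : ∀ g ∈ 𝐍((S : Subgroup G)), g ∈ 𝐍(kl t t') := fun g hg => mem_norm_of_conj_le (by
      rw [kl, Subgroup.map_sup, MonoidHom.map_zpowers, MonoidHom.map_zpowers]
      exact kl_le (hV _ ((mem_normalizer_iff.1 hg t).1 tS) (ht.conj g).sq)
        (hV _ ((mem_normalizer_iff.1 hg t').1 t'S) (ht'.conj g).sq))
    obtain ⟨v, hv, e⟩ := h.frat Nat.prime_two hq q2.symm (.of_card (n := 2) (card_kl ht ht' hc' htt))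
      (fun e => ht.ne (mem_bot.1 (e ▸ mem_sup_left (mem_zpowers t)))) hQ.pgrp
      (fun a ha => h1 a (hQ.le ha)) (h1 y (le_normalizer hy))
    have h2 := mul_mem (kl_le tS t'S hv) hy
    have h3 : v * y ∈ (S : Subgroup G) ⊓ 𝐂[x] := ⟨h2, L.mem_cent_iff.2 (commute_of_norm (coprime_card_of_isPGroup
      hq Nat.prime_two q2 hQ.pgrp S.isPGroup') h2 e xQ (hQ.le xQ)).symm⟩
    rw [eq_bot_of_no_inv S.isPGroup'.to_inf_left fun a ha h4 => hx a ha.1 h4
      (mul_inv_eq_iff_eq_mul.2 (L.mem_cent_iff.1 ha.2)), mem_bot] at h3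
    rw [eq_inv_of_mul_eq_one_right h3]
    exact inv_mem hv
  have h4 := card_le_of_le hSV
  rw [card_kl ht ht' hc' htt] at h4
  haveI : Nontrivial G := ⟨t, 1, ht.ne⟩
  refine ⟨⟨fun N hN => or_iff_not_imp_left.2 fun N1 => ?_⟩, fun h8 => absurd (Nat.le_of_dvd
    Nat.card_pos ((Nat.Coprime.pow_left 3 ((Nat.Prime.coprime_iff_not_dvd Nat.prime_two).2
      S.not_dvd_index)).dvd_of_dvd_mul_right ((S : Subgroup G).card_mul_index ▸ h8))) (by omega)⟩
  obtain ⟨a, aN, ha⟩ := exists_inv_of_even (X := N) fun ho => N1 (h.sol N hN (feit_thompson _ ho))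
  obtain ⟨c, -, e⟩ := hS.exists_conj_le Nat.prime_two ha.isPGroup le_top
  have vS : c * a * c⁻¹ ∈ (S : Subgroup G) := e (mem_map_of_mem _ (mem_zpowers a))
  have vN := hN.conj_mem a aN c
  have hv := ha.conj c
  set v := c * a * c⁻¹
  have wS := (mem_normalizer_iff.1 (hQ.le xQ) v).1 vS
  have hSN : (S : Subgroup G) ≤ N := (H1.eq_of_le_of_card_le (kl_le vS wS) (by
    rwa [card_kl hv (hv.conj x) (hZ v vS hv _ wS).symm (hx v vS hv).symm])).ge.trans
    (kl_le vN (hN.conj_mem v vN x))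
  have h5 : 𝐂[t] ≤ N := by
    rw [← (hT.of_le (le_inf hSN hT.le) inf_le_right).frattini Nat.prime_two ⟨inf_le_right,
      H1.le_normalizer_inf le_normalizer_of_normal le_normalizer⟩]
    refine sup_le inf_le_left ((hS.le_of_norm Nat.prime_two (isPGroup_two_of fun y hy hp =>
      by_contra fun y2 => hCt ?_) le_top inf_le_right).trans hSN)
    rw [h.cent_eq ht hp y2 rfl (L.mem_cent_iff.1 hy.1)]
    exact h.cent_eq ht' hp y2 rfl (mul_inv_eq_iff_eq_mul.1 (hfix y hy.2 (hp.odd_of_ne_two y2) t tS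
      ht (mem_cent1_iff_conj.1 hy.1) t' t'S ht') : Commute y t').symm
  by_contra hN'
  rw [((h.maxc ht).le_iff_eq hN').1 h5] at hN
  exact hCt ((cent1_conj t g).trans (H1.map_conj_eq_self_iff.2 (le_normalizer_of_normal (mem_top g))))

theorem dih {A : Subgroup G} {j : G} {r : ℕ} (hA : IsCyclic A) (ho : Odd 𝐨(A)) (hj : Inv j)
    (hi : ∀ a ∈ A, j * a * j⁻¹ = a⁻¹) (hr : r.Prime) (hd : r ∣ 𝐨(A)) : 𝐨(A) = r := by
  obtain ⟨d, dA, hd'⟩ := exists_mem_orderOf_eq_prime hr hd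
  haveI := hA.isMulCommutative
  rw [← hd', ← Nat.card_zpowers, le_antisymm (zpowers_le.2 dA) fun e he => ?_]
  obtain ⟨u, hu, h1⟩ := h.frat hr Nat.prime_two (fun e => by
    rw [e] at hd; exact Nat.two_dvd_ne_zero.2 (Nat.odd_iff.1 ho) hd) (isPGroup_zp hd')
    (zpowers_ne_bot.2 fun e => hr.ne_one (by rw [← hd', e, orderOf_one])) hj.isPGroup
    (zpowers_le.2 (mem_normalizer_fintype fun x hx => by
      rw [hi x (zpowers_le.2 dA hx)]; exact inv_mem hx)) (g := e)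
    (centralizer_le_normalizer _ fun x hx => setLike_mul_comm (zpowers_le.2 dA hx) he)
  have h2 := mul_mem (zpowers_le.2 dA hu) he
  rw [norm_zp hj] at h1
  rw [eq_inv_of_mul_eq_one_right (eq_one_of_eq_inv (odd_orderOf_of_mem ho h2)
    ((mul_inv_eq_iff_eq_mul.2 (L.mem_cent_iff.1 h1)).symm.trans (hi _ h2)))]
  exact inv_mem hu

theorem isL2 [Nontrivial G] : IsSimpleGroup G ∧ P7.IsL2 (⊤ : Subgroup G) 13 := by
  obtain ⟨t, ht, d, hd, hp, h2⟩ : ∃ t : G, Inv t ∧ ∃ d ∈ 𝐂[t], (orderOf d).Prime ∧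
      orderOf d ≠ 2 := by
    by_contra! h1
    exact h.not_cit fun t ht => isPGroup_two_of (h1 t ht)
  obtain ⟨hs, h8⟩ := h.simple_four ht hp h2 rfl (L.mem_cent_iff.1 hd)
  refine ⟨hs, ?_⟩
  obtain ⟨K, _, _, h3, h4, ⟨e⟩⟩ := P5.isL2_of_simple (G := G) (fun _ => top_ne_bot
    (h.sol ⊤ inferInstance (H1.isSolvable_of_isMulCommutative inferInstance))) h8
  have hL : P7.IsL2 (⊤ : Subgroup G) (Fintype.card K) :=
    ⟨⟨K, _, _, rfl, ⟨topEquiv.trans e⟩⟩, h4, by omega⟩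
  suffices Fintype.card K = 13 from this ▸ hL
  obtain ⟨s, hs, s0, hs0, hV⟩ := P7.l2Four G ⊤ _ hL
  obtain ⟨F⟩ := P7.l2Api G ⊤ ⊤ 1 _ s s0 hL.lm hV hs hs0
  have ep := F.toL2F.ep
  have h5 := F.five
  have eps := F.eps
  have eps' := ep.eps
  have is : Inv s := ⟨hV.t1, hV.tt⟩
  have is0 : Inv s0 := ⟨hV.s1, hV.ss⟩
  have hoT : Odd 𝐨(F.T) := F.cardT ▸ ep.oddl
  have hk := Nat.odd_iff.1 F.oddk
  have k1 : F.k ≠ 1 := fun e => by
    have h6 := F.cardR
    rw [e, card_eq_one] at h6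
    have h7 : 𝐂[s] ≤ kl s s0 := fun g hg => by
      have h9 := F.lt.hyp.cover g ⟨mem_top g, hg⟩
      have a1 : s ∈ kl s s0 := mem_sup_left (mem_zpowers s)
      have a2 : s0 ∈ kl s s0 := mem_sup_right (mem_zpowers s0)
      rw [h6] at h9
      rcases h9 with e | e | e | e
      · exact bot_le (a := kl s s0) e
      · exact (mul_mem_cancel_right a1).1 (bot_le (a := kl s s0) e)
      · exact (mul_mem_cancel_left a2).1 (bot_le (a := kl s s0) e)
      · exact (mul_mem_cancel_left a2).1 ((mul_mem_cancel_right a1).1 (bot_le (a := kl s s0) e))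
    have h9 := tri_norm is is0 hV.comm F.tri
    rw [((h.maxc is).le_iff_eq (h.maxp Nat.prime_two (.of_card (n := 2)
      (card_kl is is0 hV.comm hV.ts)) fun e => is.ne (mem_bot.1
        (e ▸ mem_sup_left (mem_zpowers s)))).1).1 (h7.trans le_normalizer)] at h9
    exact hV.ts ((mem_cent1_iff_conj.1 h9).symm.trans F.tri.1)
  have hq3 : ¬ 3 ∣ Fintype.card K := fun h3 => by
    have hp3 : F.p = 3 := ((Nat.prime_dvd_prime_iff_eq Nat.prime_three F.hp).1
      (Nat.prime_three.dvd_of_dvd_pow (h3.trans F.hq.dvd))).symm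
    obtain ⟨u, uP, hu⟩ := exists_mem_orderOf_eq_prime Nat.prime_three (h3.trans F.cardP.symm.dvd)
    have u1 : u ≠ 1 := fun e => by simp [e] at hu
    have h6 : 𝐍(F.P) = 𝐍(zpowers u) := ((h.maxp Nat.prime_three (isPGroup_zp hu)
      (zpowers_ne_bot.2 u1)).le_iff_eq (h.maxp F.hp (.of_card (F.cardP.trans F.hq))
        fun e => u1 (mem_bot.1 (e ▸ uP))).1).1 fun g hg => F.tiP u uP u1 g (mem_top g)
          (le_normalizer (zpowers_le.2 uP ((mem_normalizer_iff.1 hg u).1 (mem_zpowers u))))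
    have key : ∀ A ≤ F.H, Odd 𝐨(A) → (Fintype.card K).Coprime 𝐨(A) → 𝐨(A) = 1 := by
      intro A hA ho hc
      have h7 : A ≤ 𝐍(zpowers u) := hA.trans
        (le_sup_right.trans (F.normP.ge.trans (inf_le_right.trans h6.le)))
      rw [card_eq_one, eq_bot_iff, ← H1.inf_eq_bot_of_coprime' (F.cardP ▸ hc)]
      refine fun w hw => ⟨F.centP u uP u1 ▸ ⟨mem_top w, mem_of_sq_mem (odd_orderOf_of_mem ho hw)
        (mem_cent1_iff_conj.2 ?_)⟩, hw⟩
      classical
      obtain ⟨k, hk, e⟩ := Finset.mem_image.1 ((mem_zpowers_iff_mem_range_orderOf).1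
        ((mem_normalizer_iff.1 (h7 hw) u).1 (mem_zpowers u)))
      rw [hu, Finset.mem_range] at hk
      calc _ = w * (w * u * w⁻¹) * w⁻¹ := by group
        _ = (w * u * w⁻¹) ^ k := by conv_lhs => rw [← e, ← conj_pow]
        _ = u := by
          rw [← e, ← pow_mul]
          interval_cases k
          · exact absurd e.symm (by rw [pow_zero]; exact conj_ne_one u1)
          · exact pow_one u
          · rw [show 2 * 2 = 3 + 1 from rfl, pow_succ, orderOf_dvd_iff_pow_eq_one.1 hu.dvd, one_mul]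
    rcases eps with ⟨-, -, e⟩ | ⟨-, e1, e⟩
    · exact k1 (F.cardR ▸ key _ (e ▸ le_sup_left) (F.cardR ▸ F.oddk)
        (F.cardR ▸ Nat.Coprime.coprime_mul_left_right ep.cop_qk))
    · have := key _ e.ge hoT (F.cardT ▸ ep.cop_ql)
      rw [F.cardT] at this
      omega
  have hl3 : ¬ 3 ∣ F.l := fun h3 => by
    have := h.dih F.cycT hoT is0 F.invT Nat.prime_three (F.cardT ▸ h3)
    rw [F.cardT] at this
    omega
  have hk3 : F.k = 3 := F.cardR ▸ h.dih F.lt.cyc F.lt.hyp.odd is0 F.lt.inv Nat.prime_three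
    (by
      rw [F.cardR]
      obtain ⟨c, e | e | e⟩ : ∃ c, F.k = 3 * c ∨ F.k = 3 * c + 1 ∨ F.k = 3 * c + 2 :=
        ⟨F.k / 3, by omega⟩
      · exact ⟨c, e⟩
      · rcases eps' with ⟨e1, e2⟩ | ⟨e1, e2⟩
        exacts [absurd ⟨2 * c + 1, by omega⟩ hl3, absurd ⟨4 * c + 1, by omega⟩ hq3]
      · rcases eps' with ⟨e1, e2⟩ | ⟨e1, e2⟩
        exacts [absurd ⟨4 * c + 3, by omega⟩ hq3, absurd ⟨2 * c + 1, by omega⟩ hl3])
  by_contra h13
  have h11 : Fintype.card K = 11 := by omega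
  have hl : F.l = 5 := by omega
  have hG : Nat.card G = 660 := by rw [← card_top, F.cardL, hk3, hl]; omega
  obtain ⟨H0, hH0⟩ := exists_card_sixty (F := K) (by rw [Nat.card_eq_fintype_card, h11]; decide)
    (by rw [← Nat.card_congr e.toEquiv, hG]; norm_num)
  have hH : 𝐨(H0.map e.symm.toMonoidHom) = 60 := (card_map_of_injective e.symm.injective).trans hH0
  haveI := Fact.mk Nat.prime_five
  have hT5 : 𝐨(F.T) = 5 := F.cardT.trans hl
  have hT : IsSyl 5 F.T ⊤ := ⟨le_top, .of_card (n := 1) hT5, by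
    have := H1.card_mul_relIndex (le_top : F.T ≤ ⊤)
    rw [hT5, card_top, hG] at this
    omega⟩
  obtain ⟨Q, hQ, hQ5⟩ := exists_le_card_eq_prime Nat.prime_five (hH ▸ by norm_num :
    5 ∣ 𝐨(H0.map e.symm.toMonoidHom))
  obtain ⟨g, -, hg⟩ := hT.exists_conj_eq Nat.prime_five
    (hT.of_card_eq Nat.prime_five le_top (hQ5.trans hT5.symm))
  have hTH : F.T ≤ H0.map e.symm.toMonoidHom ^ᵍ g := hg ▸ map_mono hQ
  rw [← card_conj _ g] at hH
  set H := H0.map e.symm.toMonoidHom ^ᵍ g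
  have h6 : 𝐨(𝐍(F.T)) ≤ 10 := by
    obtain ⟨w, wT, hw⟩ := exists_mem_orderOf_eq_prime Nat.prime_five hT5.symm.dvd
    have hn : zpowers s0 ≤ 𝐍(F.T) := zpowers_le.2 (mem_normalizer_fintype fun x hx => by
      rw [F.invT x hx]; exact inv_mem hx)
    have h7 := Nat.le_of_dvd (mul_pos Nat.card_pos Nat.card_pos) (H1.card_sup_dvd hn)
    rw [is0.card_zpowers, hT5] at h7
    refine (card_le_of_le fun g hg => ?_).trans h7
    rcases F.normT w wT (fun e => by simp [e] at hw) g (mem_top g)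
      ((mem_normalizer_iff.1 hg w).1 wT) with e | e
    · exact mem_sup_right e
    · exact (mul_mem_cancel_left (mem_sup_left (mem_zpowers s0))).1 (mem_sup_right e)
  have h7 := card_sylow_modEq_one 5 H
  have h9 := hT.of_le hTH le_top
  rw [H9.card_sylow_subgroup hTH h9.pgrp h9.ndvd] at h7
  have h10 := H1.card_inf_mul_relIndex 𝐍(F.T) H
  have h12 := Subgroup.card_dvd_of_le (le_inf le_normalizer hTH)
  have h14 := card_le_of_le (inf_le_left : 𝐍(F.T) ⊓ H ≤ _)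
  rw [hH] at h10
  rw [hT5] at h12
  have h15 : 𝐨((𝐍(F.T) ⊓ H : Subgroup G)) = 10 := by
    obtain ⟨c, hc⟩ := h12
    rw [hc] at h10 h14 ⊢
    have : c ≤ 2 := by omega
    rw [Nat.ModEq] at h7
    interval_cases c <;> omega
  have h16 := ((h.maxp Nat.prime_five hT.pgrp (ne_bot_of_card_prime (hT5 ▸ Nat.prime_five))).le_iff_eq
    (fun e => by rw [e, card_top, hG] at hH; omega)).1
    (inf_eq_left.1 (H1.eq_of_le_of_card_le inf_le_left (h15 ▸ h6)))
  rw [h16] at hH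
  omega

end Cfsg.Agent.Cj.MN
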