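/-
Non-solvable groups in which non-subnormal `{p, q}`-subgroups have maximal normalizers.
-/
import Cfsg.Agent.Cj.MN2
import Cfsg.Agent.Cj.App4
import Cfsg.Agent.S4211
import Cfsg.Agent.H6.Burnside

set_option autoImplicit false
set_option linter.unusedSectionVars false
set_option linter.style.haveILetI false

namespace Cfsg.Agent.Cj

open Subgroup Cfsg Cfsg.Agent Cfsg.Agent.FT Cfsg.Agent.P6
open Cfsg.Agent.P5 (Tri)
open scoped IsMulCommutative commutatorElement

universe u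

variable {G X : Type u} [Group G] [Finite G] [Group X] [Finite X] {f : G →* X}

theorem exists_lift {K : Subgroup G} (hK : K.map f = ⊤) {p : ℕ} (hp : p.Prime) {y : X}
    (hy : IsPGroup p (zpowers y)) : ∃ x ∈ K, f x = y ∧ IsPGroup p (zpowers x) := by
  have hf : Function.Surjective (f.comp K.subtype) := fun y => by
    obtain ⟨x, hx, e⟩ := hK.ge (mem_top y)
    exact ⟨⟨x, hx⟩, e⟩
  obtain ⟨Y, hY⟩ := exists_isSyl hp ((zpowers y).comap (f.comp K.subtype))
  obtain ⟨x, hx, e⟩ := (map_of_isSyl hf hp hy hY).ge (mem_zpowers y)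
  exact ⟨x, x.2, e, (hY.pgrp.map K.subtype).to_le (zpowers_le.2 (mem_map_of_mem _ hx))⟩

theorem isPGroup_zp_conj {p : ℕ} {x : G} (hx : IsPGroup p (zpowers x)) (g : G) :
    IsPGroup p (zpowers (g * x * g⁻¹)) := by
  have := hx.map (MulAut.conj g).toMonoidHom
  rwa [MonoidHom.map_zpowers] at this

theorem isPGroup_zp_mul {p : ℕ} {x r : G} (hx : IsPGroup p (zpowers x))
    (hr : IsPGroup p (zpowers r)) (hc : Commute x r) : IsPGroup p (zpowers (x * r)) :=
  (isPGroup_sup hx hr (H1.le_normalizer_of_le_centralizer (zp_le_cent hc))).to_le (zpowers_le.2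
    (mul_mem (mem_sup_left (mem_zpowers x)) (mem_sup_right (mem_zpowers r))))

theorem quat_rel {G : Type*} [Group G] {a b ζ : G} (e2 : b * (a * b * ζ) * ζ = a)
    (e4 : b * ζ * (b * ζ) = a * ζ * (a * ζ)) (c1 : Commute a ζ) (c2 : Commute b ζ) :
    a * ζ * (a * ζ) * (a * ζ * (a * ζ)) = 1 := by
  have e5 : b * ζ * (a * ζ) * (b * ζ) = a * ζ := by
    calc _ = b * (ζ * a) * (ζ * b) * ζ := by simp only [mul_assoc]
      _ = b * (a * (ζ * b) * ζ) * ζ := by rw [← c1.eq, ← c2.eq]; simp only [mul_assoc, c2.eq]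
      _ = b * (a * b * ζ) * ζ * ζ := by rw [← c2.eq]; simp only [mul_assoc]
      _ = _ := by rw [e2]
  generalize a * ζ = x at *
  generalize b * ζ = y at *
  have e7 : y * x * y⁻¹ = x⁻¹ := by
    calc _ = y * x * y * (y * y)⁻¹ := by group
      _ = _ := by rw [e5, e4]; group
  have e8 : y * (x * x) * y⁻¹ = x * x := by rw [← e4]; group
  rw [← conj_mul, e7] at e8
  nth_rw 1 [← e8]
  group

theorem two_ne_13 : (2 : ZMod 13) ≠ 0 := by decide

/-- Normalizers of `{p, q}`-subgroups are the preimages of those in `X ≅ PSL₂(13)`. -/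
structure NX (f : G →* X) : Prop where
  surj : Function.Surjective f
  norm : ∀ p q : ℕ, p.Prime → q.Prime → ∀ H : Subgroup G, IsPiSubgroup {p, q} H → ¬ H ≤ f.ker →
    ∀ g, f g ∈ 𝐍(H.map f) → g ∈ 𝐍(H)
  simple : IsSimpleGroup X
  l2 : P7.IsL2 (⊤ : Subgroup X) 13

namespace NX

variable (h : NX f)
include h

theorem card : Nat.card X = 1092 := by
  have := two_mul_card_L2 h.l2
  rw [card_top] at this
  omega

theorem perf : commutator X = ⊤ :=
  (h.simple.eq_bot_or_eq_top_of_normal _ inferInstance).resolve_left fun e => by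
    haveI := (commutator_eq_bot_iff X).1 e
    haveI := h.simple
    exact absurd (h.card ▸ IsSimpleGroup.prime_card) (by norm_num)

theorem normp {p : ℕ} (hp : p.Prime) {x g : G} (hx : IsPGroup p (zpowers x)) (x1 : f x ≠ 1)
    (hg : f g ∈ 𝐍(zpowers (f x))) : g ∈ 𝐍(zpowers x) :=
  h.norm p p hp hp _ (isPi_of_isPGroup hp hx (by simp)) (fun e => x1 (e (mem_zpowers x))) g
    (by rwa [MonoidHom.map_zpowers])

theorem map_cent : 𝐂(f.ker).map f = ⊤ := by
  let A : ℕ → Subgroup G := fun p =>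
    centralizer {r | r ∈ f.ker ∧ ∃ q : ℕ, q.Prime ∧ q ≠ p ∧ IsPGroup q (zpowers r)}
  have hA : ∀ p, (A p).Normal := fun p => ⟨fun x hx g r ⟨h1, q, hq, h2, h3⟩ => by
    have h4 := hx (g⁻¹ * r * g⁻¹⁻¹) ⟨Normal.conj_mem inferInstance r h1 _, q, hq, h2,
      isPGroup_zp_conj h3 _⟩
    calc _ = g * (g⁻¹ * r * g⁻¹⁻¹ * x) * g⁻¹ := by group
      _ = _ := by rw [h4]; group⟩
  have hA' : ∀ p : ℕ, p.Prime → p ∣ 1092 → (A p).map f = ⊤ := fun p hp hd => by
    refine (h.simple.eq_bot_or_eq_top_of_normal _ ((hA p).map f h.surj)).resolve_left fun e => ?_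
    haveI := Fact.mk hp
    obtain ⟨y, hy⟩ := exists_prime_orderOf_dvd_card' (G := X) p (h.card ▸ hd)
    obtain ⟨x, -, rfl, hx⟩ := exists_lift (map_top_of_surjective f h.surj) hp (isPGroup_zp hy)
    have x1 : f x ≠ 1 := fun e => hp.ne_one (by rw [← hy, e, orderOf_one])
    refine x1 (mem_bot.1 (e ▸ mem_map_of_mem f fun r ⟨h1, q, hq, h2, h3⟩ => ?_))
    have hn : zpowers r ≤ 𝐍(zpowers x) := zpowers_le.2 (h.normp hp hx x1
      (by rw [MonoidHom.mem_ker.1 h1]; exact one_mem _))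
    have h4 := H1.commutator_sup_centralizer hn (coprime_card_of_isPGroup hq hp h2 h3 hx)
      (Or.inl (Inv.solv r))
    rcases BG12b.le_or_le_of_cyclic hp hx inferInstance (le_sup_left.trans h4.le)
      (le_sup_right.trans h4.le) with h5 | h5
    · rw [sup_eq_right.2 h5] at h4
      exact (h4.ge (mem_zpowers x)).2 r (mem_zpowers r)
    · rw [sup_eq_left.2 h5] at h4
      exact absurd ((commutator_mono le_rfl (zpowers_le.2 h1)).trans (commutator_le_right _ _)
        (h4.ge (mem_zpowers x))) x1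
  haveI := hA 2
  haveI := hA 3
  rw [eq_top_iff, ← h.perf, _root_.commutator_def, ← hA' 2 Nat.prime_two (by norm_num)]
  nth_rw 2 [hA' 2 Nat.prime_two (by norm_num)]
  rw [← hA' 3 Nat.prime_three (by norm_num), ← map_commutator]
  refine map_mono ((commutator_le_inf _ _).trans (le_centralizer_iff.1
    (le_of_forall_isSyl_le fun q hq Q hQ r hr x hx => ?_)))
  by_cases q2 : q = 2
  · exact (hx.2 r ⟨hQ.le hr, q, hq, by omega, hQ.pgrp.to_le (zpowers_le.2 hr)⟩).symm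
  · exact (hx.1 r ⟨hQ.le hr, q, hq, q2, hQ.pgrp.to_le (zpowers_le.2 hr)⟩).symm

theorem not_dvd {K : Subgroup G} (hK : K.map f = ⊤) (hC : K ≤ 𝐂(f.ker)) {p : ℕ} (hp : p.Prime)
    (h1 : p ∣ 1092) (h2 : ¬ p ^ 2 ∣ 1092) : ¬ p ∣ 𝐨(f.ker) := fun hd => by
  haveI := Fact.mk hp
  obtain ⟨r, hr, ho⟩ := exists_mem_orderOf_eq_prime hp hd
  obtain ⟨y, hy⟩ := exists_prime_orderOf_dvd_card' (G := X) p (h.card ▸ h1)
  have y1 : y ≠ 1 := fun e => hp.ne_one (by rw [← hy, e, orderOf_one])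
  obtain ⟨P, hP⟩ := (isPGroup_zp hy).exists_le_sylow
  have hP' : zpowers y = P := H1.eq_of_le_of_card_le hP (by
    obtain ⟨k, hk⟩ := P.isPGroup'.exists_card_eq
    rw [hk, Nat.card_zpowers, hy]
    exact (Nat.pow_le_pow_right hp.pos (Nat.le_of_lt_succ (not_le.1 fun e => h2
      ((pow_dvd_pow p e).trans (hk ▸ h.card ▸ card_subgroup_dvd_card _))))).trans (pow_one p).le)
  haveI : IsMulCommutative (P : Subgroup X) := hP' ▸ inferInstance
  refine y1 (H7.CA.eq_one_of_transfer P (hP (mem_zpowers y)) (h.perf ▸ mem_top y) fun m hm => ?_)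
  obtain ⟨x, xK, rfl, hx⟩ := exists_lift hK hp (isPGroup_zp hy)
  obtain ⟨n, nK, rfl⟩ := hK.ge (mem_top m)
  rw [← hP'] at hm
  have hr' : f r = 1 := hr
  have hxr : Commute x r := (hC xK r hr).symm
  obtain ⟨i, hi⟩ := (mem_normalizer_iff.1 (h.normp hp hx y1 hm) x).1 (mem_zpowers x)
  obtain ⟨k, hk⟩ := (mem_normalizer_iff.1 (h.normp (g := n) hp (isPGroup_zp_mul hx
    (isPGroup_zp ho) hxr) (by rwa [map_mul, hr', mul_one]) (by rwa [map_mul, hr', mul_one])) _).1 (mem_zpowers (x * r))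
  dsimp only at hi hk
  have hnr : n * r * n⁻¹ = r := mul_inv_eq_iff_eq_mul.2 (hC nK r hr).symm
  rw [← conj_mul, hnr, ← hi, hxr.mul_zpow] at hk
  have key : ∀ j : ℤ, r ^ j = r → f x ^ j = f x := fun j hj => by
    rw [← zpow_one (f x), ← zpow_mul, one_mul, zpow_eq_zpow_iff_modEq, hy, ← ho,
      ← zpow_eq_zpow_iff_modEq, zpow_one, hj]
  refine (mul_inv_eq_iff_eq_mul.1 ?_ : Commute (f n) (f x)).symm
  rw [← map_inv, ← map_mul, ← map_mul, ← hi, map_zpow]
  by_cases h3 : r ^ k = r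
  · have h4 := congrArg f hk
    rw [map_mul, map_mul, map_zpow, map_zpow, map_zpow, hr', one_zpow, mul_one, mul_one] at h4
    rw [← h4, key k h3]
  have h4 : r ∈ zpowers x := by
    have h5 : r ^ k * r⁻¹ ∈ zpowers x := by
      rw [show r ^ k * r⁻¹ = (x ^ k)⁻¹ * x ^ i by rw [eq_inv_mul_iff_mul_eq, ← mul_assoc, hk]; group]
      exact mul_mem (inv_mem (zpow_mem_zpowers x k)) (zpow_mem_zpowers x i)
    refine zpowers_le.2 h5 ?_
    rw [zpowers_eq_of_card_prime (X := zpowers r) (by rwa [Nat.card_zpowers, ho])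
      (mul_mem (zpow_mem_zpowers r k) (inv_mem (mem_zpowers r))) (mul_inv_eq_one.not.2 h3)]
    exact mem_zpowers r
  obtain ⟨j, rfl⟩ := h4
  dsimp only at hnr key
  exact key i (by rw [← zpow_mul, mul_comm, zpow_mul, hi, conj_zpow, hnr])

theorem main : ∃ K S : Subgroup G, K.Normal ∧ S.Normal ∧ K ⊓ S = ⊥ ∧ K ⊔ S = ⊤ ∧
    (Nonempty (K ≃* Matrix.ProjectiveSpecialLinearGroup (Fin 2) (ZMod 13)) ∨
      Nonempty (K ≃* Matrix.SpecialLinearGroup (Fin 2) (ZMod 13))) ∧
    IsMulCommutative S ∧ (Nat.card K).Coprime (Nat.card S) := by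
  set R := f.ker with hR
  let K := ⁅𝐂(R), 𝐂(R)⁆
  have hK : K.map f = ⊤ := by rw [map_commutator, h.map_cent, ← _root_.commutator_def, h.perf]
  have hC : K ≤ 𝐂(R) := commutator_le_left _ _
  have h3 := h.not_dvd hK hC Nat.prime_three (by norm_num) (by norm_num)
  have h7 := h.not_dvd hK hC Nat.prime_seven (by norm_num) (by norm_num)
  have p13 : Nat.Prime 13 := by norm_num
  have h13 := h.not_dvd hK hC p13 (by norm_num) (by norm_num)
  have hpr : ∀ q : ℕ, q.Prime → q ∣ 1092 → q ∣ 𝐨(R) → q = 2 := fun q hq h1 h2 => by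
    have h4 : q ∣ 2 * 2 * 3 * 7 * 13 := h1
    simp only [hq.dvd_mul, Nat.prime_dvd_prime_iff_eq hq, Nat.prime_two, Nat.prime_three,
      Nat.prime_seven, p13, or_self] at h4
    rcases h4 with ((rfl | rfl) | rfl) | rfl
    exacts [rfl, absurd h2 h3, absurd h2 h7, absurd h2 h13]
  have hKR : IsPGroup 2 (K ⊓ R : Subgroup G) := isPGroup_two_of fun r hr hq => hpr _ hq (by
    by_contra h1
    haveI := Fact.mk hq
    obtain ⟨P, hP⟩ := (isPGroup_zp (d := (⟨r, hC hr.1⟩ : 𝐂(R))) (r := orderOf r)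
      (Subgroup.orderOf_coe _).symm).exists_le_sylow
    have h2 : ∀ y ∈ (P : Subgroup 𝐂(R)), (y : G) ∈ R := fun y hy => by
      obtain ⟨k, hk⟩ := P.isPGroup' ⟨y, hy⟩
      refine orderOf_eq_one_iff.1 (Nat.eq_one_of_dvd_coprimes (((Nat.Prime.coprime_iff_not_dvd
        hq).2 h1).pow_left k) (orderOf_dvd_of_pow_eq_one ?_) (h.card ▸ orderOf_dvd_natCard _))
      rw [← map_pow, show (y : G) ^ orderOf r ^ k = 1 from congrArg (fun x : P => (x.1 : G)) hk,
        map_one]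
    haveI : IsMulCommutative (P : Subgroup 𝐂(R)) :=
      ⟨⟨fun a b => Subtype.ext (Subtype.ext (b.1.2 a (h2 a a.2)))⟩⟩
    have h4 := H7.CA.eq_one_of_transfer P (hP (mem_zpowers _)) (by
      obtain ⟨y, hy, e⟩ := (map_subtype_commutator 𝐂(R)).ge hr.1
      exact (Subtype.ext e : y = ⟨r, hC hr.1⟩) ▸ hy) fun n _ => Subtype.ext (n.2 r hr.2)
    exact hq.ne_one (by rw [show r = 1 from congrArg Subtype.val h4, orderOf_one]))
    (orderOf_dvd_card_of_mem hr.2)
  obtain ⟨s, hs, s0, hs0, hV⟩ := P7.l2Four X ⊤ _ h.l2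
  obtain ⟨F⟩ := P7.l2Api X ⊤ ⊤ 1 _ s s0 h.l2.lm hV hs hs0
  have is : Inv s := ⟨hV.t1, hV.tt⟩
  have is0 : Inv s0 := ⟨hV.s1, hV.ss⟩
  haveI := Fact.mk Nat.prime_three
  have x1 : F.x ≠ 1 := fun e => hV.ts (by simpa [e] using F.tri.1)
  obtain ⟨w, wK, hw, hw3⟩ := exists_lift hK Nat.prime_three
    (isPGroup_zp (orderOf_eq_prime F.x3 x1))
  have w3 : w ^ 3 = 1 := by_contra fun e => h3 ((prime_dvd_card_of_isPGroup Nat.prime_three
    (hw3.to_le (zpowers_le.2 (pow_mem (mem_zpowers w) 3))) (zpowers_ne_bot.2 e)).trans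
      (Subgroup.card_dvd_of_le (zpowers_le.2 (by
        rw [MonoidHom.mem_ker, map_pow, hw, F.x3]))))
  have hcw : ∀ a, f (w * a * w⁻¹) = F.x * f a * F.x⁻¹ := fun a => by
    rw [map_mul, map_mul, map_inv, hw]
  have hz : ∀ {a r}, a ∈ K → r ∈ R → Commute a r := fun ha hr => (hC ha _ hr).symm
  have hsq : ∀ {a}, f a = s → a * a ∈ R := fun e => by rw [MonoidHom.mem_ker, map_mul, e, is.sq]
  have hsq' : ∀ {a}, f a = s → w * a * w⁻¹ * (w * a * w⁻¹) = a * a := fun e => by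
    rw [conj_mul, hz wK (hsq e), mul_inv_cancel_right]
  have key : ∀ a ∈ K, f a = s → IsPGroup 2 (zpowers a) → ∀ r ∈ R, IsPGroup 2 (zpowers r) →
      r ∈ zpowers (a * a) := by
    intro a aK ha h1 r hr h2
    have hr' : f r = 1 := hr
    have har : f (a * r) = s := by rw [map_mul, hr', mul_one, ha]
    have hb : f (w * a * w⁻¹) = s0 := by rw [hcw, ha, F.tri.1]
    have h4 : IsPGroup 2 (zpowers (w * a * w⁻¹)) := isPGroup_zp_conj h1 w
    have hn : zpowers (a * r) ≤ 𝐍(zpowers (w * a * w⁻¹)) := zpowers_le.2 (h.normp Nat.prime_two h4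
      (hb ▸ is0.ne) (by rw [har, hb, norm_zp is0]; exact L.mem_cent_iff.2 hV.comm.symm))
    have h5 := h.norm 2 2 Nat.prime_two Nat.prime_two _ (isPi_of_isPGroup Nat.prime_two
      (isPGroup_sup (isPGroup_zp_mul h1 h2 (hz aK hr)) h4 hn) (by simp))
      (fun e => is.ne (har ▸ e (mem_sup_left (mem_zpowers _)))) w (by
        rw [Subgroup.map_sup, MonoidHom.map_zpowers, MonoidHom.map_zpowers, har, hb, hw]
        exact MN.tri_norm is is0 hV.comm F.tri)
    have h6 := (mem_normalizer_iff.1 h5 _).1 (mem_sup_left (mem_zpowers _))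
    rw [← conj_mul, hz wK hr, mul_inv_cancel_right,
      mul_mem_cancel_left (mem_sup_right (mem_zpowers _))] at h6
    obtain ⟨y, hy, y', hy', e⟩ := (H1.mem_sup_iff_of_le_normalizer hn).1 h6
    obtain ⟨c, hc, e1⟩ := S4211.zpowers_split hy
    obtain ⟨c', hc', e2⟩ := S4211.zpowers_split hy'
    rw [pow_two] at hc hc'
    rw [hsq' ha] at hc'
    have f1 : f c = 1 := zpowers_le.2 (hsq har) hc
    have f2 : f c' = 1 := zpowers_le.2 (hsq ha) hc'
    have h8 := congrArg f e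
    rw [hr', map_mul] at h8
    obtain ⟨rfl, rfl⟩ : y = c ∧ y' = c' := by
      rcases e1 with rfl | rfl <;> rcases e2 with rfl | rfl
      · exact ⟨rfl, rfl⟩
      · exact absurd (by simpa only [map_mul f c', f1, f2, hb, one_mul] using h8) is0.ne
      · exact absurd (by simpa only [map_mul f c, f1, f2, har, one_mul, mul_one] using h8) is.ne
      · rw [map_mul, map_mul f c', f1, f2, har, hb, one_mul, one_mul] at h8
        exact absurd h8 (is.mul is0 hV.ts hV.comm).ne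
    obtain ⟨m, hm⟩ := (mem_powers_iff_mem_zpowers.2 (inv_mem hc))
    dsimp only at hm
    obtain ⟨k, hk⟩ := exists_card_eq_pow Nat.prime_two h2
    refine H8.mem_of_pow_mem_of_coprime (n := 2 * m + 1) (by
      rw [← Nat.card_zpowers, hk]; exact (Nat.coprime_two_left.2 (odd_two_mul_add_one m)).pow_left k) ?_
    rw [(hz aK hr).symm.mul_mul_mul_comm, (hz (mul_mem aK aK) (mul_mem hr hr)).mul_pow] at hm
    rw [show r ^ (2 * m + 1) = ((a * a) ^ m)⁻¹ * y' by
      rw [eq_inv_mul_iff_mul_eq, pow_succ, pow_mul, pow_two, ← mul_assoc, hm, ← e,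
        inv_mul_cancel_left]]
    exact mul_mem (inv_mem (pow_mem (mem_zpowers _) m)) hc'
  obtain ⟨a, aK, ha, h1, zz⟩ : ∃ a ∈ K, f a = s ∧ IsPGroup 2 (zpowers a) ∧
      a * a * (a * a) = 1 := by
    obtain ⟨a, aK, ha, h1⟩ := exists_lift hK Nat.prime_two is.isPGroup
    have wK' : ∀ {y}, y ∈ K → w * y * w⁻¹ ∈ K := fun hy => mul_mem (mul_mem wK hy) (inv_mem wK)
    set b := w * a * w⁻¹ with hb
    set ζ := (a * b)⁻¹ * (w * b * w⁻¹) with hζ
    have ζK : ζ ∈ K := mul_mem (inv_mem (mul_mem aK (wK' aK))) (wK' (wK' aK))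
    have ζR : ζ ∈ R := by
      rw [MonoidHom.mem_ker, map_mul, map_inv, map_mul, hcw b, hcw, ha, F.tri.1, F.tri.2,
        inv_mul_cancel]
    have ha' : f (a * ζ) = s := by rw [map_mul, ha, MonoidHom.mem_ker.1 ζR, mul_one]
    refine ⟨a * ζ, mul_mem aK ζK, ha', isPGroup_zp_mul h1
      (hKR.to_le (zpowers_le.2 ⟨ζK, ζR⟩)) (hz aK ζR), ?_⟩
    have e1 : w * b * w⁻¹ = a * b * ζ := by rw [hζ, mul_inv_cancel_left]
    have e2 : w * (w * b * w⁻¹) * w⁻¹ = a := by
      calc _ = w ^ 3 * a * (w ^ 3)⁻¹ := by rw [hb, pow_three]; group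
        _ = a := by rw [w3]; group
    have e3 : w * ζ * w⁻¹ = ζ := mul_inv_eq_iff_eq_mul.2 (hz wK ζR)
    have e4 := hsq' ha'
    rw [e1, ← conj_mul, ← conj_mul, e1, e3, ← hb] at e2
    rw [← conj_mul, e3, ← hb] at e4
    exact quat_rel e2 e4 (hz aK ζR) (hz (wK' aK) ζR)
  set z := a * a with hzz
  have zR : z ∈ R := hsq ha
  have zK : z ∈ K := mul_mem aK aK
  have pz : IsPGroup 2 (zpowers z) := h1.to_le (zpowers_le.2 (mul_mem (mem_zpowers a) (mem_zpowers a)))
  have hker : ∀ g : K, f.comp K.subtype g = 1 → g = 1 ∨ g = ⟨z, zK⟩ := fun g hg => by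
    have hi := key a aK ha h1 g hg (hKR.to_le (zpowers_le.2 ⟨g.2, hg⟩))
    by_cases z1 : z = 1
    · rw [← hzz, z1, zpowers_one_eq_bot] at hi
      exact Or.inl (Subtype.ext hi)
    exact ((mem_zp ⟨z1, zz⟩).1 hi).imp Subtype.ext Subtype.ext
  have hf : Function.Surjective (f.comp K.subtype) := fun y => by
    obtain ⟨x, hx, e⟩ := hK.ge (mem_top y)
    exact ⟨⟨x, hx⟩, e⟩
  obtain ⟨T, hT⟩ := exists_isSyl Nat.prime_two R
  have oz : Odd ((zpowers z).relIndex R) := Nat.odd_iff.2 (Nat.two_dvd_ne_zero.1 fun e =>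
    hT.ndvd (e.trans (relIndex_dvd_of_le_left _ fun r hr =>
      key a aK ha h1 r (hT.le hr) (hT.pgrp.to_le (zpowers_le.2 hr)))))
  obtain ⟨S, SR, hS, -, hc⟩ := H1.exists_complement_of_coprime (zpowers_le.2 zR)
    (fun r hr => centralizer_le_normalizer _ (by
      rintro _ ⟨i, rfl⟩
      exact (hz zK hr).zpow_left i)) (by
      obtain ⟨k, hk⟩ := exists_card_eq_pow Nat.prime_two pz
      rw [hk]; exact (Nat.coprime_two_left.2 oz).pow_left k)
  rw [← hc] at oz
  have hKS : K ⊔ S = ⊤ := by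
    rw [eq_top_iff, ← comap_top f, ← hK, comap_map_eq, ← hR, ← hS]
    exact sup_le le_sup_left (sup_le le_sup_right (le_sup_of_le_left (zpowers_le.2 zK)))
  have hX : ∀ (x : X) (k : ℕ), x ^ 2 ^ k = 1 → x * x = 1 := fun x k hx => by
    have c4 := card_kl is is0 hV.comm hV.ts
    have h4 := H1.card_mul_relIndex (le_top (a := kl s s0))
    rw [c4, card_top, h.card] at h4
    obtain ⟨j, -, hj⟩ := (Nat.dvd_prime_pow Nat.prime_two).1 (orderOf_dvd_of_pow_eq_one hx)
    obtain ⟨g, -, hg⟩ := IsSyl.exists_conj_le Nat.prime_two ⟨le_top, .of_card (n := 2) c4, by omega⟩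
      (.of_card ((Nat.card_zpowers x).trans hj)) le_top
    have h5 : g * x * g⁻¹ * (g * x * g⁻¹) = 1 := by
      rcases (mem_kl is is0 hV.comm).1 (hg (mem_map_of_mem _ (mem_zpowers x))) with e | e | e | e <;>
        rw [show g * x * g⁻¹ = _ from e]
      exacts [one_mul 1, is.sq, is0.sq, (is.mul is0 hV.ts hV.comm).sq]
    rwa [conj_mul, conj_eq_one_iff] at h5
  obtain ⟨k, _, _, hk, ⟨e⟩⟩ := h.l2.iso
  haveI := Fact.mk p13
  obtain ⟨e2⟩ := P3.nonempty_PSL2_equiv_of_ringEquiv (FiniteField.ringEquivOfCardEq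
    (K := k) (K' := ZMod 13) (by rw [hk, ZMod.card]))
  have e3 := (topEquiv.symm.trans e).trans e2
  refine ⟨K, S, inferInstance, normalizer_eq_top_iff.1 (eq_top_iff.2 (hKS.ge.trans (sup_le
    (hC.trans ((centralizer_le SR).trans (centralizer_le_normalizer _))) le_normalizer))),
    ?_, hKS, ?_, ?_, ?_⟩
  · exact eq_bot_iff.2 ((le_inf (inf_le_inf_left K SR) inf_le_right).trans
      (disjoint_iff.1 (disjoint_of_coprime_natCard (by
        obtain ⟨k, hk⟩ := exists_card_eq_pow Nat.prime_two hKR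
        rw [hk]; exact (Nat.coprime_two_left.2 oz).pow_left k))).le)
  · by_cases z1 : z = 1
    · exact Or.inl ⟨(MulEquiv.ofBijective _ ⟨(injective_iff_map_eq_one _).2 fun g hg =>
        (hker g hg).elim id fun e => e.trans (Subtype.ext z1), hf⟩).trans e3⟩
    obtain ⟨u, hu⟩ := exists_DC_SL2 (F := ZMod 13) two_ne_13
    refine Or.inr (DC.nonempty_equiv (π := f.comp K.subtype) (z := ⟨z, zK⟩) ⟨hf,
      fun e => z1 (congrArg Subtype.val e), Subtype.ext zz, zR, hker, fun g hg => ?_⟩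
      (hu.comp e3.symm) hX)
    by_cases g1 : f g = 1
    · exact hker g g1
    have gg : (g : G) * g = 1 := congrArg Subtype.val hg
    obtain ⟨x, -, hx⟩ := F.lt.hyp.conj (f g) (mem_top _) g1 (by rw [← map_mul, gg, map_one])
    obtain ⟨y, yK, rfl⟩ := hK.ge (mem_top x)
    have h4 := key (y⁻¹ * g * y⁻¹⁻¹) (mul_mem (mul_mem (inv_mem yK) g.2) (inv_mem (inv_mem yK)))
      (by rw [map_mul, map_mul, ← hx, inv_inv, map_inv]; group)
      (isPGroup_zp_conj (Inv.isPGroup ⟨fun e => g1 (by rw [e, map_one]), gg⟩) _) z zR pz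
    rw [conj_mul, gg, mul_one, mul_inv_cancel, zpowers_one_eq_bot] at h4
    exact absurd h4 z1
  · have hn : ∀ p : ℕ, p.Prime → ∀ Q ≤ R, IsPGroup p Q → ∀ g ∈ R, ∀ y ∈ Q, g * y * g⁻¹ ∈ Q := by
      intro p hp Q hQ pQ g hg y hy
      have hn : zpowers w ≤ 𝐍(Q) := zpowers_le.2
        (centralizer_le_normalizer _ (centralizer_le hQ (hC wK)))
      have h4 := h.norm 3 p Nat.prime_three hp _ (isPi_sup
        (isPi_of_isPGroup Nat.prime_three hw3 (by simp)) (isPi_of_isPGroup hp pQ (by simp)) hn)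
        (fun e => x1 (hw ▸ e (mem_sup_left (mem_zpowers w)))) g
        (by rw [MonoidHom.mem_ker.1 hg]; exact one_mem _)
      obtain ⟨u, hu, v, hv, e⟩ := (H1.mem_sup_iff_of_le_normalizer hn).1
        ((mem_normalizer_iff.1 h4 y).1 (mem_sup_right hy))
      have uR : u ∈ R := (mul_mem_cancel_right (hQ hv)).1
        (e ▸ mul_mem (mul_mem hg (hQ hy)) (inv_mem hg))
      by_cases u1 : u = 1
      · rwa [← e, u1, one_mul]
      exact absurd ((prime_dvd_card_of_isPGroup Nat.prime_three (hw3.to_le (zpowers_le.2 hu))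
        (zpowers_ne_bot.2 u1)).trans (Subgroup.card_dvd_of_le (zpowers_le.2 uR))) h3
    refine ⟨⟨fun x y => by_contra fun e => ?_⟩⟩
    obtain ⟨u, -, -, -, hu, -⟩ := S4211.exists_pair (G := S) (fun H => ⟨fun y hy g =>
      le_of_forall_isSyl_le (K := H.comap (MulAut.conj g).toMonoidHom) (fun p hp P hP u hu =>
        hP.le (x := g * u * g⁻¹) ((mem_map_iff_mem (x := g * u * g⁻¹) S.subtype_injective).1 (hn p hp _ ((map_subtype_le P).trans SR)
          (hP.pgrp.map _) g (SR g.2) u (mem_map_of_mem _ hu)))) hy⟩) (fun _ => True)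
      (fun _ _ _ _ => trivial) ⟨x, y, trivial, trivial, e⟩
    exact Nat.two_dvd_ne_zero.2 (Nat.odd_iff.1 oz) (Dvd.dvd.trans (by norm_num)
      (hu ▸ orderOf_dvd_natCard u))
  · refine Nat.coprime_of_dvd fun q hq h4 h5 => ?_
    have q2 : q ≠ 2 := fun e => Nat.two_dvd_ne_zero.2 (Nat.odd_iff.1 oz) (e ▸ h5)
    obtain ⟨g, gK, hg⟩ := exists_mem_orderOf_eq_prime hq h4
    by_cases g1 : f g = 1
    · exact q2 (eq_of_prime_dvd_card_of_isPGroup Nat.prime_two hq hKR
        (hg ▸ orderOf_dvd_card_of_mem ⟨gK, g1⟩))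
    haveI := Fact.mk hq
    exact q2 (hpr q hq (h.card ▸ orderOf_eq_prime (p := q) (by rw [← map_pow, ← hg,
      pow_orderOf_eq_one, map_one]) g1 ▸ orderOf_dvd_natCard _) (h5.trans (Subgroup.card_dvd_of_le SR)))

end NX

end Cfsg.Agent.Cj
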