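/-
Non-solvable groups in which non-subnormal `{p, q}`-subgroups have maximal normalizers.
-/
import Cfsg.Agent.Cj.MN3

set_option autoImplicit false
set_option linter.unusedSectionVars false
set_option linter.style.haveILetI false

namespace Cfsg.Agent.Cj

open Subgroup Cfsg Cfsg.Agent Cfsg.Agent.FT Cfsg.Agent.P6

universe u

variable {G : Type u} [Group G] [Finite G]

theorem map_of_hall {H : Type*} [Group H] {f : G →* H} (hf : Function.Surjective f) {π : Set ℕ}
    {X : Subgroup H} (hX : IsPiSubgroup π X) {Y : Subgroup G}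
    (hY : IsPiHallOf π Y (X.comap f)) : Y.map f = X := by
  haveI := Finite.of_surjective f hf
  refine le_antisymm (map_le_iff_le_comap.2 hY.1) (relIndex_eq_one.1 (by_contra fun e => ?_))
  have h1 : (Y.map f).relIndex X ∣ Y.relIndex (X.comap f) := by
    conv_lhs => rw [← map_comap_eq_self_of_surjective hf X]
    rw [← relIndex_comap]
    exact relIndex_dvd_of_le_left _ (le_comap_map _ _)
  obtain ⟨p, hp, h2⟩ := Nat.exists_prime_and_dvd e
  exact hY.2.2 p hp (hX p hp (h2.trans (relIndex_dvd_card _ _))) (h2.trans h1)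

theorem prod_of_max (hG : ¬ Group.IsSolvable G) (h : ∀ p q : ℕ, p.Prime → q.Prime →
    ∀ H : Subgroup G, IsPiSubgroup {p, q} H → ¬ H.IsSubnormal → IsCoatom 𝐍(H)) :
    ∃ K S : Subgroup G, K.Normal ∧ S.Normal ∧ K ⊓ S = ⊥ ∧ K ⊔ S = ⊤ ∧
    (Nonempty (K ≃* Matrix.ProjectiveSpecialLinearGroup (Fin 2) (ZMod 13)) ∨
      Nonempty (K ≃* Matrix.SpecialLinearGroup (Fin 2) (ZMod 13))) ∧
    IsMulCommutative S ∧ (Nat.card K).Coprime (Nat.card S) := by
  let f := QuotientGroup.mk' (solvableRadical G)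
  have hf : Function.Surjective f := QuotientGroup.mk'_surjective _
  have hk : f.ker = solvableRadical G := QuotientGroup.ker_mk' _
  have sol : ∀ N : Subgroup (G ⧸ solvableRadical G), N.Normal → Group.IsSolvable N → N = ⊥ :=
    fun N h1 h2 => eq_bot_iff.2 ((L.le_solvableRadical h1 h2).trans
      L.solvableRadical_quotient_solvableRadical.le)
  have key : ∀ p q : ℕ, p.Prime → q.Prime → ∀ H : Subgroup G, IsPiSubgroup {p, q} H →
      ¬ H ≤ f.ker → IsCoatom 𝐍(H) ∧ 𝐍(H.map f).comap f = 𝐍(H) := fun p q hp hq H h1 h2 => by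
    have hs := H6.isSolvable_of_primes_two p q h1
    have h3 := h p q hp hq H h1 fun e => h2 ((H2.le_solvableRadical_of_isSubnormal e hs).trans hk.ge)
    refine ⟨h3, (h3.le_iff_eq fun e => h2 ((Subgroup.map_eq_bot_iff _).1 (sol _ (normalizer_eq_top_iff.1
      (comap_injective hf e)) ?_))).1 (map_le_iff_le_comap.1 (le_normalizer_map f))⟩
    exact Group.isSolvable_of_surjective (f.subgroupMap_surjective H)
  have hM : MN (G ⧸ solvableRadical G) := ⟨sol, fun p q hp hq H H1 h1 => by
    haveI := H6.isSolvable_of_primes_two p q h1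
    obtain ⟨Y, hY⟩ := exists_hall (L.isSolvable_comap_mk' _ H) {p, q}
    have e := map_of_hall hf h1 hY
    obtain ⟨h2, h3⟩ := key p q hp hq Y hY.2.1 fun h2 => H1 (e ▸ (Subgroup.map_eq_bot_iff _).2 h2)
    rw [← h3, e] at h2
    exact ⟨fun e => h2.1 (by rw [e, comap_top]), fun A hA => comap_injective hf
      (h2.2 _ ((comap_lt_comap_of_surjective hf).2 hA))⟩⟩
  haveI : Nontrivial (G ⧸ solvableRadical G) :=
    QuotientGroup.nontrivial_iff.2 fun e => hG (L.solvableRadical_eq_top_iff.1 e)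
  exact NX.main ⟨hf, fun p q hp hq H h1 h2 g hg => (key p q hp hq H h1 h2).2.le hg,
    hM.isL2.1, hM.isL2.2⟩

end Cfsg.Agent.Cj
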