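/-
In `PSL₂(13)`, `SL₂(13)` and their coprime products with abelian groups the normalizers of
non-normal subgroups are maximal.
-/
import Cfsg.Agent.Cj.MN3
import Cfsg.Agent.Cj.Dick

set_option autoImplicit false
set_option linter.unusedSectionVars false
set_option linter.style.haveILetI false

namespace Cfsg.Agent.Cj

open Subgroup Cfsg Cfsg.Agent Cfsg.Agent.FT Cfsg.Agent.P6
open scoped IsMulCommutative

/-- Every non-normal subgroup has a maximal normalizer. -/
def NM (G : Type*) [Group G] : Prop := ∀ H : Subgroup G, ¬ H.Normal → IsCoatom 𝐍(H)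

theorem NM.lift {G X : Type*} [Group G] [Finite G] [Group X] (h : NM X) {f : G →* X}
    (hf : Function.Surjective f) (hZ : ∀ z, f z = 1 → ∀ g, Commute g z)
    (hm : ∀ p : ℕ, p.Prime → ∀ y, IsPGroup p (zpowers y) → f y ≠ 1 →
      ∃ m, p.Coprime m ∧ ∀ z, f z = 1 → z ^ m ∈ zpowers y) : NM G := fun H hH => by
  have e : 𝐍(H.map f).comap f = 𝐍(H) := by
    refine le_antisymm (fun g hg => mem_norm_of_conj_le (map_le_iff_le_comap.2
      (le_of_forall_isSyl_le fun p hp P hP y hy => ?_))) (map_le_iff_le_comap.1 (le_normalizer_map f))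
    change g * y * g⁻¹ ∈ H
    by_cases y1 : f y = 1
    · rw [hZ y y1 g, mul_inv_cancel_right]; exact hP.le hy
    have py := hP.pgrp.to_le (zpowers_le.2 hy)
    obtain ⟨m, h1, h2⟩ := hm p hp y py y1
    obtain ⟨x, hx, e⟩ := (mem_normalizer_iff.1 hg _).1 (mem_map_of_mem f (hP.le hy))
    have h3 : f (x⁻¹ * (g * y * g⁻¹)) = 1 := by
      rw [map_mul, map_inv, e, map_mul, map_mul, map_inv, inv_mul_cancel]
    obtain ⟨k, hk⟩ := exists_card_eq_pow hp (isPGroup_zp_conj py g)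
    refine H8.mem_of_pow_mem_of_coprime (n := m) (by
      rw [← Nat.card_zpowers, hk]; exact h1.pow_left k) ?_
    rw [← mul_inv_cancel_left x (g * y * g⁻¹), (hZ _ h3 x).mul_pow]
    exact mul_mem (pow_mem hx m) (zpowers_le.2 (hP.le hy) (h2 _ h3))
  exact e ▸ isCoatom_comap_of_surjective hf (h _ fun hn => hH (normalizer_eq_top_iff.1
    (by rw [← e, normalizer_eq_top_iff.2 hn, comap_top])))

theorem nm_PSL {X : Type*} [Group X] [Finite X]
    (φ : X ≃* Matrix.ProjectiveSpecialLinearGroup (Fin 2) (ZMod 13)) : NM X := by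
  have p13 : Nat.Prime 13 := by norm_num
  haveI := Fact.mk p13
  have hL : P7.IsL2 (⊤ : Subgroup X) 13 :=
    ⟨⟨ZMod 13, _, _, ZMod.card 13, ⟨topEquiv.trans φ⟩⟩, by norm_num, by norm_num⟩
  haveI := hL.simple'
  have hs : IsSimpleGroup X := topEquiv.symm.isSimpleGroup
  have hX : Nat.card X = 1092 := by
    have := two_mul_card_L2 hL
    rw [card_top] at this
    omega
  obtain ⟨s, ms, s0, ms0, hV⟩ := P7.l2Four X ⊤ _ hL
  obtain ⟨F⟩ := P7.l2Api X ⊤ ⊤ 1 _ s s0 hL.lm hV ms ms0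
  have is : Inv s := ⟨hV.t1, hV.tt⟩
  have is0 : Inv s0 := ⟨hV.s1, hV.ss⟩
  obtain ⟨hk, hl, hH⟩ : F.k = 3 ∧ F.l = 7 ∧ F.H = P7.R0 ⊤ s ⊔ zpowers s := by
    rcases F.eps with ⟨h1, h2, h3⟩ | ⟨h1, -⟩
    exacts [⟨by omega, by omega, h3⟩, by omega]
  have c3 := F.cardR.trans hk
  have c4 := card_kl is is0 hV.comm hV.ts
  have c7 := F.cardT.trans hl
  have c13 := F.cardP
  have hyp := F.lt.hyp
  set R := P7.R0 ⊤ s
  have sR : zpowers s ≤ 𝐍(R) := zpowers_le.2 hyp.tU
  have nP : 𝐍(F.P) = F.P ⊔ F.H := by rw [← F.normP, top_inf_eq]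
  have syl : ∀ {r n : ℕ} {Q : Subgroup X}, 𝐨(Q) = r ^ n → ¬ r * r ^ n ∣ 1092 → IsSyl r Q ⊤ :=
    fun {r n Q} h1 h2 => ⟨le_top, .of_card h1, fun e => h2 (by
      rw [← hX, ← Q.index_mul_card, h1, ← relIndex_top_right]; exact mul_dvd_mul_right e _)⟩
  have hM : ∀ B : Subgroup X, B ≠ ⊤ → 𝐨(B) ∣ 78 ∨ 𝐨(B) ∣ 14 ∨ 𝐨(B) ∣ 12 := fun B hB => by
    have h1 := card_subgroup_dvd_card B
    rw [hX] at h1
    by_cases h2 : 13 ∣ 𝐨(B)
    swap
    · rw [← card_map_of_injective (f := φ.toMonoidHom) φ.injective] at h1 h2 ⊢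
      rcases card_dvd_or (by rw [Nat.card_zmod]; decide) _
        (fun e => h2 ((ZMod.natCast_eq_zero_iff _ _).1 e)) with e | e | e | e | e
      · exact Or.inr (Or.inr (by rwa [Nat.card_zmod] at e))
      · exact Or.inr (Or.inl (by rwa [Nat.card_zmod] at e))
      · exact Or.inr (Or.inr e.dvd)
      all_goals rw [e] at h1; omega
    have h3 : 13 ≤ B.index := p13.dvd_factorial.1 (by
      have h4 := (hs.eq_bot_or_eq_top_of_normal B.normalCore inferInstance).resolve_right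
        fun e => hB (eq_top_iff.2 (e.ge.trans B.normalCore_le))
      have h5 : B.normalCore.index ∣ B.index.factorial := by
        rw [normalCore_eq_ker, index_ker, index_eq_card, ← Nat.card_perm]
        exact card_subgroup_dvd_card _
      rw [h4, index_bot, hX] at h5
      exact Dvd.dvd.trans (by norm_num) h5)
    obtain ⟨Q, QB, hQ⟩ := exists_le_card_eq_prime p13 h2
    have h4 := syl (r := 13) (n := 1) hQ (by norm_num)
    have h5 := H1.card_mul_relIndex QB
    have h6 := B.card_mul_index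
    obtain ⟨g, -, hg⟩ := (syl (r := 13) (n := 1) c13 (by norm_num)).exists_conj_eq p13 h4
    have h7 := Subgroup.card_dvd_of_le (syl_normal_of_lt p13 (h4.of_le QB le_top)
      (by rw [hQ] at h5; rw [hX, ← h5] at h6; nlinarith))
    rw [← card_conj _ g, ← card_conj 𝐍(Q) g, ← norm_conj, hg, nP, sup_comm] at h7
    rw [← card_conj _ g]
    refine Or.inl (h7.trans ((H1.card_sup_dvd (le_sup_right.trans nP.ge)).trans ?_))
    rw [c13, hH, sup_comm]
    exact mul_dvd_mul_right (b := 6) ((H1.card_sup_dvd sR).trans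
      (by rw [c3, is.card_zpowers])) 13
  let Gd : Subgroup X → Prop := fun A => 78 ∣ 𝐨(A) ∨ 14 ∣ 𝐨(A) ∨ 12 ∣ 𝐨(A)
  have mono : ∀ {A B}, A ≤ B → Gd A → Gd B := fun h hA =>
    have := Subgroup.card_dvd_of_le h
    hA.imp (·.trans this) (Or.imp (·.trans this) (·.trans this))
  have hC : ∀ A, A ≠ ⊤ → Gd A → IsCoatom A := fun A h1 h2 => ⟨h1, fun B hB => by_contra fun h3 => by
    have h4 := H1.card_lt_of_lt hB
    have h5 := Subgroup.card_dvd_of_le hB.le
    rcases h2 with e | e | e <;> have := Nat.le_of_dvd Nat.card_pos e <;>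
      rcases hM B h3 with e' | e' | e' <;> have := Nat.le_of_dvd (by norm_num) e' <;>
      have := (e.trans h5).trans e' <;> omega⟩
  have hN : ∀ H : Subgroup X, H ≠ ⊥ → H ≠ ⊤ → 𝐍(H) ≠ ⊤ := fun H h1 h2 e =>
    (hs.eq_bot_or_eq_top_of_normal H (normalizer_eq_top_iff.1 e)).elim h1 h2
  have hD : ∀ (r n : ℕ) (Q A : Subgroup X), r.Prime → 𝐨(Q) = r ^ (n + 1) → ¬ r * r ^ (n + 1) ∣ 1092 →
      r ^ (n + 1) < 1092 → IsMulCommutative A → A ≤ 𝐍(Q) → Gd (A ⊔ Q) → ∀ H : Subgroup X,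
      r ^ (n + 1) ∣ 𝐨(H) → 𝐨(H) < r ^ (n + 1) * r → Gd 𝐍(H) := by
    intro r n Q A hr hQ h1 h2 hA hn h3 H h4 h5
    haveI := Fact.mk hr
    obtain ⟨Q', h6⟩ := Sylow.exists_subgroup_card_pow_prime r h4
    rw [← card_map_of_injective H.subtype_injective] at h6
    have h7 := syl h6 h1
    have h8 := map_subtype_le Q'
    have h9 := syl_normal_of_lt hr (h7.of_le h8 le_top) (by
      rw [← H1.card_mul_relIndex h8, h6] at h5
      exact lt_of_mul_lt_mul_left h5 (Nat.zero_le _))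
    obtain ⟨g, -, hg⟩ := (syl hQ h1).exists_conj_eq hr h7
    have e1 := map_mono (f := (MulAut.conj g).toMonoidHom) h8
    have e2 := map_mono (f := (MulAut.conj g).toMonoidHom) h9
    have e3 := sup_le hn le_normalizer
    have e4 := hN Q (ne_bot_of_prime_dvd hr (hQ ▸ dvd_pow_self r n.succ_ne_zero))
      (fun e => by rw [e, card_top, hX] at hQ; omega)
    rw [← norm_conj, hg, ((hC _ (fun e => e4 (eq_top_iff.2 (e.ge.trans e3))) h3).le_iff_eq
      e4).1 e3] at e2
    rw [hg] at e1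
    have e5 : Gd 𝐍(H ^ᵍ g) := mono (sup_le (fun a ha => mem_normalizer_fintype fun y hy => by
      obtain ⟨c, hc, u, hu, rfl⟩ := (H1.mem_sup_iff_of_le_normalizer hn).1 (e2 hy)
      rw [← conj_mul, setLike_mul_comm ha hc, mul_inv_cancel_right]
      exact mul_mem ((mul_mem_cancel_right (e1 hu)).1 hy)
        (e1 ((mem_normalizer_iff.1 (hn ha) u).1 hu))) (e1.trans le_normalizer)) h3
    simpa only [Gd, norm_conj, card_conj] using e5
  have d : ∀ {A B C : Subgroup X} {a b : ℕ}, A ≤ C → B ≤ C → 𝐨(A) = a → 𝐨(B) = b → a.Coprime b →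
      a * b ∣ 𝐨(C) := fun h1 h2 h3 h4 h5 => h5.mul_dvd_of_dvd_of_dvd
    (h3 ▸ Subgroup.card_dvd_of_le h1) (h4 ▸ Subgroup.card_dvd_of_le h2)
  haveI := Fact.mk Nat.prime_three
  intro H hH'
  have H1' : H ≠ ⊥ := fun e => hH' (e ▸ inferInstance)
  have H2' : H ≠ ⊤ := fun e => hH' (e ▸ inferInstance)
  refine hC _ (hN H H1' H2') (by_contra fun hG => ?_)
  have h1 : ¬ Gd H := fun e => hG (mono le_normalizer e)
  have h2 : 𝐨(H) ≠ 1 := fun e => H1' (card_eq_one.1 e)
  have h3 : 𝐨(H) ≠ 2 := fun e => hG (by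
    obtain ⟨t, tH, ht⟩ := exists_mem_orderOf_eq_prime Nat.prime_two e.symm.dvd
    have it := inv_of_orderOf ht
    obtain ⟨g, -, rfl⟩ := hyp.conj t (mem_top t) it.ne it.sq
    rw [← H1.eq_of_le_of_card_le (zpowers_le.2 tH) (by rw [e, it.card_zpowers]), norm_zp it]
    refine Or.inr (Or.inr ?_)
    rw [cent1_conj, card_conj]
    exact d hyp.Ut (kl_le (self_mem_cent1 s) (L.mem_cent_iff.2 hV.comm)) c3 c4 (by norm_num))
  have h4 : ¬ (13 ∣ 𝐨(H) ∧ 𝐨(H) < 169) := fun e => hG (hD 13 0 F.P F.H p13 c13 (by norm_num)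
    (by norm_num) (by
      haveI := isCyclic_of_prime_card (p := 3) c3
      exact hH ▸ isMulComm_sup inferInstance inferInstance
        (zpowers_le.2 fun x hx => (hyp.cU hx).symm)) (le_sup_right.trans nP.ge) (Or.inl (by
      rw [hH]
      exact Nat.Coprime.mul_dvd_of_dvd_of_dvd (m := 6) (n := 13) (by norm_num)
        (d (le_sup_of_le_left le_sup_left) (le_sup_of_le_left le_sup_right) c3 is.card_zpowers
          (by norm_num)) (c13.symm.dvd.trans (Subgroup.card_dvd_of_le le_sup_right)))) H e.1 e.2)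
  have h5 : ¬ (7 ∣ 𝐨(H) ∧ 𝐨(H) < 49) := fun e => hG (hD 7 0 F.T (zpowers s0) Nat.prime_seven c7
    (by norm_num) (by norm_num) inferInstance (zpowers_le.2 (mem_normalizer_fintype fun x hx => by
      rw [F.invT x hx]; exact inv_mem hx))
    (Or.inr (Or.inl (d le_sup_left le_sup_right is0.card_zpowers c7 (by norm_num)))) H e.1 e.2)
  have h6 : ¬ (3 ∣ 𝐨(H) ∧ 𝐨(H) < 9) := fun e => hG (hD 3 0 R (kl s s0) Nat.prime_three c3
    (by norm_num) (by norm_num) (isMulComm_sup inferInstance inferInstance (zp_le_cent hV.comm.symm))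
    (kl_le hyp.tU hyp.sU)
    (Or.inr (Or.inr (d le_sup_left le_sup_right c4 c3 (by norm_num)))) H e.1 e.2)
  have h7 : ¬ (4 ∣ 𝐨(H) ∧ 𝐨(H) < 8) := fun e => hG (hD 2 1 (kl s s0) (zpowers F.x) Nat.prime_two c4
    (by norm_num) (by norm_num) inferInstance (zpowers_le.2 (MN.tri_norm is is0 hV.comm F.tri))
    (Or.inr (Or.inr (d le_sup_left le_sup_right ((Nat.card_zpowers _).trans (orderOf_eq_prime F.x3
      fun e => hV.ts (by simpa [e] using F.tri.1))) c4 (by norm_num)))) H e.1 e.2)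
  have h8 := hM H H2'
  simp only [Gd] at h1
  generalize 𝐨(H) = n at *
  rcases h8 with e | e | e <;> have := Nat.le_of_dvd (by norm_num) e <;> interval_cases n <;> omega

theorem nm_prod {K S : Type*} [Group K] [CommGroup S] [Finite K] [Finite S] (h : NM K)
    (hc : (Nat.card K).Coprime (Nat.card S)) : NM (K × S) :=
  h.lift (f := MonoidHom.fst K S) Prod.fst_surjective
    (fun z hz g => Prod.ext (by simp [show z.1 = 1 from hz]) (mul_comm _ _))
    fun p hp y py y1 => ⟨Nat.card S, hc.coprime_dvd_left ((prime_dvd_card_of_isPGroup hp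
      (py.map (MonoidHom.fst K S)) (by rwa [MonoidHom.map_zpowers, zpowers_ne_bot])).trans
      (card_subgroup_dvd_card _)), fun z hz => by
      rw [show z ^ Nat.card S = 1 from Prod.ext (by simp [show z.1 = 1 from hz]) pow_card_eq_one']
      exact one_mem _⟩

theorem NM.dc {G X : Type*} [Group G] [Finite G] [Group X] (h : NM X) {π : G →* X} {w : G}
    (hw : DC π w) : NM G :=
  h.lift hw.surj (fun z hz g => by
      rcases hw.ker z hz with rfl | rfl
      exacts [Commute.one_right g, mul_inv_eq_iff_eq_mul.1 (hw.comm g)]) fun p hp y py y1 => by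
    by_cases p2 : p = 2
    · refine ⟨1, Nat.coprime_one_right p, fun z hz => ?_⟩
      obtain ⟨t, ht, it⟩ := exists_mem_orderOf_eq_prime hp (prime_dvd_card_of_isPGroup hp py
        (zpowers_ne_bot.2 fun e => y1 (by rw [e, map_one])))
      have it := inv_of_orderOf (it.trans p2)
      rcases hw.ker z hz with rfl | rfl
      · exact pow_mem (one_mem _) 1
      · rwa [pow_one, ← (hw.uniq t it.sq).resolve_left it.ne]
    refine ⟨2, (Nat.coprime_primes hp Nat.prime_two).2 p2, fun z hz => ?_⟩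
    rcases hw.ker z hz with rfl | rfl
    · exact pow_mem (one_mem _) 2
    · rw [pow_two, hw.sq]; exact one_mem _

theorem nm_L2 {K : Type*} [Group K] [Finite K]
    (hK : Nonempty (K ≃* Matrix.ProjectiveSpecialLinearGroup (Fin 2) (ZMod 13)) ∨
      Nonempty (K ≃* Matrix.SpecialLinearGroup (Fin 2) (ZMod 13))) : NM K := by
  obtain ⟨⟨e⟩⟩ | ⟨⟨e⟩⟩ := hK
  · exact nm_PSL e
  haveI : Fact (Nat.Prime 13) := ⟨by norm_num⟩
  obtain ⟨u, hu⟩ := exists_DC_SL2 (F := ZMod 13) two_ne_13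
  exact ((nm_PSL (.refl _)).dc hu).lift (f := e.toMonoidHom) e.surjective
    (fun z hz g => by rw [e.map_eq_one_iff.1 hz]; exact Commute.one_right g)
    fun p _ y _ _ => ⟨1, Nat.coprime_one_right p, fun z hz => by
      rw [e.map_eq_one_iff.1 hz]; exact pow_mem (one_mem _) 1⟩

end Cfsg.Agent.Cj
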