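/-
A permutation group of degree `n` has at most `5 ^ (n - 1)` conjugacy classes.
-/
import Cfsg.Agent.H7.ClassNum

set_option autoImplicit false
set_option linter.style.haveILetI false

namespace Cfsg.Agent.Cj

open Subgroup MulAction Equiv
open scoped Pointwise

local notation "𝐤(" G ")" => Nat.card (ConjClasses G)

theorem classNum_le_of_surjective {G H : Type*} [Group G] [Group H] [Finite G] {f : G →* H}
    (hf : Function.Surjective f) : 𝐤(H) ≤ 𝐤(G) :=
  Nat.card_le_card_of_surjective _ (ConjClasses.map_surjective hf)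

theorem classNum_le_ker_mul {G H : Type*} [Group G] [Group H] [Finite G] (f : G →* H) :
    𝐤(G) ≤ 𝐤(f.ker) * 𝐤(f.range) :=
  haveI := Finite.of_surjective _ f.rangeRestrict_surjective
  (H7.classNum_le_mul_quot f.ker).trans (Nat.mul_le_mul_left _
    (classNum_le_of_surjective (f := (QuotientGroup.quotientKerEquivRange f).symm.toMonoidHom)
      (MulEquiv.surjective _)))

theorem classNum_perm_le (Ω : Type*) [Finite Ω] : 𝐤(Perm Ω) ≤ 2 ^ (Nat.card Ω - 1) := by
  classical
  haveI := Fintype.ofFinite Ω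
  let T : ConjClasses (Perm Ω) → Nat.Partition (Fintype.card Ω) :=
    Quotient.lift Perm.partition fun _ _ h => Perm.partition_eq_of_isConj.1 h
  have hT : Function.Injective T := by
    intro c d
    obtain ⟨x, rfl⟩ := ConjClasses.exists_rep c
    obtain ⟨y, rfl⟩ := ConjClasses.exists_rep d
    exact fun h => ConjClasses.mk_eq_mk_iff_isConj.2 (Perm.partition_eq_of_isConj.2 h)
  refine (Nat.card_le_card_of_injective T hT).trans ((Nat.card_le_card_of_surjective _
    (Nat.Partition.ofComposition_surj (n := Fintype.card Ω))).trans ?_)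
  rw [Nat.card_eq_fintype_card, composition_card, Nat.card_eq_fintype_card]

/-- Bochert: a primitive group not containing the alternating group has a base of size `≤ n / 2`. -/
theorem bochert {Ω : Type*} [Fintype Ω] [DecidableEq Ω] {G : Subgroup (Perm Ω)}
    (hG : IsPreprimitive G Ω) (hA : ¬ alternatingGroup Ω ≤ G) :
    ∃ B : Finset Ω, 2 * B.card ≤ Fintype.card Ω ∧ ∀ g ∈ G, (∀ x ∈ B, g x = x) → g = 1 := by
  classical
  obtain ⟨B, hB, hm⟩ := Finset.exists_min_image
    (Finset.univ.filter fun B : Finset Ω => ∀ g ∈ G, (∀ x ∈ B, g x = x) → g = 1) Finset.card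
    ⟨Finset.univ, Finset.mem_filter.2 ⟨Finset.mem_univ _, fun g _ h =>
      Perm.ext fun x => h x (Finset.mem_univ x)⟩⟩
  simp only [Finset.mem_filter, Finset.mem_univ, true_and] at hB hm
  refine ⟨B, by_contra fun hlt => hA ?_, hB⟩
  have key : ∀ C : Finset Ω, C.card < B.card → ∃ g ∈ G, (∀ x ∈ C, g x = x) ∧ g ≠ 1 := fun C hC => by
    by_contra! h
    exact absurd (hm C h) (not_le.2 hC)
  obtain ⟨g, gG, hg, g1⟩ := key Bᶜ (by rw [Finset.card_compl]; omega)
  obtain ⟨a, ha⟩ : ∃ a, g a ≠ a := by_contra fun h => g1 (Perm.ext (by simpa using h))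
  have aB : a ∈ B := by_contra fun h => ha (hg a (Finset.mem_compl.2 h))
  obtain ⟨h, hG', hh, h1⟩ := key (B.erase a) (Finset.card_erase_lt_of_mem aB)
  have ha' : h a ≠ a := fun e => h1 (hB h hG' fun x hx => by
    by_cases xa : x = a
    exacts [xa ▸ e, hh x (Finset.mem_erase.2 ⟨xa, hx⟩)])
  have hx : ∀ x, x ≠ a → g x = x ∨ h x = x := fun x xa => by
    by_cases xB : x ∈ B
    exacts [Or.inr (hh x (Finset.mem_erase.2 ⟨xa, xB⟩)), Or.inl (hg x (Finset.mem_compl.2 xB))]
  have e1 : h (g a) = g a := (hx _ ha).resolve_left fun e => ha (g.injective e)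
  have e2 : g (h a) = h a := (hx _ ha').resolve_right fun e => ha' (h.injective e)
  have e3 : g a ≠ h a := fun e => ha (g.injective (by rw [e, e2]))
  refine Perm.alternatingGroup_le_of_isPreprimitive_of_isThreeCycle_mem hG
    (g := swap a (g a) * swap a (h a)) (Perm.isThreeCycle_swap_mul_swap_same ha.symm ha'.symm e3) ?_
  suffices swap a (g a) * swap a (h a) = (h * g) * (g * h)⁻¹ from
    this ▸ mul_mem (mul_mem hG' gG) (inv_mem (mul_mem gG hG'))
  rw [eq_mul_inv_iff_mul_eq]
  ext x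
  simp only [Perm.mul_apply]
  by_cases xa : x = a
  · rw [xa, e1, e2, swap_apply_right, swap_apply_left]
  rcases hx x xa with e | e <;> rw [e]
  · by_cases e4 : h x = a
    · rw [e4, swap_apply_of_ne_of_ne ha e3, swap_apply_right]
    rw [show g (h x) = h x from (hx _ e4).elim id fun e' => by rw [h.injective e', e],
      swap_apply_of_ne_of_ne e4 (h.injective.ne xa), swap_apply_of_ne_of_ne e4 fun e' => ha ?_]
    exact g.injective (by rw [← h.injective (e'.trans e1.symm), e, h.injective (e'.trans e1.symm)])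
  · by_cases e4 : g x = a
    · rw [e4, swap_apply_left, swap_apply_of_ne_of_ne ha' e3.symm]
    rw [swap_apply_of_ne_of_ne e4 fun e' => ha' ?_, swap_apply_of_ne_of_ne e4 (g.injective.ne xa)]
    · exact ((hx _ e4).elim (fun e' => by rw [g.injective e', e]) id).symm
    exact h.injective (by rw [← g.injective (e'.trans e2.symm), e, g.injective (e'.trans e2.symm)])

/-- The bound, refined by an invariant surjection `c`. -/
def KB (n : ℕ) : Prop := ∀ (G Ω ι : Type) [Group G] [Finite G] [Finite Ω] [MulAction G Ω]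
  [FaithfulSMul G Ω] (c : Ω → ι), Nat.card Ω = n → Function.Surjective c →
    (∀ (g : G) x, c (g • x) = c x) → 𝐤(G) * 5 ^ Nat.card ι ≤ 5 ^ n

theorem kb_one {n : ℕ} (h : KB n) (G Ω : Type) [Group G] [MulAction G Ω] [Finite Ω] [Nonempty Ω]
    (e : Nat.card Ω = n) : 𝐤((toPermHom G Ω).range) * 5 ≤ 5 ^ n := by
  simpa using h (toPermHom G Ω).range Ω Unit (fun _ => ()) e (fun _ => by simp) fun _ _ => rfl

theorem kb_two {n : ℕ} (ih : ∀ m < n, KB m) (G Ω ι : Type) [Group G] [Finite G] [Finite Ω]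
    [MulAction G Ω] [FaithfulSMul G Ω] [Nontrivial ι] (c : Ω → ι) (e : Nat.card Ω = n)
    (hc : Function.Surjective c) (hi : ∀ (g : G) x, c (g • x) = c x) :
    𝐤(G) * 5 ^ Nat.card ι ≤ 5 ^ n := by
  classical
  obtain ⟨i, j, hij⟩ := exists_pair_ne ι
  obtain ⟨a, rfl⟩ := hc i
  obtain ⟨b, rfl⟩ := hc j
  haveI := Finite.of_surjective c hc
  let A : SubMulAction G Ω := ⟨{x | c x = c a}, fun g x hx => (hi g x).trans hx⟩
  let N := (toPermHom G A).ker
  let B : SubMulAction N Ω := ⟨{x | c x ≠ c a}, fun g x hx e => hx ((hi g x).symm.trans e)⟩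
  haveI : Nonempty A := ⟨⟨a, rfl⟩⟩
  haveI : Nonempty B := ⟨⟨b, hij.symm⟩⟩
  have h1 : Nat.card A + Nat.card B = n := by
    rw [← e, ← Nat.card_congr (sumCompl fun x => c x = c a), Nat.card_sum]; rfl
  have h2 : Nat.card {j // j ≠ c a} + 1 = Nat.card ι := by
    rw [← Nat.card_congr (optionSubtypeNe (c a)), Finite.card_option]
  have hA := Nat.card_pos (α := A)
  have hB := Nat.card_pos (α := B)
  haveI : FaithfulSMul N B := ⟨fun {g h} hx => eq_of_smul_eq_smul (α := Ω) fun x => by
    by_cases hx' : c x = c a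
    · exact (congrArg Subtype.val (Perm.congr_fun g.2 ⟨x, hx'⟩)).trans
        (congrArg Subtype.val (Perm.congr_fun h.2 ⟨x, hx'⟩)).symm
    · exact congrArg Subtype.val (hx ⟨x, hx'⟩)⟩
  have h3 := ih _ (by omega) N B {j // j ≠ c a} (fun x => ⟨c x, x.2⟩) rfl (fun j => by
    obtain ⟨x, hx⟩ := hc j
    exact ⟨⟨x, fun e => j.2 (hx.symm.trans e)⟩, Subtype.ext hx⟩) fun g x => Subtype.ext (hi g x)
  calc _ ≤ 𝐤(N) * 5 ^ Nat.card {j // j ≠ c a} * (𝐤((toPermHom G A).range) * 5) := by
        rw [← h2, pow_succ, mul_mul_mul_comm]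
        exact Nat.mul_le_mul_right _ (classNum_le_ker_mul _)
    _ ≤ _ := by
        rw [← h1, add_comm, pow_add]
        exact Nat.mul_le_mul h3 (kb_one (ih _ (by omega)) G A rfl)

theorem kb_prim {n : ℕ} (ih : ∀ m < n, KB m) {Ω : Type} [Finite Ω] [Nontrivial Ω]
    (G : Subgroup (Perm Ω)) (hG : IsPreprimitive G Ω) (e : Nat.card Ω = n) : 𝐤(G) * 5 ≤ 5 ^ n := by
  classical
  haveI := Fintype.ofFinite Ω
  have hn : 1 < n := e ▸ Finite.one_lt_card
  by_cases hA : alternatingGroup Ω ≤ G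
  · have h1 := (H7.classNum_subgroup_le G).trans (Nat.mul_le_mul (Nat.le_of_dvd two_pos
      (alternatingGroup.index_eq_two (α := Ω) ▸ index_dvd_of_le hA)) (classNum_perm_le Ω))
    obtain ⟨m, rfl⟩ : ∃ m, n = m + 2 := ⟨n - 2, by omega⟩
    rw [e, show m + 2 - 1 = m + 1 from rfl, pow_succ] at h1
    have := Nat.pow_le_pow_left (show 2 ≤ 5 by norm_num) m
    rw [pow_add]
    omega
  obtain ⟨B, hB, hb⟩ := bochert hG hA
  rw [← Nat.card_eq_fintype_card, e] at hB
  let H := stabilizer G (B : Set Ω)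
  let A : SubMulAction H Ω := ⟨B, fun g x hx => (mem_stabilizer_iff.1 g.2).le ⟨x, hx, rfl⟩⟩
  haveI : FaithfulSMul H A := ⟨fun {g h} hx => eq_of_inv_mul_eq_one (Subtype.ext (Subtype.ext
    (hb _ (g⁻¹ * h).1.2 fun x hx' => inv_smul_eq_iff.2
      (congrArg Subtype.val (hx ⟨x, hx'⟩)).symm)))⟩
  have hA : Nat.card A = B.card := Nat.card_eq_finsetCard B
  obtain ⟨x, y, hxy⟩ := exists_pair_ne Ω
  obtain ⟨g, hg⟩ := exists_smul_eq G x y
  obtain ⟨z, hz⟩ : B.Nonempty := Finset.nonempty_iff_ne_empty.2 fun h => hxy (by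
    rw [← hg, show g = 1 from Subtype.ext (hb g g.2 (by simp [h])), one_smul])
  have h1 := ih _ (by omega) H A Unit (fun _ => ()) hA (fun _ => ⟨⟨z, hz⟩, rfl⟩) fun _ _ => rfl
  have h2 : H.index ≤ 5 ^ (n - B.card) := by
    rw [index_stabilizer]
    refine (Set.ncard_le_card _).trans ?_
    rw [Nat.card_eq_fintype_card, Fintype.card_set, ← Nat.card_eq_fintype_card, e]
    calc _ ≤ 2 ^ (2 * (n - B.card)) := Nat.pow_le_pow_right two_pos (by omega)
      _ ≤ _ := by rw [pow_mul]; exact Nat.pow_le_pow_left (by norm_num) _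
  rw [Nat.card_unique (α := Unit), pow_one] at h1
  calc _ ≤ H.index * (𝐤(H) * 5) := by
        rw [← mul_assoc]; exact Nat.mul_le_mul_right _ (H7.classNum_le_index_mul H)
    _ ≤ _ := (Nat.mul_le_mul h2 h1).trans (by rw [← pow_add, Nat.sub_add_cancel (by omega)])

theorem kb (n : ℕ) : KB n := by
  induction n using Nat.strong_induction_on with
  | _ n ih =>
  intro G Ω ι _ _ _ _ _ c e hc hi
  haveI := Finite.of_surjective c hc
  rcases subsingleton_or_nontrivial ι with h | h
  swap
  · exact kb_two ih G Ω ι c e hc hi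
  rcases subsingleton_or_nontrivial Ω with h1 | h1
  · haveI : Subsingleton G := ⟨fun _ _ => eq_of_smul_eq_smul (α := Ω) fun _ => Subsingleton.elim _ _⟩
    haveI := (ConjClasses.mk_surjective (α := G)).subsingleton
    rw [Nat.card_unique, one_mul, ← e]
    exact Nat.pow_le_pow_right (by norm_num) (Nat.card_le_card_of_surjective c hc)
  refine le_trans (Nat.mul_le_mul_left _ (Nat.pow_le_pow_right (by norm_num)
    (Finite.card_le_one_iff_subsingleton.2 h))) ?_
  obtain ⟨a⟩ : Nonempty Ω := inferInstance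
  by_cases ht : IsPretransitive G Ω
  swap
  · refine le_trans (Nat.mul_le_mul_left _ (Nat.pow_le_pow_right (by norm_num) (by simp)))
      (kb_two ih G Ω Prop (fun x => orbit G x = orbit G a) e (fun p => ?_)
        fun g x => by rw [orbit_smul])
    by_cases hp : p
    · exact ⟨a, (eq_true rfl).trans (eq_true hp).symm⟩
    by_contra! h2
    refine ht ⟨fun x y => ?_⟩
    have h3 : ∀ x, orbit G x = orbit G a := fun x => by_contra fun h3 =>
      h2 x ((eq_false h3).trans (eq_false hp).symm)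
    exact orbit_eq_iff.1 ((h3 y).trans (h3 x).symm)
  by_cases hp : IsCoatom (stabilizer G a)
  · rw [isCoatom_stabilizer_iff_preprimitive] at hp
    rw [pow_one]
    refine le_trans (Nat.mul_le_mul_right _ ?_) (kb_prim ih (toPermHom G Ω).range ?_ e)
    · exact classNum_le_of_surjective (f := (MonoidHom.ofInjective toPerm_injective).symm.toMonoidHom)
        (MulEquiv.surjective _)
    · exact IsPreprimitive.of_surjective (φ := (toPermHom G Ω).rangeRestrict)
        (f := ⟨id, fun _ _ => rfl⟩) Function.surjective_id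
  have h2 := index_stabilizer_of_transitive G a
  obtain ⟨M, hM, hM'⟩ : ∃ M, stabilizer G a < M ∧ M ≠ ⊤ := by
    by_contra! h3
    exact hp ⟨fun e' => (Finite.one_lt_card (α := Ω)).ne (by rw [← h2, e', index_top]), h3⟩
  choose r hr using exists_smul_eq G a
  have h3 : ∀ (g : G) x, (r (g • x) : G ⧸ M) = g • (r x : G ⧸ M) := fun g x =>
    QuotientGroup.eq.2 (hM.le (by
      change ((r (g • x))⁻¹ * (g * r x)) • a = a
      rw [mul_smul, mul_smul, hr, inv_smul_eq_iff, hr]))
  haveI : Nontrivial (G ⧸ M) := Finite.one_lt_card_iff_nontrivial.1 (one_lt_index_of_ne_top hM')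
  have h4 := kb_two ih (toPermHom G (G ⧸ M)).ker Ω (G ⧸ M) (fun x => r x) e
    (fun y => (exists_smul_eq G (r a : G ⧸ M) y).elim fun g hg => ⟨g • a, (h3 g a).trans hg⟩)
    fun g x => (h3 g x).trans (Perm.congr_fun g.2 (r x))
  have h5 := kb_one (ih _ (show M.index < n by rw [← e, ← h2]; exact index_strictAnti hM)) G
    (G ⧸ M) rfl
  refine le_trans ?_ h4
  rw [pow_one]
  exact (Nat.mul_le_mul_right _ (classNum_le_ker_mul (toPermHom G (G ⧸ M)))).trans
    ((mul_assoc _ _ _).le.trans (Nat.mul_le_mul_left _ h5))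

theorem classNum_perm_subgroup_le (d : ℕ) (hd : 1 ≤ d) (G : Subgroup (Perm (Fin d))) :
    𝐤(G) ≤ 5 ^ (d - 1) := by
  have := kb d G (Fin d) Unit (fun _ => ()) (Nat.card_fin d) (fun _ => ⟨⟨0, hd⟩, rfl⟩) fun _ _ => rfl
  obtain ⟨m, rfl⟩ := Nat.exists_eq_add_of_le' hd
  rw [Nat.card_unique (α := Unit), pow_one, pow_succ] at this
  exact le_of_mul_le_mul_right this (by norm_num)

end Cfsg.Agent.Cj
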